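import Mathlib

/-!
A finite group acting with trivial inertia: the algebra over the invariants is finite etale.
-/

universe u v w

open scoped TensorProduct Pointwise

namespace Groth.Agent.H9Ram

variable {R : Type u} {S : Type v} {G : Type w} [CommRing R] [CommRing S] [Algebra R S] [Group G]
  [MulSemiringAction G S]

/-- Trivial inertia at all maximal ideals gives elements `x i, y i` with `∑ x i * σ (y i) = δ`. -/
theorem exists_galois_coordinates [Finite G]
    (h : ∀ m : Ideal S, m.IsMaximal → m.inertia G = ⊥) :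
    ∃ (n : ℕ) (x y : Fin n → S), (∑ i, x i * y i = 1) ∧
      ∀ σ : G, σ ≠ 1 → ∑ i, x i * σ • y i = 0 := by
  classical
  let F : Set (G → S) := {f | ∃ (n : ℕ) (x y : Fin n → S), ∀ σ, f σ = ∑ i, x i * σ • y i}
  have h1 : (fun _ => 1) ∈ F := ⟨1, 1, 1, fun σ => by simp⟩
  have hmul : ∀ f g, f ∈ F → g ∈ F → f * g ∈ F := by
    rintro f g ⟨n, x, y, hf⟩ ⟨n', x', y', hg⟩
    refine ⟨n * n', fun k => x (finProdFinEquiv.symm k).1 * x' (finProdFinEquiv.symm k).2,
      fun k => y (finProdFinEquiv.symm k).1 * y' (finProdFinEquiv.symm k).2, fun σ => ?_⟩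
    rw [Pi.mul_apply, hf, hg, Finset.sum_mul_sum, ← Fintype.sum_prod_type',
      ← Equiv.sum_comp finProdFinEquiv]
    refine Finset.sum_congr rfl fun k _ => ?_
    simp only [Equiv.symm_apply_apply, smul_mul']
    ring
  have hstep : ∀ τ : G, τ ≠ 1 → ∃ f ∈ F, f 1 = 1 ∧ f τ = 0 := by
    intro τ hτ
    have htop : Ideal.span (Set.range fun x : S => τ • x - x) = ⊤ := by
      by_contra hne
      obtain ⟨m, hm, hle⟩ := Ideal.exists_le_maximal _ hne
      have hmem : τ ∈ m.inertia G := fun x => hle (Ideal.subset_span ⟨x, rfl⟩)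
      rw [h m hm, Subgroup.mem_bot] at hmem
      exact hτ hmem
    obtain ⟨c, hc⟩ := (Finsupp.mem_ideal_span_range_iff_exists_finsupp).mp
      (htop ▸ Submodule.mem_top : (1 : S) ∈ Ideal.span (Set.range fun x : S => τ • x - x))
    let e := c.support.equivFin.symm
    refine ⟨fun σ => 1 - ∑ k, c (e k) * (σ • (e k : S) - e k), ?_, by simp, ?_⟩
    · refine ⟨c.support.card + 1, Fin.cons (1 + ∑ k, c (e k) * e k) (fun k => -c (e k)),
        Fin.cons 1 (fun k => (e k : S)), fun σ => ?_⟩
      rw [Fin.sum_univ_succ]
      simp only [Fin.cons_zero, Fin.cons_succ, smul_one, mul_one, neg_mul, mul_sub,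
        Finset.sum_sub_distrib, Finset.sum_neg_distrib]
      ring
    · simp only
      rw [Equiv.sum_comp e (fun s => c s * (τ • (s : S) - s)),
        Finset.sum_coe_sort c.support (fun s => c s * (τ • s - s))]
      rw [Finsupp.sum] at hc
      rw [hc, sub_self]
  suffices ∀ s : Finset G, (1 : G) ∉ s → ∃ f ∈ F, f 1 = 1 ∧ ∀ τ ∈ s, f τ = 0 by
    have hft := Fintype.ofFinite G
    obtain ⟨f, ⟨n, x, y, hf⟩, hf1, hf0⟩ := this (Finset.univ.erase 1) (by simp)
    exact ⟨n, x, y, by simpa using (hf 1).symm.trans hf1,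
      fun σ hσ => (hf σ).symm.trans (hf0 σ (by simp [hσ]))⟩
  intro s
  induction s using Finset.induction_on with
  | empty => exact fun _ => ⟨_, h1, rfl, by simp⟩
  | insert a s _ ih =>
    intro hs
    obtain ⟨f, hf, hf1, hf0⟩ := ih fun h' => hs (Finset.mem_insert_of_mem h')
    obtain ⟨g, hg, hg1, hg0⟩ := hstep a fun h' => hs (h' ▸ Finset.mem_insert_self _ _)
    refine ⟨f * g, hmul f g hf hg, by simp [hf1, hg1], fun τ hτ => ?_⟩
    rcases Finset.mem_insert.mp hτ with rfl | hτ
    · simp [hg0]
    · simp [hf0 τ hτ]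

variable [Finite G] [SMulCommClass G R S] [Algebra.IsInvariant R S G] [FaithfulSMul R S]

/-- A finite group acting with trivial inertia at every maximal ideal makes the algebra finite
projective and etale over the invariants. -/
theorem finite_etale_of_inertia_eq_bot (h : ∀ m : Ideal S, m.IsMaximal → m.inertia G = ⊥) :
    Module.Finite R S ∧ Module.Projective R S ∧ Algebra.Etale R S := by
  classical
  have := Fintype.ofFinite G
  obtain ⟨n, x, y, h1, h0⟩ := exists_galois_coordinates h
  have hδ : ∀ σ : G, ∑ i, x i * σ • y i = if σ = 1 then 1 else 0 := fun σ => by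
    split_ifs with hσ
    · simpa [hσ] using h1
    · exact h0 σ hσ
  have hδ' : ∀ σ : G, ∑ i, σ • x i * y i = if σ = 1 then 1 else 0 := fun σ => by
    have := congrArg (σ • ·) (hδ σ⁻¹)
    simp only [Finset.smul_sum, smul_mul', smul_inv_smul, inv_eq_one] at this
    rw [this]
    split_ifs <;> simp
  have htr : ∀ s : S, ∃ r : R, algebraMap R S r = ∑ σ : G, σ • s := fun s => by
    refine Algebra.IsInvariant.isInvariant (G := G) (∑ σ : G, σ • s) fun τ => ?_
    rw [Finset.smul_sum]
    simp only [← mul_smul]
    exact Equiv.sum_comp (Equiv.mulLeft τ) (fun σ => σ • s)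
  choose t ht using htr
  have hinj := FaithfulSMul.algebraMap_injective R S
  let tr : S →ₗ[R] R :=
    { toFun := t
      map_add' := fun a b => hinj (by simp only [map_add, ht, smul_add, Finset.sum_add_distrib])
      map_smul' := fun r a => hinj (by
        simp only [RingHom.id_apply, smul_eq_mul, map_mul, ht, Finset.mul_sum, smul_comm _ r]
        exact Finset.sum_congr rfl fun σ _ => Algebra.smul_def r (σ • a)) }
  have hex : ∀ s, ∑ i, t (s * y i) • x i = s := fun s => by
    simp only [Algebra.smul_def, ht, Finset.sum_mul, smul_mul']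
    rw [Finset.sum_comm, Finset.sum_eq_single (1 : G)]
    · simp only [one_smul, mul_assoc, ← Finset.mul_sum]
      rw [show ∑ i, y i * x i = 1 by simpa [mul_comm] using h1, mul_one]
    · intro σ _ hσ
      simp only [mul_assoc, ← Finset.mul_sum]
      rw [show ∑ i, σ • y i * x i = 0 by simpa [mul_comm] using h0 σ hσ, mul_zero]
    · simp
  have hey : ∀ s, ∑ i, t (s * x i) • y i = s := fun s => by
    simp only [Algebra.smul_def, ht, Finset.sum_mul, smul_mul']
    rw [Finset.sum_comm, Finset.sum_eq_single (1 : G)]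
    · simp only [one_smul, mul_assoc, ← Finset.mul_sum]
      rw [h1, mul_one]
    · intro σ _ hσ
      simp only [mul_assoc, ← Finset.mul_sum]
      rw [show ∑ i, σ • x i * y i = 0 by simpa [hσ] using hδ' σ, mul_zero]
    · simp
  let π : (Fin n → R) →ₗ[R] S := Fintype.linearCombination R x
  let ι : S →ₗ[R] (Fin n → R) := LinearMap.pi fun i => tr ∘ₗ LinearMap.mulRight R (y i)
  have hsplit : π ∘ₗ ι = LinearMap.id := LinearMap.ext fun s => by
    simpa [π, ι, tr, Fintype.linearCombination_apply] using hex s
  have hfin : Module.Finite R S := Module.Finite.of_surjective π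
    (Function.LeftInverse.surjective (g := ι) fun s => LinearMap.congr_fun hsplit s)
  have hproj : Module.Projective R S := Module.Projective.of_split ι π hsplit
  have hfp : Module.FinitePresentation R S :=
    Module.finitePresentation_of_projective R S
  have hunr : Algebra.FormallyUnramified R S := by
    rw [Algebra.FormallyUnramified.iff_exists_tensorProduct]
    refine ⟨∑ i, x i ⊗ₜ[R] y i, fun s => ?_, by simpa using h1⟩
    rw [sub_mul, sub_eq_zero, Finset.mul_sum, Finset.mul_sum]
    simp only [Algebra.TensorProduct.tmul_mul_tmul, one_mul]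
    calc ∑ i, x i ⊗ₜ[R] (s * y i)
        = ∑ i, ∑ j, t (s * y i * x j) • (x i ⊗ₜ[R] y j) := by
          refine Finset.sum_congr rfl fun i _ => ?_
          conv_lhs => rw [← hey (s * y i)]
          rw [TensorProduct.tmul_sum]
          exact Finset.sum_congr rfl fun j _ => TensorProduct.tmul_smul _ _ _
      _ = ∑ j, ∑ i, t (s * x j * y i) • (x i ⊗ₜ[R] y j) := by
          rw [Finset.sum_comm]
          exact Finset.sum_congr rfl fun j _ => Finset.sum_congr rfl fun i _ => by
            rw [mul_right_comm]
      _ = ∑ j, (s * x j) ⊗ₜ[R] y j := by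
          refine Finset.sum_congr rfl fun j _ => ?_
          conv_rhs => rw [← hex (s * x j), TensorProduct.sum_tmul]
          exact Finset.sum_congr rfl fun i _ => (TensorProduct.smul_tmul' _ _ _)
  have : Algebra.FinitePresentation R S := Algebra.FinitePresentation.of_finitePresentation R S
  have : Module.Flat R S := Module.Flat.of_projective
  exact ⟨hfin, hproj, Algebra.Etale.of_formallyUnramified_of_flat⟩

end Groth.Agent.H9Ram
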