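import Mathlib
import Groth.Agent.H9Ram.FreeAction
import Groth.Agent.H9Hens.SchemeSections

/-!
Inertia and unramifiedness over henselian local rings.
-/

universe u v w

open scoped Pointwise

namespace Groth.Agent.H9Ram

/-- A finite domain over a henselian local ring is local. -/
theorem isLocalRing_of_finite_of_henselian {R : Type u} {S : Type v} [CommRing R]
    [HenselianLocalRing R] [CommRing S] [IsDomain S] [Algebra R S] [Module.Finite R S] :
    IsLocalRing S := by
  have := H9Hens.henselianRing_maximalIdeal R
  refine IsLocalRing.of_unique_max_ideal ?_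
  obtain ⟨n, hn⟩ := Ideal.exists_maximal S
  refine ⟨n, hn, fun n' hn' => ?_⟩
  by_contra hne
  obtain ⟨e, he, hen, hen'⟩ := H9Hens.exists_idem_isolating (R := R) (B := S)
    (fun b hb => H9Hens.exists_idem_lift (I := IsLocalRing.maximalIdeal R) b hb) ⟨n, hn⟩
  have he1 : e = 1 := (IsIdempotentElem.iff_eq_zero_or_one.mp he).resolve_left
    fun h => hen (by rw [h]; exact n.zero_mem)
  have := hen' ⟨n', hn'⟩ fun h => hne (congrArg MaximalSpectrum.asIdeal h)
  rw [he1] at this
  exact hn'.ne_top ((Ideal.eq_top_iff_one _).mpr this)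

variable {R : Type u} {S : Type v} {G : Type w} [CommRing R] [CommRing S] [Algebra R S] [Group G]
  [MulSemiringAction G S]

/-- Trivial inertia at one maximal ideal propagates to its conjugates. -/
theorem inertia_smul_eq_bot {n : Ideal S} (h : n.inertia G = ⊥) (g : G) :
    (g • n).inertia G = ⊥ := by
  rw [eq_bot_iff]
  intro σ hσ
  have : g⁻¹ * σ * g ∈ n.inertia G := fun x => by
    rw [Submodule.mem_toAddSubgroup, ← Ideal.smul_mem_pointwise_smul_iff (a := g), smul_sub,
      mul_smul, mul_smul, smul_inv_smul]
    exact hσ (g • x)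
  rw [h, Subgroup.mem_bot] at this
  rw [Subgroup.mem_bot, show σ = g * (g⁻¹ * σ * g) * g⁻¹ by group, this]
  group

attribute [local instance] Ideal.Quotient.field

open Polynomial in
/-- If `mS = n` with separable residue field extension, inertia moves by every power of `n`. -/
theorem moves_pow_of_map_eq [SMulCommClass G R S] (p : Ideal R) [p.IsMaximal] (n : Ideal S)
    [n.IsMaximal] [n.LiesOver p] [Algebra.IsSeparable (R ⧸ p) (S ⧸ n)]
    (hmap : p.map (algebraMap R S) = n) {σ : G} (hσ : σ ∈ n.inertia G) (k : ℕ) :
    ∀ x : S, σ • x - x ∈ n ^ (k + 1) := by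
  induction k with
  | zero => simpa using fun x => hσ x
  | succ k ih =>
    intro x
    have hn : ∀ z ∈ n, σ • z - z ∈ n ^ (k + 1 + 1) := fun z hz => by
      rw [← hmap, Ideal.map] at hz
      induction hz using Submodule.span_induction with
      | mem y hy =>
        obtain ⟨r, -, rfl⟩ := hy
        rw [Algebra.algebraMap_eq_smul_one, smul_comm, smul_one, sub_self]
        exact Ideal.zero_mem _
      | zero => simp
      | add a b _ _ ha hb =>
        rw [smul_add, show σ • a + σ • b - (a + b) = (σ • a - a) + (σ • b - b) by ring]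
        exact Ideal.add_mem _ ha hb
      | smul c y hy ha =>
        rw [smul_eq_mul, smul_mul', show σ • c * σ • y - c * y =
          (σ • c - c) * y + σ • c * (σ • y - y) by ring]
        refine Ideal.add_mem _ ?_ (Ideal.mul_mem_left _ _ ha)
        rw [pow_succ]
        exact Ideal.mul_mem_mul (ih c) (hmap ▸ hy)
    obtain ⟨f, hf, -⟩ := (Polynomial.lifts_and_natDegree_eq_and_monic
      (f := Ideal.Quotient.mk p) (show minpoly (R ⧸ p) (Ideal.Quotient.mk n x) ∈
        Polynomial.lifts (Ideal.Quotient.mk p) from
        Polynomial.mem_lifts _ |>.mpr (Polynomial.map_surjective _ Ideal.Quotient.mk_surjective _))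
      (minpoly.monic (Algebra.IsSeparable.isIntegral _ _)))
    have hmap' : ∀ g : R[X], Ideal.Quotient.mk n (aeval x g) =
        aeval (Ideal.Quotient.mk n x) (g.map (Ideal.Quotient.mk p)) := fun g => by
      rw [← Ideal.Quotient.algebraMap_eq, ← Ideal.Quotient.algebraMap_eq p, aeval_map_algebraMap]
      exact ((Polynomial.aeval_algebraMap_apply (S ⧸ n) x g)).symm
    have hfx : aeval x f ∈ n := by
      rw [← Ideal.Quotient.eq_zero_iff_mem, hmap', hf, minpoly.aeval]
    have hf' : aeval x (derivative f) ∉ n := fun hmem => by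
      rw [← Ideal.Quotient.eq_zero_iff_mem, hmap', ← derivative_map, hf] at hmem
      exact (Algebra.IsSeparable.isSeparable (R ⧸ p)
        (Ideal.Quotient.mk n x)).aeval_derivative_ne_zero (minpoly.aeval _ _) hmem
    have h2 : σ • aeval x f = aeval (σ • x) f :=
      (Polynomial.aeval_algHom_apply (MulSemiringAction.toAlgHom R S σ) x f).symm
    obtain ⟨c, hc⟩ := Polynomial.binomExpansion (f.map (algebraMap R S)) x (σ • x - x)
    rw [add_sub_cancel, derivative_map, eval_map, eval_map, eval_map, ← aeval_def, ← aeval_def,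
      ← aeval_def, ← h2] at hc
    have h3 : aeval x (derivative f) * (σ • x - x) ∈ n ^ (k + 1 + 1) := by
      rw [show aeval x (derivative f) * (σ • x - x) =
        (σ • aeval x f - aeval x f) - c * (σ • x - x) ^ 2 by rw [hc]; ring]
      refine Ideal.sub_mem _ (hn _ hfx) (Ideal.mul_mem_left _ _ ?_)
      have := Ideal.pow_mem_pow (ih x) 2
      rw [← pow_mul] at this
      exact Ideal.pow_le_pow_right (by omega) this
    have hrad : (n ^ (k + 1 + 1)).radical = n := by
      rw [Ideal.radical_pow n (Nat.succ_ne_zero _), Ideal.IsPrime.radical inferInstance]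
    have hp : (n ^ (k + 1 + 1)).IsPrimary :=
      Ideal.isPrimary_of_isMaximal_radical (by rw [hrad]; infer_instance)
    rcases (Ideal.isPrimary_iff.mp hp).2 (show (σ • x - x) * aeval x (derivative f) ∈
        n ^ (k + 1 + 1) by rwa [mul_comm]) with h | h
    · exact h
    · rw [hrad] at h; exact absurd h hf'

end Groth.Agent.H9Ram
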