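import Groth.Agent.H12AlgSp.LargeFieldLift
import Mathlib.AlgebraicGeometry.Morphisms.FormallyUnramified
import Mathlib.FieldTheory.Normal.Closure
import Mathlib.GroupTheory.GroupAction.Quotient
import Mathlib.FieldTheory.Galois.Basic

/-!
Residue field extensions of a cover with a transitive group of automorphisms.
-/

namespace Groth.Agent.H9Ram.GaloisCoverResidue

universe u v

open AlgebraicGeometry CategoryTheory IsLocalRing

variable {X Z : Scheme.{u}} (f : Z ⟶ X) [Etale f] {G : Type v} [Group G] (a : G → (Z ⟶ Z))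

/-- The point of a field valued point through which it factors. -/
theorem exists_residue_factor {K : Type u} [Field K] (s : Spec (CommRingCat.of K) ⟶ Z) {z : Z}
    (hs : s.base (closedPoint K) = z) :
    ∃ φ : Z.residueField z ⟶ CommRingCat.of K, Spec.map φ ≫ Z.fromSpecResidueField z = s := by
  refine ⟨(Z.residueFieldCongr hs.symm).hom ≫ Scheme.descResidueField (Scheme.stalkClosedPointTo s), ?_⟩
  rw [Spec.map_comp, Category.assoc, Scheme.residueFieldCongr_fromSpecResidueField,
    Scheme.descResidueField_stalkClosedPointTo_fromSpecResidueField]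

/-- A point valued in a field maps the closed point to its point. -/
theorem base_closedPoint {K : Type u} [Field K] {z : Z} (φ : Z.residueField z ⟶ CommRingCat.of K) :
    (Spec.map φ ≫ Z.fromSpecResidueField z).base (closedPoint K) = z := by
  rw [Scheme.Hom.comp_apply]
  exact Scheme.fromSpecResidueField_apply z _

omit [Etale f] in
theorem compatible {K : Type u} [Field K] {z : Z} (φ : Z.residueField z ⟶ CommRingCat.of K)
    (ψ : X.residueField (f.base z) ⟶ CommRingCat.of K) :
    (Spec.map φ ≫ Z.fromSpecResidueField z) ≫ f = Spec.map ψ ≫ X.fromSpecResidueField (f.base z) ↔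
      f.residueFieldMap z ≫ φ = ψ := by
  rw [Category.assoc, ← Scheme.Hom.SpecMap_residueFieldMap_fromSpecResidueField, ← Category.assoc,
    ← Spec.map_comp, cancel_mono]
  exact Spec.map_inj

/-- Transitivity on the geometric points over each geometric point makes the residue field extensions
Galois, of degree dividing the order of the group. -/
theorem galois_and_dvd (hone : a 1 = 𝟙 Z) (hmul : ∀ σ τ, a (σ * τ) = a τ ≫ a σ) (hover : ∀ σ, a σ ≫ f = f)
    (htrans : ∀ (Ω : Type u) [Field Ω] [IsAlgClosed Ω] (s t : Spec (CommRingCat.of Ω) ⟶ Z),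
      s ≫ f = t ≫ f → ∃ σ, s ≫ a σ = t)
    (z : Z) :
    letI : Algebra (X.residueField (f.base z)) (Z.residueField z) := (f.residueFieldMap z).hom.toAlgebra
    FiniteDimensional (X.residueField (f.base z)) (Z.residueField z) ∧
      IsGalois (X.residueField (f.base z)) (Z.residueField z) ∧
      Module.finrank (X.residueField (f.base z)) (Z.residueField z) ∣ Nat.card G := by
  let κx := X.residueField (f.base z)
  let κz := Z.residueField z
  let : Algebra κx κz := (f.residueFieldMap z).hom.toAlgebra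
  have hfin : Module.Finite κx κz := H12AlgSp.finite_residueFieldMap_etale f z
  have hsep : Algebra.IsSeparable κx κz := inferInstance
  let Ω := AlgebraicClosure κx
  let τ₀ : κz →ₐ[κx] Ω := IsAlgClosed.lift
  let ξ : Spec (CommRingCat.of Ω) ⟶ X :=
    Spec.map (CommRingCat.ofHom (algebraMap κx Ω)) ≫ X.fromSpecResidueField (f.base z)
  let F := {s : Spec (CommRingCat.of Ω) ⟶ Z // s ≫ f = ξ}
  let mkPt : (κz →ₐ[κx] Ω) → F := fun τ =>
    ⟨Spec.map (CommRingCat.ofHom τ.toRingHom) ≫ Z.fromSpecResidueField z,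
      (compatible f _ _).mpr (CommRingCat.hom_ext (RingHom.ext τ.commutes))⟩
  have hmk_pt : ∀ τ, (mkPt τ).1.base (closedPoint Ω) = z := fun τ =>
    base_closedPoint (z := z) (CommRingCat.ofHom τ.toRingHom)
  have hmk_inj : Function.Injective mkPt := fun τ τ' h => by
    have h1 := congrArg Subtype.val h
    rw [cancel_mono] at h1
    have h2 := Spec.map_injective h1
    exact AlgHom.ext fun r => RingHom.congr_fun (congrArg CommRingCat.Hom.hom h2) r
  have hmk_surj : ∀ s : F, s.1.base (closedPoint Ω) = z → ∃ τ, mkPt τ = s := by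
    intro s hs
    obtain ⟨φ, hφ⟩ := exists_residue_factor s.1 hs
    have hc := (compatible f φ (CommRingCat.ofHom (algebraMap κx Ω))).mp (by rw [hφ]; exact s.2)
    exact ⟨{ φ.hom with commutes' := fun r => RingHom.congr_fun (congrArg CommRingCat.Hom.hom hc) r },
      Subtype.ext hφ⟩
  let : MulAction G F :=
    { smul := fun σ s => ⟨s.1 ≫ a σ, by rw [Category.assoc, hover, s.2]⟩
      one_smul := fun s => Subtype.ext (by show s.1 ≫ a 1 = s.1; rw [hone, Category.comp_id])
      mul_smul := fun σ τ s => Subtype.ext (by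
        show s.1 ≫ a (σ * τ) = (s.1 ≫ a τ) ≫ a σ; rw [hmul, Category.assoc]) }
  have hsmul : ∀ (σ : G) (s : F), (σ • s).1.base (closedPoint Ω) = (a σ).base (s.1.base (closedPoint Ω)) :=
    fun σ s => Scheme.Hom.comp_apply _ _ _
  let H : Subgroup G :=
    { carrier := {σ | (a σ).base z = z}
      one_mem' := by
        show (a 1).base z = z
        rw [hone]; rfl
      mul_mem' := fun {σ τ} hσ hτ => by
        show (a (σ * τ)).base z = z
        rw [hmul, Scheme.Hom.comp_apply, show (a τ).base z = z from hτ]; exact hσ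
      inv_mem' := fun {σ} hσ => by
        show (a σ⁻¹).base z = z
        have h1 : (a σ⁻¹).base ((a σ).base z) = z := by
          rw [← Scheme.Hom.comp_apply, ← hmul, inv_mul_cancel, hone]; rfl
        rwa [show (a σ).base z = z from hσ] at h1 }
  have horb : ∀ τ : κz →ₐ[κx] Ω, ∃ σ ∈ H, σ • mkPt τ₀ = mkPt τ := by
    intro τ
    obtain ⟨σ, hσ⟩ := htrans Ω (mkPt τ₀).1 (mkPt τ).1 ((mkPt τ₀).2.trans (mkPt τ).2.symm)
    have h1 : σ • mkPt τ₀ = mkPt τ := Subtype.ext hσ
    refine ⟨σ, ?_, h1⟩
    have h2 := hsmul σ (mkPt τ₀)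
    rw [h1, hmk_pt, hmk_pt] at h2
    exact h2.symm
  have hrange : ∀ τ : κz →ₐ[κx] Ω, τ.fieldRange ≤ τ₀.fieldRange := by
    intro τ
    obtain ⟨σ, hσz, hσ⟩ := horb τ
    let φ : κz ⟶ κz := (Z.residueFieldCongr (hσz : (a σ).base z = z).symm).hom ≫ (a σ).residueFieldMap z
    have h1 : Spec.map φ ≫ Z.fromSpecResidueField z = Z.fromSpecResidueField z ≫ a σ := by
      rw [Spec.map_comp, Category.assoc, Scheme.residueFieldCongr_fromSpecResidueField,
        Scheme.Hom.SpecMap_residueFieldMap_fromSpecResidueField]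
    have h2 : φ ≫ CommRingCat.ofHom τ₀.toRingHom = CommRingCat.ofHom τ.toRingHom := by
      apply Spec.map_injective
      rw [← cancel_mono (Z.fromSpecResidueField z), Spec.map_comp, Category.assoc, h1, ← Category.assoc]
      exact congrArg Subtype.val hσ
    rintro _ ⟨r, rfl⟩
    exact ⟨φ.hom r, RingHom.congr_fun (congrArg CommRingCat.Hom.hom h2) r⟩
  have hnc : IntermediateField.normalClosure κx κz Ω = τ₀.fieldRange :=
    le_antisymm (iSup_le hrange) (le_iSup (fun g : κz →ₐ[κx] Ω => g.fieldRange) τ₀)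
  have hnormal : Normal κx τ₀.fieldRange := hnc ▸ normalClosure.normal κx κz Ω
  let e₀ : τ₀.fieldRange ≃ₐ[κx] κz := (AlgEquiv.ofInjectiveField τ₀).symm
  have : Normal κx κz := Normal.of_algEquiv (E := τ₀.fieldRange) e₀
  refine ⟨hfin, ⟨⟩, ?_⟩
  have hcard : Nat.card (κz →ₐ[κx] Ω) = Module.finrank κx κz := by
    rw [Nat.card_eq_fintype_card, AlgHom.card]
  have hE : Nat.card (κz →ₐ[κx] Ω) = (MulAction.orbit H (mkPt τ₀)).ncard := by
    rw [show MulAction.orbit H (mkPt τ₀) = Set.range mkPt from Set.ext fun s => ⟨?_, ?_⟩,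
      ← Nat.card_coe_set_eq, Nat.card_range_of_injective hmk_inj]
    · rintro ⟨σ, rfl⟩
      obtain ⟨τ, hτ⟩ := hmk_surj ((σ : G) • mkPt τ₀) (by rw [hsmul, hmk_pt]; exact σ.2)
      exact ⟨τ, hτ⟩
    · rintro ⟨τ, rfl⟩
      obtain ⟨σ, hσH, hσ⟩ := horb τ
      exact ⟨⟨σ, hσH⟩, hσ⟩
  rw [← hcard, hE, ← MulAction.index_stabilizer]
  exact (Subgroup.index_dvd_card _).trans (Subgroup.card_subgroup_dvd_card H)

end Groth.Agent.H9Ram.GaloisCoverResidue
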