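import Groth.Agent.H9Ram.ValSub

/-!
Tame ramification and being unramified in towers of finite separable extensions.
-/

namespace Groth.Agent.H9Ram.TowerExt

universe u

open IsLocalRing

/-- Tameness at one valuation subring. -/
def TameAt {A F : Type u} [CommRing A] [IsLocalRing A] [Field F] (g : A →+* F)
    (V : ValuationSubring F) (h : EtRam.Dominates A g V) : Prop :=
  letI : Algebra A V := (RingHom.codRestrict g V h.1).toAlgebra
  ∀ [IsLocalHom (algebraMap A V)],
    Algebra.IsSeparable (ResidueField A) (ResidueField V) ∧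
    ∀ p : ℕ, p.Prime → CharP (ResidueField A) p →
      ¬ p ∣ Ideal.ramificationIdx' (maximalIdeal A) (maximalIdeal V)

/-- Being unramified at one valuation subring. -/
def UnrAt {A F : Type u} [CommRing A] [IsLocalRing A] [Field F] (g : A →+* F)
    (V : ValuationSubring F) (h : EtRam.Dominates A g V) : Prop :=
  letI : Algebra A V := (RingHom.codRestrict g V h.1).toAlgebra
  ∀ [IsLocalHom (algebraMap A V)],
    EtRam.IsWeaklyUnramified A V ∧ Algebra.IsSeparable (ResidueField A) (ResidueField V)

variable {A K L M : Type u} [CommRing A] [IsDomain A] [IsDiscreteValuationRing A] [Field K]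
  [Algebra A K] [IsFractionRing A K] [Field L] [Field M] [Algebra K L] [Algebra K M] [Algebra L M]
  [IsScalarTower K L M] [FiniteDimensional K M] [Algebra.IsSeparable K M]
  (W : ValuationSubring M)
  (h : EtRam.Dominates A ((algebraMap K M).comp (algebraMap A K)) W)

omit [IsFractionRing A K] [FiniteDimensional K M]
  [Algebra.IsSeparable K M] in
include h in
/-- The restriction dominates. -/
theorem restrict :
    EtRam.Dominates A ((algebraMap K L).comp (algebraMap A K)) (W.comap (algebraMap L M)) := by
  refine Dom.comap (algebraMap L M) ?_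
  rw [← RingHom.comp_assoc, ← IsScalarTower.algebraMap_eq]
  exact h

/-- Both conditions are transitive and descend. -/
theorem tower_iff :
    (TameAt _ W h ↔ TameAt _ (W.comap (algebraMap L M)) (restrict W h) ∧
      TameAt _ W (Dom.self (algebraMap L M) W)) ∧
    (UnrAt _ W h ↔ UnrAt _ (W.comap (algebraMap L M)) (restrict W h) ∧
      UnrAt _ W (Dom.self (algebraMap L M) W)) := by
  have hV := restrict (L := L) W h
  have : FiniteDimensional K L := FiniteDimensional.left K L M
  have : FiniteDimensional L M := FiniteDimensional.right K L M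
  have : Algebra.IsSeparable K L := Algebra.isSeparable_tower_bot_of_isSeparable K L M
  have := ValSub.isDVR hV
  have := ValSub.isDVR h
  let V := W.comap (algebraMap L M)
  let : Algebra A W := (RingHom.codRestrict ((algebraMap K M).comp (algebraMap A K)) W h.1).toAlgebra
  let : Algebra A V := (RingHom.codRestrict ((algebraMap K L).comp (algebraMap A K)) V hV.1).toAlgebra
  let : Algebra V W := (RingHom.codRestrict ((algebraMap L M).comp V.subtype) W
    (Dom.self (algebraMap L M) W).1).toAlgebra
  have : IsScalarTower A V W := IsScalarTower.of_algebraMap_eq fun a =>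
    Subtype.ext (IsScalarTower.algebraMap_apply K L M (algebraMap A K a))
  have hl₁ : IsLocalHom (algebraMap A V) := Dom.isLocalHom hV
  have hl₂ : IsLocalHom (algebraMap V W) := Dom.isLocalHom (Dom.self (algebraMap L M) W)
  have hl₃ : IsLocalHom (algebraMap A W) := Dom.isLocalHom h
  have hinjA : Function.Injective ((algebraMap K L).comp (algebraMap A K)) :=
    (algebraMap K L).injective.comp (IsFractionRing.injective A K)
  have hi₁ : Function.Injective (algebraMap A V) := ValSub.codRestrict_injective hinjA hV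
  have hi₂ : Function.Injective (algebraMap V W) :=
    ValSub.codRestrict_injective (g := (algebraMap L M).comp V.subtype) (fun _ _ e => Subtype.ext ((algebraMap L M).injective e))
      (Dom.self (algebraMap L M) W)
  have he := ValSub.ramificationIdx_mul hi₁ hi₂
  have hs := ValSub.isSeparable_residue_iff (R := A) (S := V) (T := W)
  have hp : ∀ p : ℕ, CharP (ResidueField A) p ↔ CharP (ResidueField V) p := fun p =>
    RingHom.charP_iff (algebraMap (ResidueField A) (ResidueField V))
      (algebraMap (ResidueField A) (ResidueField V)).injective p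
  refine ⟨⟨fun hT => ?_, fun hT => ?_⟩, ⟨fun hT => ?_, fun hT => ?_⟩⟩
  · obtain ⟨h₁, h₂⟩ := @hT hl₃
    refine ⟨?_, ?_⟩
    · intro _
      exact ⟨(hs.mp h₁).1, fun p hpp hc hd => h₂ p hpp hc (he ▸ hd.mul_right _)⟩
    · intro _
      exact ⟨(hs.mp h₁).2, fun p hpp hc hd => h₂ p hpp ((hp p).mpr hc) (he ▸ hd.mul_left _)⟩
  · obtain ⟨h₁, h₂⟩ := @hT.1 hl₁
    obtain ⟨h₁', h₂'⟩ := @hT.2 hl₂
    intro _
    refine ⟨hs.mpr ⟨h₁, h₁'⟩, fun p hpp hc hd => ?_⟩
    rw [he] at hd
    exact (hpp.dvd_mul.mp hd).elim (h₂ p hpp hc) (h₂' p hpp ((hp p).mp hc))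
  · obtain ⟨h₁, h₂⟩ := @hT hl₃
    have hi₃ : Function.Injective (algebraMap A W) := by
      rw [IsScalarTower.algebraMap_eq A V W]; exact hi₂.comp hi₁
    have hm := (ValSub.map_maximalIdeal_eq_iff hi₃).mp h₁
    rw [he] at hm
    refine ⟨?_, ?_⟩
    · intro _
      exact ⟨(ValSub.map_maximalIdeal_eq_iff hi₁).mpr (Nat.eq_one_of_mul_eq_one_right hm), (hs.mp h₂).1⟩
    · intro _
      exact ⟨(ValSub.map_maximalIdeal_eq_iff hi₂).mpr (Nat.eq_one_of_mul_eq_one_left hm), (hs.mp h₂).2⟩
  · obtain ⟨h₁, h₁'⟩ := @hT.1 hl₁
    obtain ⟨h₂, h₂'⟩ := @hT.2 hl₂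
    intro _
    refine ⟨?_, hs.mpr ⟨h₁', h₂'⟩⟩
    show (maximalIdeal A).map (algebraMap A W) = _
    rw [IsScalarTower.algebraMap_eq A V W, ← Ideal.map_map]
    exact (congrArg _ h₁).trans h₂

omit [IsFractionRing A K] [FiniteDimensional K M]
  [Algebra.IsSeparable K M] in
/-- Every dominating valuation subring is a restriction of one upstairs. -/
theorem exists_extension {V : ValuationSubring L}
    (hV : EtRam.Dominates A ((algebraMap K L).comp (algebraMap A K)) V) :
    ∃ W : ValuationSubring M, V = W.comap (algebraMap L M) ∧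
      EtRam.Dominates A ((algebraMap K M).comp (algebraMap A K)) W := by
  obtain ⟨W, hW⟩ := ValSub.exists_comap_eq (algebraMap L M) V
  refine ⟨W, hW, ?_⟩
  subst hW
  have := Dom.isLocalHom hV
  have h2 := Dom.trans (RingHom.codRestrict ((algebraMap K L).comp (algebraMap A K)) _ hV.1)
    (Dom.self (algebraMap L M) W)
  rw [IsScalarTower.algebraMap_eq K L M]
  exact h2

end Groth.Agent.H9Ram.TowerExt
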