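import Groth.Agent.H9Ram.ValSub
import Groth.Agent.H9Ram.TowerExt
import Mathlib.RingTheory.RamificationInertia.Basic
import Mathlib.RingTheory.RamificationInertia.Ramification
import Mathlib.RingTheory.RamificationInertia.Inertia
import Mathlib.NumberTheory.RamificationInertia.Galois
import Mathlib.FieldTheory.PurelyInseparable.Basic

/-!
Galois extensions of degree prime to the residue characteristic are tamely ramified.
-/

namespace Groth.Agent.H9Ram.TameGalois

universe u

open IsLocalRing IsDedekindDomain

attribute [local instance] Ideal.Quotient.field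

/-- A finite extension of degree prime to the characteristic is separable. -/
theorem isSeparable_of_degree {F E : Type u} [Field F] [Field E] [Algebra F E] [FiniteDimensional F E]
    (h : (Module.finrank F E : F) ≠ 0) : Algebra.IsSeparable F E := by
  rw [isSeparable_iff_finInsepDegree_eq_one]
  obtain ⟨p, hpc⟩ := CharP.exists F
  rcases CharP.char_is_prime_or_zero F p with hp | rfl
  · have : Fact p.Prime := ⟨hp⟩
    obtain ⟨m, hm⟩ := finInsepDegree_eq_pow F E p
    rcases Nat.eq_zero_or_pos m with rfl | hm0
    · simpa using hm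
    refine absurd ((CharP.cast_eq_zero_iff F p _).mpr ?_) h
    rw [← Field.finSepDegree_mul_finInsepDegree F E, hm]
    exact (dvd_pow_self _ hm0.ne').mul_left _
  · have : CharZero F := CharP.charP_to_charZero F
    obtain ⟨m, hm⟩ := finInsepDegree_eq_pow F E 1
    rw [hm, one_pow]

variable {A K L : Type u} [CommRing A] [IsDomain A] [IsDiscreteValuationRing A] [Field K] [Algebra A K]
  [IsFractionRing A K] [Field L] [Algebra K L] [FiniteDimensional K L] [IsGalois K L]

/-- A Galois extension of degree prime to the residue characteristic is tamely ramified. -/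
theorem tame_of_galois (hn : (Module.finrank K L : ResidueField A) ≠ 0) :
    EtRam.IsTamelyRamified A ((algebraMap K L).comp (algebraMap A K)) := by
  intro W hW
  let g := (algebraMap K L).comp (algebraMap A K)
  let : Algebra A L := g.toAlgebra
  have : IsScalarTower A K L := IsScalarTower.of_algebraMap_eq fun _ => rfl
  let B := integralClosure A L
  have : IsFractionRing B L := integralClosure.isFractionRing_of_finite_extension K L
  let := IsIntegralClosure.MulSemiringAction A K L B
  have : Algebra.IsIntegral A B := IsIntegralClosure.isIntegral_algebra A L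
  have : IsGaloisGroup (L ≃ₐ[K] L) A B := IsGaloisGroup.of_isFractionRing _ _ _ K L
  have : Module.Finite A B := IsIntegralClosure.finite A K L B
  have : IsDedekindDomain B := IsIntegralClosure.isDedekindDomain A K L B
  have hinjB : Function.Injective (algebraMap A B) := fun a b e =>
    IsFractionRing.injective A K ((algebraMap K L).injective (congrArg Subtype.val e))
  have : FaithfulSMul A B := (faithfulSMul_iff_algebraMap_injective A B).mpr hinjB
  have : Module.Flat A B := inferInstance
  let : Algebra A W := (RingHom.codRestrict g W hW.1).toAlgebra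
  intro _
  have := ValSub.isDVR hW
  have : IsScalarTower A W L := IsScalarTower.of_algebraMap_eq fun _ => rfl
  have hBW : ∀ b : B, (b : L) ∈ W := fun b => by
    obtain ⟨y, hy⟩ := IsIntegrallyClosed.isIntegral_iff.mp (b.2.tower_top (A := W))
    exact hy ▸ y.2
  let : Algebra B W := ((B.val.toRingHom).codRestrict W.toSubring hBW).toAlgebra
  have : IsScalarTower A B W := IsScalarTower.of_algebraMap_eq fun _ => rfl
  let P : Ideal B := (maximalIdeal W).comap (algebraMap B W)
  have hPcomap : P.comap (algebraMap A B) = maximalIdeal A := by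
    rw [Ideal.comap_comap, ← IsScalarTower.algebraMap_eq]
    exact maximalIdeal_comap (algebraMap A W)
  have : P.LiesOver (maximalIdeal A) := ⟨hPcomap.symm⟩
  have : P.IsPrime := Ideal.IsPrime.comap _
  have hP0 : P ≠ ⊥ := fun h0 => IsDiscreteValuationRing.not_a_field A (by
    rw [← hPcomap, h0, Ideal.comap_bot_of_injective _ hinjB])
  have : P.IsMaximal := Ideal.IsPrime.isMaximal inferInstance hP0
  let v : HeightOneSpectrum B := ⟨P, inferInstance, hP0⟩
  -- `W` is the valuation subring of `P`
  have hWv : ∀ x : L, x ∈ W → ∃ b : B, ∃ s : P.primeCompl, x * (s : B) = b := by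
    have heq : W = (v.valuation L).valuationSubring := by
      have hne : W ≠ ⊤ := by
        rintro rfl
        obtain ⟨π, hπ⟩ := IsDiscreteValuationRing.exists_irreducible A
        have h1 : algebraMap A (⊤ : ValuationSubring L) π ∈ maximalIdeal (⊤ : ValuationSubring L) :=
          map_nonunit _ π ((mem_maximalIdeal π).mpr hπ.not_isUnit)
        refine (mem_maximalIdeal _).mp h1 ⟨⟨_, ⟨(g π)⁻¹, trivial⟩, Subtype.ext ?_, Subtype.ext ?_⟩, rfl⟩
        · exact mul_inv_cancel₀ ((_root_.map_ne_zero (algebraMap K L)).mpr
            ((map_ne_zero_iff _ (IsFractionRing.injective A K)).mpr hπ.ne_zero))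
        · exact inv_mul_cancel₀ ((_root_.map_ne_zero (algebraMap K L)).mpr
            ((map_ne_zero_iff _ (IsFractionRing.injective A K)).mpr hπ.ne_zero))
      obtain ⟨w, hw⟩ := (Groth.Agent.H02CA.valuationSubring_ne_top_containing_iff W).mp
        ⟨by rintro _ ⟨b, rfl⟩; exact hBW b, hne⟩
      have hvw : v = w := by
        refine HeightOneSpectrum.ext (Ideal.ext fun b => ?_)
        show algebraMap B W b ∈ maximalIdeal W ↔ b ∈ w.asIdeal
        rw [← w.valuation_lt_one_iff_mem (K := L), ValuationSubring.valuation_lt_one_iff,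
          ← (w.valuation L).isEquiv_valuation_valuationSubring.lt_one_iff_lt_one.symm]
        subst hw
        rfl
      rw [hvw]; exact hw
    intro x hx
    rw [heq] at hx
    obtain ⟨b, s, hs⟩ := v.exists_primeCompl_mul_eq_of_integer x ((Valuation.mem_valuationSubring_iff _ _).mp hx)
    exact ⟨b, s, hs⟩
  have hunit : ∀ s : P.primeCompl, IsUnit (algebraMap B W s) := fun s => of_not_not fun h => s.2 h
  have : IsLocalization P.primeCompl W := {
    map_units := hunit
    surj := fun y => by
      obtain ⟨b, s, hs⟩ := hWv y y.2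
      exact ⟨⟨b, s⟩, Subtype.ext hs⟩
    exists_of_eq := fun {x y} hxy =>
      ⟨1, congrArg _ (Subtype.ext (congrArg (fun z : W => (z : L)) hxy :))⟩ }
  have hPW : P.map (algebraMap B W) = maximalIdeal W :=
    IsLocalization.AtPrime.map_eq_maximalIdeal P W
  -- the indices
  have hA0 : maximalIdeal A ≠ ⊥ := IsDiscreteValuationRing.not_a_field A
  set e := P.ramificationIdx A with he
  have he' : (maximalIdeal A).ramificationIdx' P = e := Ideal.ramificationIdx'_eq_ramificationIdx _ P hA0
  have heW : (maximalIdeal A).ramificationIdx' (maximalIdeal W) = e := by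
    obtain ⟨ϖ, hϖ⟩ := IsDiscreteValuationRing.exists_irreducible W
    obtain ⟨I, hPI, hI⟩ := Ideal.eq_prime_pow_mul_coprime (Ideal.map_ne_bot_of_ne_bot (S := B) hA0) P
    rw [← Ideal.IsDedekindDomain.ramificationIdx'_eq_normalizedFactors_count (Ideal.map_ne_bot_of_ne_bot hA0)
      inferInstance hP0, he'] at hI
    have hIP : ¬ I ≤ P := fun hle =>
      (inferInstance : P.IsPrime).ne_top ((sup_of_le_left hle).symm.trans hPI)
    have hmap : (maximalIdeal A).map (algebraMap A W) = Ideal.span {ϖ ^ e} := by
      rw [IsScalarTower.algebraMap_eq A B W, ← Ideal.map_map, hI, Ideal.map_mul, Ideal.map_pow, hPW,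
        show I.map (algebraMap B W) = ⊤ by
          obtain ⟨i, hi, hiP⟩ := SetLike.not_le_iff_exists.mp hIP
          exact Ideal.eq_top_of_isUnit_mem _ (Ideal.mem_map_of_mem _ hi) (hunit ⟨i, hiP⟩),
        Ideal.mul_top, hϖ.maximalIdeal_eq, Ideal.span_singleton_pow]
    refine Ideal.ramificationIdx'_spec ?_ ?_
    · rw [hmap, hϖ.maximalIdeal_eq, Ideal.span_singleton_pow]
    · rw [hmap, hϖ.maximalIdeal_eq, Ideal.span_singleton_pow, Ideal.span_singleton_le_span_singleton,
        pow_dvd_pow_iff hϖ.ne_zero hϖ.not_isUnit]
      omega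
  have hef : e * P.inertiaDeg A ∣ Module.finrank K L := by
    rw [← IsGalois.card_aut_eq_finrank, ← Ideal.ncard_primesOver_mul_ramificationIdxIn_mul_inertiaDegIn
      (maximalIdeal A) B (L ≃ₐ[K] L), Ideal.ramificationIdxIn_eq_ramificationIdx _ P (L ≃ₐ[K] L),
      Ideal.inertiaDegIn_eq_inertiaDeg _ P (L ≃ₐ[K] L)]
    exact dvd_mul_left _ _
  have hne : ∀ d, d ∣ Module.finrank K L → (d : ResidueField A) ≠ 0 := fun d ⟨c, hc⟩ h0 => hn (by
    rw [hc, Nat.cast_mul, h0, zero_mul])
  refine ⟨?_, fun p _ hc hd => ?_⟩
  · have hdeg : ((Module.finrank (A ⧸ maximalIdeal A) (B ⧸ P) : ℕ) : ResidueField A) ≠ 0 := by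
      rw [← Ideal.inertiaDeg'_algebraMap, Ideal.inertiaDeg'_eq_inertiaDeg]
      exact hne _ ((dvd_mul_left _ _).trans hef)
    have : Module.Finite (A ⧸ maximalIdeal A) (B ⧸ P) := Module.Finite.of_restrictScalars_finite A _ _
    have hs : Algebra.IsSeparable (A ⧸ maximalIdeal A) (B ⧸ P) :=
      isSeparable_of_degree (F := A ⧸ maximalIdeal A) hdeg
    let φ : B ⧸ P →+* ResidueField W :=
      Ideal.Quotient.lift P ((residue W).comp (algebraMap B W)) fun b hb => (residue_eq_zero_iff _).mpr hb
    have hφ : Function.Surjective φ := fun z => by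
      obtain ⟨y, rfl⟩ := residue_surjective z
      obtain ⟨⟨b, s⟩, hy⟩ := IsLocalization.surj P.primeCompl y
      obtain ⟨s', i, hi, hss⟩ := (inferInstance : P.IsMaximal).exists_inv s.2
      refine ⟨Ideal.Quotient.mk P (b * s'), ?_⟩
      have h1 : residue W (algebraMap B W s) * residue W (algebraMap B W s') = 1 := by
        rw [← map_mul, ← map_mul, ← sub_eq_zero, ← map_one (residue W), ← map_one (algebraMap B W),
          ← map_sub, ← map_sub, residue_eq_zero_iff]
        show (s : B) * s' - 1 ∈ P
        rw [← hss, show (s : B) * s' - (s' * s + i) = -i by ring]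
        exact neg_mem hi
      show residue W (algebraMap B W (b * s')) = residue W y
      rw [map_mul, map_mul, ← hy, map_mul]
      linear_combination residue W y * h1
    let : Algebra (A ⧸ maximalIdeal A) (ResidueField W) :=
      inferInstanceAs (Algebra (ResidueField A) (ResidueField W))
    have hcomm : ∀ c, φ (algebraMap (A ⧸ maximalIdeal A) (B ⧸ P) c) =
        algebraMap (A ⧸ maximalIdeal A) (ResidueField W) c := fun c => by
      obtain ⟨a, rfl⟩ := Ideal.Quotient.mk_surjective c
      show residue W (algebraMap B W (algebraMap A B a)) = residue W (algebraMap A W a)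
      exact congrArg (residue W) (IsScalarTower.algebraMap_apply A B W a).symm
    let e' : (B ⧸ P) ≃ₐ[A ⧸ maximalIdeal A] ResidueField W :=
      AlgEquiv.ofBijective (AlgHom.mk φ hcomm) ⟨φ.injective, hφ⟩
    have h2 : Algebra.IsSeparable (A ⧸ maximalIdeal A) (ResidueField W) := AlgEquiv.Algebra.isSeparable e'
    exact h2
  · rw [heW] at hd
    exact hne p (hd.trans ((dvd_mul_right _ _).trans hef)) ((CharP.cast_eq_zero_iff _ p p).mpr dvd_rfl)

end Groth.Agent.H9Ram.TameGalois
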