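import Groth.Agent.H9Ram.TowerExt
import Mathlib.RingTheory.Unramified.LocalRing
import Mathlib.RingTheory.TensorProduct.Basic
import Mathlib.RingTheory.DiscreteValuationRing.TFAE

/-!
Being unramified is stable under extensions of the discrete valuation ring.
-/

namespace Groth.Agent.H9Ram.UnramBC

universe u

open IsLocalRing
open scoped TensorProduct

variable {A B K L K' F : Type u} [CommRing A] [IsDomain A] [IsDiscreteValuationRing A]
  [CommRing B] [IsDomain B] [IsDiscreteValuationRing B] [Algebra A B] [IsLocalHom (algebraMap A B)]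
  [Field K] [Field L] [Field K'] [Field F] [Algebra A K] [IsFractionRing A K] [Algebra B L]
  [IsFractionRing B L] [Algebra K L] [Algebra A L] [IsScalarTower A K L] [IsScalarTower A B L]
  [Algebra K K'] [FiniteDimensional K K'] [Algebra.IsSeparable K K']

/-- A compositum of an unramified extension with the fraction field upstairs is unramified. -/
theorem isUnramifiedExt_of_compositum
    (h : EtRam.IsUnramifiedExt A ((algebraMap K K').comp (algebraMap A K)))
    (iK : K' →+* F) (iL : L →+* F) (hc : iK.comp (algebraMap K K') = iL.comp (algebraMap K L))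
    (hgen : ∀ x : F, x ∈ Subfield.closure (Set.range iK ∪ Set.range iL)) :
    EtRam.IsUnramifiedExt B (iL.comp (algebraMap B L)) := by
  intro W hW
  let : Algebra B W := (RingHom.codRestrict (iL.comp (algebraMap B L)) W hW.1).toAlgebra
  intro _
  let V := W.comap iK
  have hA : EtRam.Dominates A (iK.comp ((algebraMap K K').comp (algebraMap A K))) W := by
    have h2 := Dom.trans (algebraMap A B) hW
    rwa [RingHom.comp_assoc, ← IsScalarTower.algebraMap_eq A B L, IsScalarTower.algebraMap_eq A K L,
      ← RingHom.comp_assoc, ← hc, RingHom.comp_assoc] at h2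
  have hV : EtRam.Dominates A ((algebraMap K K').comp (algebraMap A K)) V := Dom.comap iK hA
  let : Algebra A V := (RingHom.codRestrict ((algebraMap K K').comp (algebraMap A K)) V hV.1).toAlgebra
  have : IsLocalHom (algebraMap A V) := Dom.isLocalHom hV
  obtain ⟨hw, hs⟩ := h V hV
  have hess : Algebra.EssFiniteType A V := (ValSub.main hV).2
  have : Algebra.FormallyUnramified A V :=
    Algebra.FormallyUnramified.iff_map_maximalIdeal_eq.mpr ⟨hs, hw⟩
  let : Algebra A W := ((algebraMap B W).comp (algebraMap A B)).toAlgebra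
  have : IsScalarTower A B W := IsScalarTower.of_algebraMap_eq fun _ => rfl
  let i : V →ₐ[A] W :=
    { EtRam.inclOfComap W iK with
      commutes' := fun a => Subtype.ext (by
        show iK (algebraMap K K' (algebraMap A K a)) = iL (algebraMap B L (algebraMap A B a))
        rw [← IsScalarTower.algebraMap_apply A B L, IsScalarTower.algebraMap_apply A K L]
        exact RingHom.congr_fun hc _) }
  let ψ : B ⊗[A] V →ₐ[B] W :=
    Algebra.TensorProduct.lift (Algebra.ofId B W) i fun _ _ => Commute.all _ _
  let P : Ideal (B ⊗[A] V) := (maximalIdeal W).comap ψ.toRingHom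
  let Tp := Localization.AtPrime P
  have hu : ∀ t : P.primeCompl, IsUnit (ψ t) := fun t => of_not_not fun hn => t.2 hn
  let φ : Tp →ₐ[B] W := IsLocalization.liftAlgHom (M := P.primeCompl) (f := ψ) hu
  have hφ : ∀ t, φ (algebraMap (B ⊗[A] V) Tp t) = ψ t := fun t => IsLocalization.lift_eq hu t
  have : Algebra.FormallyUnramified (B ⊗[A] V) Tp :=
    Algebra.FormallyUnramified.of_isLocalization P.primeCompl
  have : Algebra.FormallyUnramified B Tp := Algebra.FormallyUnramified.comp B (B ⊗[A] V) Tp
  have : Algebra.EssFiniteType (B ⊗[A] V) Tp := Algebra.EssFiniteType.of_isLocalization Tp P.primeCompl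
  have : Algebra.EssFiniteType B Tp := Algebra.EssFiniteType.comp B (B ⊗[A] V) Tp
  let D := Tp ⧸ RingHom.ker φ
  let j : D →ₐ[B] W := Ideal.kerLiftAlg φ
  have hj : Function.Injective j := Ideal.kerLiftAlg_injective φ
  have hker : (RingHom.ker φ).IsPrime := RingHom.ker_isPrime φ
  have : IsLocalRing D := .of_surjective' _ Ideal.Quotient.mk_surjective
  have : Algebra.FormallyUnramified B D :=
    Algebra.FormallyUnramified.of_surjective (Ideal.Quotient.mkₐ B (RingHom.ker φ)) Ideal.Quotient.mk_surjective
  have : Algebra.EssFiniteType Tp D :=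
    @Algebra.EssFiniteType.of_finiteType Tp D _ _ _ (Algebra.FiniteType.of_surjective
      (Algebra.ofId Tp D) Ideal.Quotient.mk_surjective)
  have : Algebra.EssFiniteType B D := Algebra.EssFiniteType.comp B Tp D
  have : IsNoetherianRing D := Algebra.EssFiniteType.isNoetherianRing B D
  have hjl : ∀ d : D, IsUnit (j d) → IsUnit d := by
    intro d hd
    obtain ⟨z, rfl⟩ := Ideal.Quotient.mk_surjective d
    obtain ⟨⟨t, s⟩, rfl⟩ := IsLocalization.mk'_surjective P.primeCompl z
    refine IsUnit.map _ ((IsLocalization.AtPrime.isUnit_mk'_iff Tp P t s).mpr fun ht => ?_)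
    refine ((mem_maximalIdeal _).mp ht) ?_
    change IsUnit (φ (IsLocalization.mk' Tp t s)) at hd
    have h2 := hd.mul (hu s)
    rwa [← hφ, ← map_mul, IsLocalization.mk'_spec, hφ] at h2
  have : IsLocalHom (algebraMap B D) := ⟨fun b hb => by
    have h2 := hb.map j
    rw [AlgHom.commutes] at h2
    exact isUnit_of_map_unit (algebraMap B W) b h2⟩
  have hmax : (maximalIdeal B).map (algebraMap B D) = maximalIdeal D :=
    ((Algebra.FormallyUnramified.iff_map_maximalIdeal_eq (R := B) (S := D)).mp ‹_›).2
  have hinjD : Function.Injective (algebraMap B D) := fun b c e => by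
    have e2 := congrArg (fun d => ((j d : W) : F)) e
    simp only [AlgHom.commutes] at e2
    exact IsFractionRing.injective B L (iL.injective e2)
  have hnf : ¬ IsField D := fun hf => IsDiscreteValuationRing.not_a_field B <| by
    rw [← Ideal.map_eq_bot_iff_of_injective hinjD, hmax]
    exact IsLocalRing.isField_iff_maximalIdeal_eq.mp hf
  obtain ⟨ϖ, hϖ⟩ := IsDiscreteValuationRing.exists_irreducible B
  have hprin : (maximalIdeal D).IsPrincipal := ⟨⟨algebraMap B D ϖ, by
    rw [← hmax, hϖ.maximalIdeal_eq, Ideal.map_span, Set.image_singleton]⟩⟩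
  have : IsDiscreteValuationRing D := ((IsDiscreteValuationRing.TFAE D hnf).out 4 0).mp hprin
  have hsurj : Function.Surjective j := by
    intro y
    let R : Subring F := (W.subtype.comp j.toRingHom).range
    have hR : ∀ x, x ∈ Subfield.closure (R : Set F) := by
      intro x
      refine (Subfield.closure_le.mpr ?_) (hgen x)
      rintro _ (⟨z, rfl⟩ | ⟨z, rfl⟩)
      · obtain ⟨a, b, hb, rfl⟩ : ∃ a b : V, (b : K') ≠ 0 ∧ z = a / b := by
          rcases V.mem_or_inv_mem z with hz | hz
          · exact ⟨⟨z, hz⟩, 1, one_ne_zero, (div_one z).symm⟩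
          · rcases eq_or_ne z 0 with rfl | h0
            · exact ⟨0, 1, one_ne_zero, (zero_div _).symm⟩
            · exact ⟨1, ⟨z⁻¹, hz⟩, inv_ne_zero h0, by simp⟩
        rw [map_div₀]
        refine div_mem (Subfield.subset_closure ⟨Ideal.Quotient.mk _ (algebraMap _ Tp ((1 : B) ⊗ₜ[A] a)), ?_⟩)
          (Subfield.subset_closure ⟨Ideal.Quotient.mk _ (algebraMap _ Tp ((1 : B) ⊗ₜ[A] b)), ?_⟩)
        · show ((φ (algebraMap _ Tp ((1 : B) ⊗ₜ[A] a)) : W) : F) = _
          rw [hφ]
          simp [ψ, i]
          rfl
        · show ((φ (algebraMap _ Tp ((1 : B) ⊗ₜ[A] b)) : W) : F) = _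
          rw [hφ]
          simp [ψ, i]
          rfl
      · obtain ⟨a, b, hb, rfl⟩ := IsFractionRing.div_surjective B z
        rw [map_div₀]
        refine div_mem (Subfield.subset_closure ⟨algebraMap B D a, ?_⟩)
          (Subfield.subset_closure ⟨algebraMap B D b, ?_⟩)
        · show ((j (algebraMap B D a) : W) : F) = _
          rw [AlgHom.commutes]
          rfl
        · show ((j (algebraMap B D b) : W) : F) = _
          rw [AlgHom.commutes]
          rfl
    obtain ⟨a, ha, b, hb, hab⟩ := Subfield.mem_closure_iff.mp (hR (y : F))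
    rw [Subring.closure_eq] at ha hb
    obtain ⟨a, rfl⟩ := ha
    obtain ⟨b, rfl⟩ := hb
    change ((j a : W) : F) / ((j b : W) : F) = y at hab
    rcases eq_or_ne (j b) 0 with h0 | h0
    · rw [h0, ZeroMemClass.coe_zero, div_zero] at hab
      exact ⟨0, (map_zero j).trans (Subtype.ext hab)⟩
    have hab' : j a = y * j b := Subtype.ext ((div_eq_iff (fun e => h0 (Subtype.ext e))).mp hab)
    have : IsDomain D := Ideal.Quotient.isDomain _
    have hV : ValuationRing D := ValuationRing.iff_local_bezout_domain.mpr ⟨inferInstance, inferInstance⟩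
    rcases @ValuationRing.dvd_total D _ hV.toPreValuationRing b a with ⟨c, rfl⟩ | ⟨c, rfl⟩
    · refine ⟨c, mul_right_cancel₀ h0 ?_⟩
      rw [← hab', map_mul, mul_comm]
    · have hja : j a ≠ 0 := fun e => h0 (by rw [map_mul, e, zero_mul])
      rw [map_mul] at hab'
      have h1 : y * j c = 1 := mul_right_cancel₀ hja (by rw [one_mul]; linear_combination -hab')
      obtain ⟨u, rfl⟩ := hjl c (IsUnit.of_mul_eq_one_right y h1)
      refine ⟨(u⁻¹ : Dˣ), ?_⟩
      have h2 : j (u⁻¹ : Dˣ) * j u = 1 := by rw [← map_mul, Units.inv_mul, map_one]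
      exact mul_right_cancel₀ (left_ne_zero_of_mul_eq_one ((mul_comm _ _).trans h1)) (h2.trans h1.symm)
  let e : D ≃ₐ[B] W := AlgEquiv.ofBijective j ⟨hj, hsurj⟩
  have : Algebra.FormallyUnramified B W := Algebra.FormallyUnramified.of_surjective (A := D) (B := W) e.toAlgHom e.surjective
  have : Algebra.EssFiniteType B W := Algebra.EssFiniteType.of_surjective (S := D) (T := W) e.toAlgHom e.surjective
  obtain ⟨hsep, hmap⟩ := Algebra.FormallyUnramified.iff_map_maximalIdeal_eq.mp
    (inferInstance : Algebra.FormallyUnramified B W)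
  exact ⟨hmap, hsep⟩

end Groth.Agent.H9Ram.UnramBC
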