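import Groth.Agent.H9Ram.TameBC
import Groth.Agent.H9Ram.UnramBC
import Groth.Agent.H9Ram.TowerExt
import Mathlib.FieldTheory.IsSepClosed
import Mathlib.FieldTheory.Normal.Closure

/-!
Composita and Galois closures of unramified and of tamely ramified extensions.
-/

namespace Groth.Agent.H9Ram.Compositum

universe u

open IsLocalRing

variable {A K : Type u} [CommRing A] [IsDomain A] [IsDiscreteValuationRing A] [Field K] [Algebra A K]
  [IsFractionRing A K]

section Pair

variable {L₁ L₂ M : Type u} [Field L₁] [Field L₂] [Field M] [Algebra K L₁] [Algebra K L₂] [Algebra K M]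
  [Algebra L₁ M] [Algebra L₂ M] [IsScalarTower K L₁ M] [IsScalarTower K L₂ M] [FiniteDimensional K M]
  [Algebra.IsSeparable K M] [FiniteDimensional K L₂] [Algebra.IsSeparable K L₂]

/-- A compositum of two extensions of either type has that type. -/
theorem pair
    (hgen : ∀ x : M, x ∈ Subfield.closure (Set.range (algebraMap L₂ M) ∪ Set.range (algebraMap L₁ M))) :
    (EtRam.IsTamelyRamified A ((algebraMap K L₁).comp (algebraMap A K)) →
      EtRam.IsTamelyRamified A ((algebraMap K L₂).comp (algebraMap A K)) →
      EtRam.IsTamelyRamified A ((algebraMap K M).comp (algebraMap A K))) ∧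
    (EtRam.IsUnramifiedExt A ((algebraMap K L₁).comp (algebraMap A K)) →
      EtRam.IsUnramifiedExt A ((algebraMap K L₂).comp (algebraMap A K)) →
      EtRam.IsUnramifiedExt A ((algebraMap K M).comp (algebraMap A K))) := by
  have : FiniteDimensional K L₁ := FiniteDimensional.left K L₁ M
  have : Algebra.IsSeparable K L₁ := Algebra.isSeparable_tower_bot_of_isSeparable K L₁ M
  have : FiniteDimensional L₁ M := FiniteDimensional.right K L₁ M
  have : Algebra.IsSeparable L₁ M := Algebra.isSeparable_tower_top_of_isSeparable K L₁ M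
  let : Algebra A L₁ := ((algebraMap K L₁).comp (algebraMap A K)).toAlgebra
  have : IsScalarTower A K L₁ := IsScalarTower.of_algebraMap_eq fun _ => rfl
  constructor
  · intro h₁ h₂ W hW
    have hV := TowerExt.restrict (L := L₁) W hW
    let V := W.comap (algebraMap L₁ M)
    have := ValSub.isDVR hV
    let : Algebra A V := (RingHom.codRestrict ((algebraMap K L₁).comp (algebraMap A K)) V hV.1).toAlgebra
    have : IsLocalHom (algebraMap A V) := Dom.isLocalHom hV
    have : IsScalarTower A V L₁ := IsScalarTower.of_algebraMap_eq fun _ => rfl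
    have hB : EtRam.IsTamelyRamified V ((algebraMap L₁ M).comp (algebraMap V L₁)) :=
      TameBC.isTamelyRamified_of_compositum (A := A) (K := K) (K' := L₂) hgen h₂
    show TowerExt.TameAt _ W hW
    exact (TowerExt.tower_iff (L := L₁) W hW).1.mpr ⟨h₁ _ hV, @hB W (Dom.self (algebraMap L₁ M) W)⟩
  · intro h₁ h₂ W hW
    have hV := TowerExt.restrict (L := L₁) W hW
    let V := W.comap (algebraMap L₁ M)
    have := ValSub.isDVR hV
    let : Algebra A V := (RingHom.codRestrict ((algebraMap K L₁).comp (algebraMap A K)) V hV.1).toAlgebra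
    have : IsLocalHom (algebraMap A V) := Dom.isLocalHom hV
    have : IsScalarTower A V L₁ := IsScalarTower.of_algebraMap_eq fun _ => rfl
    have hB : EtRam.IsUnramifiedExt V ((algebraMap L₁ M).comp (algebraMap V L₁)) :=
      UnramBC.isUnramifiedExt_of_compositum (A := A) h₂ (algebraMap L₂ M) (algebraMap L₁ M)
        ((IsScalarTower.algebraMap_eq K L₂ M).symm.trans (IsScalarTower.algebraMap_eq K L₁ M)) hgen
    show TowerExt.UnrAt _ W hW
    exact (TowerExt.tower_iff (L := L₁) W hW).2.mpr ⟨h₁ _ hV, @hB W (Dom.self (algebraMap L₁ M) W)⟩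

end Pair

section Closure

variable (L : Type u) [Field L] [Algebra K L] [FiniteDimensional K L] [Algebra.IsSeparable K L]

omit [IsDomain A] [IsDiscreteValuationRing A] [IsFractionRing A K] [Algebra A K] in
/-- The supremum of two intermediate fields is generated by their union. -/
theorem mem_closure {Ω : Type u} [Field Ω] [Algebra K Ω] {L₁ L₂ : Type u} [Field L₁] [Field L₂]
    [Algebra K L₁] [Algebra K L₂] (f₁ : L₁ →ₐ[K] Ω) (f₂ : L₂ →ₐ[K] Ω)
    (g₁ : L₁ →+* (f₁.fieldRange ⊔ f₂.fieldRange : IntermediateField K Ω))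
    (g₂ : L₂ →+* (f₁.fieldRange ⊔ f₂.fieldRange : IntermediateField K Ω))
    (hg₁ : ∀ x, (g₁ x : Ω) = f₁ x) (hg₂ : ∀ x, (g₂ x : Ω) = f₂ x)
    (x : (f₁.fieldRange ⊔ f₂.fieldRange : IntermediateField K Ω)) :
    x ∈ Subfield.closure (Set.range g₂ ∪ Set.range g₁) := by
  let S := Subfield.closure (Set.range g₂ ∪ Set.range g₁)
  let ι := (f₁.fieldRange ⊔ f₂.fieldRange : IntermediateField K Ω).val.toRingHom
  have hle : (f₁.fieldRange ⊔ f₂.fieldRange).toSubfield ≤ S.map ι := by
    rw [IntermediateField.sup_toSubfield]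
    refine sup_le ?_ ?_
    · rintro _ ⟨a, rfl⟩
      exact ⟨g₁ a, Subfield.subset_closure (Or.inr ⟨a, rfl⟩), hg₁ a⟩
    · rintro _ ⟨a, rfl⟩
      exact ⟨g₂ a, Subfield.subset_closure (Or.inl ⟨a, rfl⟩), hg₂ a⟩
  obtain ⟨y, hy, hyx⟩ := hle x.2
  rwa [← Subtype.ext hyx]

/-- The type of an extension, as a predicate on intermediate fields of the separable closure. -/
theorem sup
    {L₁ L₂ : Type u} [Field L₁] [Field L₂] [Algebra K L₁] [Algebra K L₂] [FiniteDimensional K L₁]
    [FiniteDimensional K L₂] [Algebra.IsSeparable K L₂]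
    (f₁ : L₁ →ₐ[K] SeparableClosure K) (f₂ : L₂ →ₐ[K] SeparableClosure K) :
    let M : IntermediateField K (SeparableClosure K) := f₁.fieldRange ⊔ f₂.fieldRange
    (EtRam.IsTamelyRamified A ((algebraMap K L₁).comp (algebraMap A K)) →
      EtRam.IsTamelyRamified A ((algebraMap K L₂).comp (algebraMap A K)) →
      EtRam.IsTamelyRamified A ((algebraMap K M).comp (algebraMap A K))) ∧
    (EtRam.IsUnramifiedExt A ((algebraMap K L₁).comp (algebraMap A K)) →
      EtRam.IsUnramifiedExt A ((algebraMap K L₂).comp (algebraMap A K)) →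
      EtRam.IsUnramifiedExt A ((algebraMap K M).comp (algebraMap A K))) := by
  intro M
  let g₁ : L₁ →ₐ[K] M := (IntermediateField.inclusion le_sup_left).comp f₁.rangeRestrict
  let g₂ : L₂ →ₐ[K] M := (IntermediateField.inclusion le_sup_right).comp f₂.rangeRestrict
  let : Algebra L₁ M := g₁.toRingHom.toAlgebra
  let : Algebra L₂ M := g₂.toRingHom.toAlgebra
  have : IsScalarTower K L₁ M := IsScalarTower.of_algebraMap_eq fun c => (g₁.commutes c).symm
  have : IsScalarTower K L₂ M := IsScalarTower.of_algebraMap_eq fun c => (g₂.commutes c).symm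
  have : FiniteDimensional K f₁.fieldRange :=
    Module.Finite.of_surjective f₁.rangeRestrict.toLinearMap f₁.rangeRestrict_surjective
  have : FiniteDimensional K f₂.fieldRange :=
    Module.Finite.of_surjective f₂.rangeRestrict.toLinearMap f₂.rangeRestrict_surjective
  have : Algebra.IsSeparable K M := Algebra.isSeparable_tower_bot_of_isSeparable K M (SeparableClosure K)
  exact pair (L₁ := L₁) (L₂ := L₂)
    (mem_closure f₁ f₂ g₁.toRingHom g₂.toRingHom (fun _ => rfl) (fun _ => rfl))

/-- A property stable under suprema with the conjugates holds of the normal closure. -/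
theorem normalClosure_induction (P : IntermediateField K (SeparableClosure K) → Prop)
    (base : ∀ σ : L →ₐ[K] SeparableClosure K, P σ.fieldRange)
    (step : ∀ (E : IntermediateField K (SeparableClosure K)) [FiniteDimensional K E]
      (σ : L →ₐ[K] SeparableClosure K), P E → P (E ⊔ σ.fieldRange)) :
    P (IntermediateField.normalClosure K L (SeparableClosure K)) := by
  have key : ∀ s : Finset (L →ₐ[K] SeparableClosure K), s.Nonempty →
      P (s.sup fun σ => σ.fieldRange) ∧ FiniteDimensional K ↥(s.sup fun σ => σ.fieldRange) := by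
    intro s hs
    induction hs using Finset.Nonempty.cons_induction with
    | singleton a =>
      rw [Finset.sup_singleton]
      exact ⟨base a, Module.Finite.of_surjective a.rangeRestrict.toLinearMap a.rangeRestrict_surjective⟩
    | cons a s ha hs ih =>
      obtain ⟨hP, hfin⟩ := ih
      rw [Finset.sup_cons, sup_comm]
      have : FiniteDimensional K a.fieldRange :=
        Module.Finite.of_surjective a.rangeRestrict.toLinearMap a.rangeRestrict_surjective
      exact ⟨step _ a hP, inferInstance⟩
  have h := (key Finset.univ ⟨IsSepClosed.lift, Finset.mem_univ _⟩).1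
  rwa [Finset.sup_univ_eq_iSup] at h

end Closure

end Groth.Agent.H9Ram.Compositum
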