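import Groth.Prelude.Def_EtRam
import Mathlib.RingTheory.Valuation.ValuationSubring
import Mathlib.RingTheory.DiscreteValuationRing.Basic

/-!
Valuation subrings dominating a local ring: elementary properties.
-/

namespace Groth.Agent.H9Ram.Dom

universe u

open IsLocalRing

variable {A : Type u} [CommRing A] [IsLocalRing A] {F M : Type u} [Field F] [Field M]

/-- The structure map of a dominating valuation subring is local. -/
theorem isLocalHom {g : A →+* F} {V : ValuationSubring F} (h : EtRam.Dominates A g V) :
    IsLocalHom (RingHom.codRestrict g V h.1) := ⟨fun a ha => by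
  by_contra hna
  exact absurd ((V.valuation_eq_one_iff _).mp ha) (h.2 a hna).ne⟩

/-- A valuation subring restricts to a dominating one. -/
theorem comap {g : A →+* F} (f : F →+* M) {W : ValuationSubring M}
    (h : EtRam.Dominates A (f.comp g) W) : EtRam.Dominates A g (W.comap f) := by
  refine ⟨h.1, fun a ha => ?_⟩
  show (W.comap f).valuation ((⟨g a, h.1 a⟩ : W.comap f) : F) < 1
  rw [← ValuationSubring.valuation_lt_one_iff]
  intro hu
  have h1 : IsUnit (⟨f (g a), h.1 a⟩ : W) := hu.map (EtRam.inclOfComap W f)
  exact absurd ((W.valuation_eq_one_iff _).mp h1) (h.2 a ha).ne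

/-- A valuation subring dominates its restriction. -/
theorem self (f : F →+* M) (W : ValuationSubring M) :
    EtRam.Dominates (W.comap f) (f.comp (W.comap f).subtype) W := by
  refine ⟨fun a => a.2, fun a ha => ?_⟩
  show W.valuation ((EtRam.inclOfComap W f a : W) : M) < 1
  rw [← ValuationSubring.valuation_lt_one_iff, mem_maximalIdeal]
  exact map_nonunit (EtRam.inclOfComap W f) a ha

/-- Domination composes. -/
theorem trans {B : Type u} [CommRing B] [IsLocalRing B] {g : B →+* F} {V : ValuationSubring F}
    (i : A →+* B) [IsLocalHom i] (h : EtRam.Dominates B g V) : EtRam.Dominates A (g.comp i) V :=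
  ⟨fun a => h.1 _, fun a ha => h.2 _ (map_nonunit i a ha)⟩

/-- The only valuation subring of the fraction field dominating a valuation ring is its image. -/
theorem mem_iff [IsDomain A] [ValuationRing A] [Algebra A F] [IsFractionRing A F]
    {V : ValuationSubring F} (h : EtRam.Dominates A (algebraMap A F) V) (x : F) :
    x ∈ V ↔ ∃ a, algebraMap A F a = x := by
  refine ⟨fun hx => ?_, fun ⟨a, ha⟩ => ha ▸ h.1 a⟩
  rcases ValuationRing.isInteger_or_isInteger A x with ⟨a, ha⟩ | ⟨a, ha⟩
  · exact ⟨a, ha⟩
  by_cases hu : IsUnit a
  · obtain ⟨u, rfl⟩ := hu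
    exact ⟨(u⁻¹ : Aˣ), by rw [map_units_inv, ha, inv_inv]⟩
  rcases eq_or_ne x 0 with rfl | hx0
  · exact ⟨0, map_zero _⟩
  exfalso
  have h1 := h.2 a hu
  rw [ha, map_inv₀, inv_lt_one₀ (zero_lt_iff.mpr (by simpa using hx0))] at h1
  exact absurd ((V.valuation_le_one_iff x).mpr hx) (not_le.mpr h1)

/-- An ideal of a valuation subring is the contraction of its extension to a larger field. -/
theorem comap_map_inclOfComap (f : F →+* M) (W : ValuationSubring M) (J : Ideal (W.comap f)) :
    (J.map (EtRam.inclOfComap W f)).comap (EtRam.inclOfComap W f) = J := by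
  refine le_antisymm (fun x hx => ?_) Ideal.le_comap_map
  by_contra hxJ
  have hJx : J ≤ Ideal.span {x} := fun j hj => by
    rcases ValuationRing.dvd_total x j with h | h
    · exact Ideal.mem_span_singleton.mpr h
    · exact absurd (J.mem_of_dvd h hj) hxJ
  have hx0 : (x : F) ≠ 0 := fun h0 => hxJ (by
    rw [show x = 0 from Subtype.ext h0]; exact zero_mem _)
  have key : ∀ y ∈ J.map (EtRam.inclOfComap W f),
      ∃ c : W, ¬ IsUnit c ∧ y = EtRam.inclOfComap W f x * c := by
    intro y hy
    induction hy using Submodule.span_induction with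
    | mem y hy =>
      obtain ⟨j, hj, rfl⟩ := hy
      obtain ⟨c, hc⟩ := Ideal.mem_span_singleton.mp (hJx hj)
      refine ⟨EtRam.inclOfComap W f c, map_nonunit _ _ fun hu => hxJ ?_, by rw [hc, map_mul]⟩
      obtain ⟨u, rfl⟩ := hu
      have := J.mul_mem_right ((u⁻¹ : (W.comap f)ˣ) : W.comap f) hj
      rwa [hc, mul_assoc, Units.mul_inv, mul_one] at this
    | zero => exact ⟨0, not_isUnit_zero, (mul_zero _).symm⟩
    | add y z _ _ hy hz =>
      obtain ⟨c, hc, rfl⟩ := hy
      obtain ⟨d, hd, rfl⟩ := hz
      exact ⟨c + d, (nonunits_add hc hd), (mul_add _ _ _).symm⟩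
    | smul a y _ hy =>
      obtain ⟨c, hc, rfl⟩ := hy
      exact ⟨a * c, fun hu => hc (isUnit_of_mul_isUnit_right hu), by rw [smul_eq_mul]; ring⟩
  obtain ⟨c, hc, hxc⟩ := key _ hx
  have hfx : (EtRam.inclOfComap W f x : W) ≠ 0 := fun h0 =>
    hx0 (f.injective (by rw [map_zero]; exact congrArg Subtype.val h0))
  have : c = 1 := mul_left_cancel₀ hfx (by rw [← hxc, mul_one])
  exact hc (this ▸ isUnit_one)

variable {M' : Type u} [Field M']

/-- Being weakly unramified descends along an extension of fields. -/
theorem weakly_of_comp (f : F →+* M) (e : M →+* M') (W : ValuationSubring M')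
    (h : (maximalIdeal (W.comap (e.comp f))).map (EtRam.inclOfComap W (e.comp f)) = maximalIdeal W) :
    (maximalIdeal ((W.comap e).comap f)).map (EtRam.inclOfComap (W.comap e) f) =
      maximalIdeal (W.comap e) := by
  rw [← comap_map_inclOfComap e W ((maximalIdeal ((W.comap e).comap f)).map _), Ideal.map_map]
  exact (congrArg (Ideal.comap (EtRam.inclOfComap W e)) h).trans
    (maximalIdeal_comap (EtRam.inclOfComap W e))

/-- Separability of residue fields descends along an extension of fields. -/
theorem geomReduced_of_comp (f : F →+* M) (e : M →+* M') (W : ValuationSubring M')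
    (h : @Algebra.IsGeometricallyReduced (ResidueField (W.comap (e.comp f))) (ResidueField W) _ _
      (ResidueField.map (EtRam.inclOfComap W (e.comp f))).toAlgebra) :
    @Algebra.IsGeometricallyReduced (ResidueField ((W.comap e).comap f)) (ResidueField (W.comap e))
      _ _ (ResidueField.map (EtRam.inclOfComap (W.comap e) f)).toAlgebra := by
  let : Algebra (ResidueField ((W.comap e).comap f)) (ResidueField W) :=
    (ResidueField.map (EtRam.inclOfComap W (e.comp f))).toAlgebra
  let : Algebra (ResidueField ((W.comap e).comap f)) (ResidueField (W.comap e)) :=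
    (ResidueField.map (EtRam.inclOfComap (W.comap e) f)).toAlgebra
  have : Algebra.IsGeometricallyReduced (ResidueField ((W.comap e).comap f)) (ResidueField W) := h
  let φ : ResidueField (W.comap e) →ₐ[ResidueField ((W.comap e).comap f)] ResidueField W :=
    { ResidueField.map (EtRam.inclOfComap W e) with
      commutes' := fun x => by
        obtain ⟨a, rfl⟩ := residue_surjective x
        rfl }
  exact Algebra.IsGeometricallyReduced.of_injective φ
    (ResidueField.map (EtRam.inclOfComap W e)).injective

end Groth.Agent.H9Ram.Dom
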