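import Groth.Agent.H9Ram.TowerExt
import Mathlib.RingTheory.Unramified.LocalRing
import Mathlib.RingTheory.Etale.StandardEtale
import Mathlib.RingTheory.TensorProduct.Basic
import Mathlib.RingTheory.DiscreteValuationRing.TFAE

/-!
Unramified places of fields generated by formally unramified algebras: roots of units, base change.
-/

namespace Groth.Agent.H9Ram.UnramGen

universe u

open IsLocalRing
open scoped TensorProduct

variable {B L F : Type u} [CommRing B] [IsDomain B] [IsDiscreteValuationRing B] [Field L] [Field F]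
  [Algebra B L] [IsFractionRing B L] (iL : L →+* F) {W : ValuationSubring F}
  (hW : EtRam.Dominates B (iL.comp (algebraMap B L)) W)

/-- A place of a field generated by a formally unramified algebra is unramified. -/
theorem unrAt_of_gen (T : Type u) [CommRing T] [Algebra B T] [Algebra.FormallyUnramified B T]
    [Algebra.EssFiniteType B T] (ψ₀ : T →+* W)
    (hψ : ∀ b, ((ψ₀ (algebraMap B T b) : W) : F) = iL (algebraMap B L b))
    (hgen : ∀ x : F, x ∈ Subfield.closure (Set.range (fun t => ((ψ₀ t : W) : F)) ∪ Set.range iL)) :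
    TowerExt.UnrAt _ W hW := by
  unfold TowerExt.UnrAt
  let : Algebra B W := (RingHom.codRestrict (iL.comp (algebraMap B L)) W hW.1).toAlgebra
  intro _
  let ψ : T →ₐ[B] W := { ψ₀ with commutes' := fun b => Subtype.ext (hψ b) }
  let P : Ideal T := (maximalIdeal W).comap ψ.toRingHom
  let Tp := Localization.AtPrime P
  have hu : ∀ t : P.primeCompl, IsUnit (ψ t) := fun t => of_not_not fun hn => t.2 hn
  let φ : Tp →ₐ[B] W := IsLocalization.liftAlgHom (M := P.primeCompl) (f := ψ) hu
  have hφ : ∀ t, φ (algebraMap T Tp t) = ψ t := fun t => IsLocalization.lift_eq hu t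
  have : Algebra.FormallyUnramified T Tp :=
    Algebra.FormallyUnramified.of_isLocalization P.primeCompl
  have : Algebra.FormallyUnramified B Tp := Algebra.FormallyUnramified.comp B T Tp
  have : Algebra.EssFiniteType T Tp := Algebra.EssFiniteType.of_isLocalization Tp P.primeCompl
  have : Algebra.EssFiniteType B Tp := Algebra.EssFiniteType.comp B T Tp
  let D := Tp ⧸ RingHom.ker φ
  let j : D →ₐ[B] W := Ideal.kerLiftAlg φ
  have hj : Function.Injective j := Ideal.kerLiftAlg_injective φ
  have hker : (RingHom.ker φ).IsPrime := RingHom.ker_isPrime φ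
  have : IsLocalRing D := .of_surjective' _ Ideal.Quotient.mk_surjective
  have : Algebra.FormallyUnramified B D :=
    Algebra.FormallyUnramified.of_surjective (Ideal.Quotient.mkₐ B (RingHom.ker φ)) Ideal.Quotient.mk_surjective
  have : Algebra.EssFiniteType Tp D :=
    @Algebra.EssFiniteType.of_finiteType Tp D _ _ _ (Algebra.FiniteType.of_surjective
      (Algebra.ofId Tp D) Ideal.Quotient.mk_surjective)
  have : Algebra.EssFiniteType B D := Algebra.EssFiniteType.comp B Tp D
  have : IsNoetherianRing D := Algebra.EssFiniteType.isNoetherianRing B D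
  have hjl : ∀ d : D, IsUnit (j d) → IsUnit d := by
    intro d hd
    obtain ⟨z, rfl⟩ := Ideal.Quotient.mk_surjective d
    obtain ⟨⟨t, s⟩, rfl⟩ := IsLocalization.mk'_surjective P.primeCompl z
    refine IsUnit.map _ ((IsLocalization.AtPrime.isUnit_mk'_iff Tp P t s).mpr fun ht => ?_)
    refine ((mem_maximalIdeal _).mp ht) ?_
    change IsUnit (φ (IsLocalization.mk' Tp t s)) at hd
    have h2 := hd.mul (hu s)
    rwa [← hφ, ← map_mul, IsLocalization.mk'_spec, hφ] at h2
  have : IsLocalHom (algebraMap B D) := ⟨fun b hb => by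
    have h2 := hb.map j
    rw [AlgHom.commutes] at h2
    exact isUnit_of_map_unit (algebraMap B W) b h2⟩
  have hmax : (maximalIdeal B).map (algebraMap B D) = maximalIdeal D :=
    ((Algebra.FormallyUnramified.iff_map_maximalIdeal_eq (R := B) (S := D)).mp ‹_›).2
  have hinjD : Function.Injective (algebraMap B D) := fun b c e => by
    have e2 := congrArg (fun d => ((j d : W) : F)) e
    simp only [AlgHom.commutes] at e2
    exact IsFractionRing.injective B L (iL.injective e2)
  have hnf : ¬ IsField D := fun hf => IsDiscreteValuationRing.not_a_field B <| by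
    rw [← Ideal.map_eq_bot_iff_of_injective hinjD, hmax]
    exact IsLocalRing.isField_iff_maximalIdeal_eq.mp hf
  obtain ⟨ϖ, hϖ⟩ := IsDiscreteValuationRing.exists_irreducible B
  have hprin : (maximalIdeal D).IsPrincipal := ⟨⟨algebraMap B D ϖ, by
    rw [← hmax, hϖ.maximalIdeal_eq, Ideal.map_span, Set.image_singleton]⟩⟩
  have : IsDiscreteValuationRing D := ((IsDiscreteValuationRing.TFAE D hnf).out 4 0).mp hprin
  have hsurj : Function.Surjective j := by
    intro y
    let R : Subring F := (W.subtype.comp j.toRingHom).range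
    have hR : ∀ x, x ∈ Subfield.closure (R : Set F) := by
      intro x
      refine (Subfield.closure_le.mpr ?_) (hgen x)
      rintro _ (⟨t, rfl⟩ | ⟨z, rfl⟩)
      · refine Subfield.subset_closure ⟨Ideal.Quotient.mk _ (algebraMap T Tp t), ?_⟩
        show ((φ (algebraMap T Tp t) : W) : F) = _
        rw [hφ]
        rfl
      · obtain ⟨a, b, hb, rfl⟩ := IsFractionRing.div_surjective B z
        rw [map_div₀]
        refine div_mem (Subfield.subset_closure ⟨algebraMap B D a, ?_⟩)
          (Subfield.subset_closure ⟨algebraMap B D b, ?_⟩)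
        · show ((j (algebraMap B D a) : W) : F) = _
          rw [AlgHom.commutes]
          rfl
        · show ((j (algebraMap B D b) : W) : F) = _
          rw [AlgHom.commutes]
          rfl
    obtain ⟨a, ha, b, hb, hab⟩ := Subfield.mem_closure_iff.mp (hR (y : F))
    rw [Subring.closure_eq] at ha hb
    obtain ⟨a, rfl⟩ := ha
    obtain ⟨b, rfl⟩ := hb
    change ((j a : W) : F) / ((j b : W) : F) = y at hab
    rcases eq_or_ne (j b) 0 with h0 | h0
    · rw [h0, ZeroMemClass.coe_zero, div_zero] at hab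
      exact ⟨0, (map_zero j).trans (Subtype.ext hab)⟩
    have hab' : j a = y * j b := Subtype.ext ((div_eq_iff (fun e => h0 (Subtype.ext e))).mp hab)
    have : IsDomain D := Ideal.Quotient.isDomain _
    have hV : ValuationRing D := ValuationRing.iff_local_bezout_domain.mpr ⟨inferInstance, inferInstance⟩
    rcases @ValuationRing.dvd_total D _ hV.toPreValuationRing b a with ⟨c, rfl⟩ | ⟨c, rfl⟩
    · refine ⟨c, mul_right_cancel₀ h0 ?_⟩
      rw [← hab', map_mul, mul_comm]
    · have hja : j a ≠ 0 := fun e => h0 (by rw [map_mul, e, zero_mul])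
      rw [map_mul] at hab'
      have h1 : y * j c = 1 := mul_right_cancel₀ hja (by rw [one_mul]; linear_combination -hab')
      obtain ⟨u, rfl⟩ := hjl c (IsUnit.of_mul_eq_one_right y h1)
      refine ⟨(u⁻¹ : Dˣ), ?_⟩
      have h2 : j (u⁻¹ : Dˣ) * j u = 1 := by rw [← map_mul, Units.inv_mul, map_one]
      exact mul_right_cancel₀ (left_ne_zero_of_mul_eq_one ((mul_comm _ _).trans h1)) (h2.trans h1.symm)
  let e : D ≃ₐ[B] W := AlgEquiv.ofBijective j ⟨hj, hsurj⟩
  have : Algebra.FormallyUnramified B W :=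
    Algebra.FormallyUnramified.of_surjective (A := D) (B := W) e.toAlgHom e.surjective
  have : Algebra.EssFiniteType B W :=
    Algebra.EssFiniteType.of_surjective (S := D) (T := W) e.toAlgHom e.surjective
  obtain ⟨hsep, hmap⟩ := Algebra.FormallyUnramified.iff_map_maximalIdeal_eq.mp
    (inferInstance : Algebra.FormallyUnramified B W)
  exact ⟨hmap, hsep⟩

/-- An element of `W` of which a power is in `W`. -/
theorem mem_of_pow_mem (V : ValuationSubring F) {z : F} {n : ℕ} (hn : n ≠ 0) (hz : z ^ n ∈ V) :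
    z ∈ V := by
  rw [← V.valuation_le_one_iff] at hz ⊢
  rw [map_pow] at hz
  exact (pow_le_one_iff hn).mp hz

/-- A formally unramified algebra with a root of a unit. -/
theorem exists_root_algebra {n : ℕ} (hn : IsUnit (n : B)) (hn0 : n ≠ 0) (b : Bˣ) {z : F}
    (hz : z ^ n = iL (algebraMap B L b)) :
    letI : Algebra B W := (RingHom.codRestrict (iL.comp (algebraMap B L)) W hW.1).toAlgebra
    ∃ (T : Type u) (_ : CommRing T) (_ : Algebra B T) (_ : Algebra.FormallyUnramified B T)
      (_ : Algebra.EssFiniteType B T) (ψ : T →ₐ[B] W) (t : T), ((ψ t : W) : F) = z := by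
  let : Algebra B W := (RingHom.codRestrict (iL.comp (algebraMap B L)) W hW.1).toAlgebra
  obtain ⟨m, rfl⟩ : ∃ m, n = m + 1 := ⟨n - 1, by omega⟩
  let P : StandardEtalePair B :=
    { f := Polynomial.X ^ (m + 1) - Polynomial.C (b : B)
      monic_f := Polynomial.monic_X_pow_sub_C _ hn0
      g := 1
      cond := ⟨Polynomial.X * Polynomial.C ((hn.unit⁻¹ : Bˣ) * (b⁻¹ : Bˣ) : B),
        - Polynomial.C ((b⁻¹ : Bˣ) : B), 0, by
        have h1 : (((m + 1 : ℕ) : B)) * (hn.unit⁻¹ : Bˣ) = 1 := hn.mul_val_inv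
        rw [Polynomial.derivative_sub, Polynomial.derivative_C, sub_zero, Polynomial.derivative_X_pow,
          pow_zero, Polynomial.C_mul, Nat.add_sub_cancel]
        have h2 := congrArg (Polynomial.C (R := B)) h1
        have h3 := congrArg (Polynomial.C (R := B)) b.mul_inv
        rw [Polynomial.C_mul, Polynomial.C_1] at h2 h3
        linear_combination (Polynomial.X ^ (m + 1) * Polynomial.C ((b⁻¹ : Bˣ) : B)) * h2 + h3⟩ }
  have hzW : z ∈ W := mem_of_pow_mem W hn0 (hz ▸ hW.1 _)
  have hx : P.HasMap (⟨z, hzW⟩ : W) := ⟨by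
    show Polynomial.aeval (⟨z, hzW⟩ : W) (Polynomial.X ^ (m + 1) - Polynomial.C (b : B)) = 0
    rw [map_sub, map_pow, Polynomial.aeval_X, Polynomial.aeval_C, sub_eq_zero]
    exact Subtype.ext hz, by simp [P]⟩
  refine ⟨P.Ring, inferInstance, inferInstance, inferInstance, inferInstance, P.lift _ hx, P.X, ?_⟩
  rw [StandardEtalePair.lift_X]

/-- Adjoining roots of units of order prime to the residue characteristic is unramified. -/
theorem unrAt_roots {n : ℕ} (hn : IsUnit (n : B)) (hn0 : n ≠ 0) (b₁ b₂ : Bˣ) (z₁ z₂ : F)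
    (hz₁ : z₁ ^ n = iL (algebraMap B L b₁)) (hz₂ : z₂ ^ n = iL (algebraMap B L b₂))
    (hgen : ∀ x : F, x ∈ Subfield.closure ({z₁, z₂} ∪ Set.range iL)) :
    TowerExt.UnrAt _ W hW := by
  let : Algebra B W := (RingHom.codRestrict (iL.comp (algebraMap B L)) W hW.1).toAlgebra
  obtain ⟨T₁, _, _, _, _, ψ₁, t₁, ht₁⟩ := exists_root_algebra iL hW hn hn0 b₁ hz₁
  obtain ⟨T₂, _, _, _, _, ψ₂, t₂, ht₂⟩ := exists_root_algebra iL hW hn hn0 b₂ hz₂
  have : Algebra.FormallyUnramified B (T₁ ⊗[B] T₂) :=
    Algebra.FormallyUnramified.comp B T₁ (T₁ ⊗[B] T₂)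
  have : Algebra.EssFiniteType B (T₁ ⊗[B] T₂) := Algebra.EssFiniteType.comp B T₁ (T₁ ⊗[B] T₂)
  let ψ := Algebra.TensorProduct.lift ψ₁ ψ₂ fun _ _ => Commute.all _ _
  unfold TowerExt.UnrAt
  intro _
  refine unrAt_of_gen iL hW (T₁ ⊗[B] T₂) ψ.toRingHom (fun c => ?_)
    fun x => Subfield.closure_mono (Set.union_subset_union_left _ ?_) (hgen x)
  · show ((ψ (algebraMap B (T₁ ⊗[B] T₂) c) : W) : F) = _
    rw [AlgHom.commutes]
    rfl
  · rintro _ (rfl | rfl)
    · refine ⟨t₁ ⊗ₜ 1, ?_⟩
      show ((ψ (t₁ ⊗ₜ 1) : W) : F) = _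
      simp [ψ, ht₁]
    · refine ⟨1 ⊗ₜ t₂, ?_⟩
      show ((ψ (1 ⊗ₜ t₂) : W) : F) = _
      simp [ψ, ht₂]

/-- Unramified places pull back. -/
theorem unrAt_baseChange {A K K' : Type u} [CommRing A] [IsDomain A] [IsDiscreteValuationRing A]
    [Algebra A B] [IsLocalHom (algebraMap A B)] [Field K] [Field K'] [Algebra A K]
    [IsFractionRing A K] [Algebra K L] [Algebra A L] [IsScalarTower A K L] [IsScalarTower A B L]
    [Algebra K K'] [FiniteDimensional K K'] [Algebra.IsSeparable K K'] (iK : K' →+* F)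
    (hc : iK.comp (algebraMap K K') = iL.comp (algebraMap K L))
    (hgen : ∀ x : F, x ∈ Subfield.closure (Set.range iK ∪ Set.range iL))
    (hV : EtRam.Dominates A ((algebraMap K K').comp (algebraMap A K)) (W.comap iK))
    (h : TowerExt.UnrAt _ (W.comap iK) hV) :
    TowerExt.UnrAt _ W hW := by
  let V := W.comap iK
  let : Algebra A V := (RingHom.codRestrict ((algebraMap K K').comp (algebraMap A K)) V hV.1).toAlgebra
  have : IsLocalHom (algebraMap A V) := Dom.isLocalHom hV
  obtain ⟨hw, hs⟩ := @h ‹_›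
  have hess : Algebra.EssFiniteType A V := (ValSub.main hV).2
  have : Algebra.FormallyUnramified A V :=
    Algebra.FormallyUnramified.iff_map_maximalIdeal_eq.mpr ⟨hs, hw⟩
  let : Algebra B W := (RingHom.codRestrict (iL.comp (algebraMap B L)) W hW.1).toAlgebra
  let : Algebra A W := ((algebraMap B W).comp (algebraMap A B)).toAlgebra
  have : IsScalarTower A B W := IsScalarTower.of_algebraMap_eq fun _ => rfl
  let i : V →ₐ[A] W :=
    { EtRam.inclOfComap W iK with
      commutes' := fun a => Subtype.ext (by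
        show iK (algebraMap K K' (algebraMap A K a)) = iL (algebraMap B L (algebraMap A B a))
        rw [← IsScalarTower.algebraMap_apply A B L, IsScalarTower.algebraMap_apply A K L]
        exact RingHom.congr_fun hc _) }
  let ψ : B ⊗[A] V →ₐ[B] W :=
    Algebra.TensorProduct.lift (Algebra.ofId B W) i fun _ _ => Commute.all _ _
  unfold TowerExt.UnrAt
  intro _
  refine unrAt_of_gen iL hW (B ⊗[A] V) ψ.toRingHom (fun c => ?_) fun x => ?_
  · show ((ψ (algebraMap B (B ⊗[A] V) c) : W) : F) = _
    rw [AlgHom.commutes]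
    rfl
  refine (Subfield.closure_le.mpr ?_) (hgen x)
  rintro _ (⟨z, rfl⟩ | hz)
  · have key : ∀ a : V, iK (a : K') ∈
        Subfield.closure (Set.range (fun t => ((ψ.toRingHom t : W) : F)) ∪ Set.range iL) := fun a => by
      refine Subfield.subset_closure (Or.inl ⟨(1 : B) ⊗ₜ[A] a, ?_⟩)
      show ((ψ (1 ⊗ₜ a) : W) : F) = _
      simp [ψ, i]
      rfl
    rcases V.mem_or_inv_mem z with hz | hz
    · exact key ⟨z, hz⟩
    · rw [← inv_inv z, map_inv₀]
      exact inv_mem (key ⟨z⁻¹, hz⟩)
  · exact Subfield.subset_closure (Or.inr hz)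

end Groth.Agent.H9Ram.UnramGen
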