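import Groth.Prelude.Def_EtRam
import Groth.Agent.H9Ram.Dominates
import Groth.Agent.H9Ram.UnramGen
import Mathlib.RingTheory.AdjoinRoot
import Mathlib.RingTheory.DiscreteValuationRing.TFAE
import Mathlib.RingTheory.Valuation.ValuationRing
import Mathlib.RingTheory.Localization.Integral
import Mathlib.FieldTheory.IntermediateField.Adjoin.Basic
import Mathlib.FieldTheory.SeparableDegree
import Mathlib.RingTheory.Polynomial.GaussLemma

/-!
Totally ramified extensions cut out by a monic equation `r ^ q = π (1 + r c)`.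
-/

namespace Groth.Agent.H9Ram.EisensteinExt

universe u

open IsLocalRing Polynomial

variable {A : Type u} [CommRing A] [IsDomain A] [IsDiscreteValuationRing A] {π : A} {f : A[X]} {q : ℕ}

local notation "S" => AdjoinRoot f

omit [IsDomain A] [IsDiscreteValuationRing A] in
/-- Every element is a constant up to a multiple of the root. -/
theorem exists_sub_mem (x : S) : ∃ a : A, x - algebraMap A S a ∈ Ideal.span {AdjoinRoot.root f} := by
  induction x using AdjoinRoot.induction_on with
  | ih p =>
    refine ⟨p.coeff 0, Ideal.mem_span_singleton.mpr ⟨AdjoinRoot.mk _ p.divX, ?_⟩⟩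
    have h := congrArg (AdjoinRoot.mk f) (X_mul_divX_add p)
    rw [map_add, map_mul, AdjoinRoot.mk_X, AdjoinRoot.mk_C] at h
    rw [AdjoinRoot.algebraMap_eq, ← h, add_sub_cancel_right]

theorem isDVR (hf : f.Monic) (hirr : Irreducible f) (hπ : Irreducible π) (hq : q ≠ 0) (c : S)
    (hr : AdjoinRoot.root f ^ q = algebraMap A S π * (1 + AdjoinRoot.root f * c)) :
    ∃ (_ : IsDomain S) (_ : IsDiscreteValuationRing S),
      maximalIdeal S = Ideal.span {AdjoinRoot.root f} ∧ IsUnit (1 + AdjoinRoot.root f * c) := by
  have := AdjoinRoot.isDomain_of_prime hirr.prime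
  have := hf.finite_adjoinRoot
  have : Algebra.IsIntegral A S := Algebra.IsIntegral.of_finite A S
  set r := AdjoinRoot.root f
  let J : Ideal S := Ideal.span {r} ⊔ Ideal.span {algebraMap A S π}
  have hle : ∀ M : Ideal S, M.IsMaximal → J ≤ M := by
    intro M hM
    have h1 : (M.comap (algebraMap A S)).IsMaximal := Ideal.isMaximal_comap_of_isIntegral_of_isMaximal M
    have h2 : algebraMap A S π ∈ M := by
      show π ∈ M.comap (algebraMap A S)
      rw [eq_maximalIdeal h1]
      exact hπ.maximalIdeal_eq ▸ Ideal.mem_span_singleton_self π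
    refine sup_le ((Ideal.span_singleton_le_iff_mem _).mpr ?_) ((Ideal.span_singleton_le_iff_mem _).mpr h2)
    exact hM.isPrime.mem_of_pow_mem q (hr ▸ Ideal.mul_mem_right _ _ h2)
  have hmax : ∀ M : Ideal S, M.IsMaximal → M = J := by
    intro M hM
    refine le_antisymm (fun x hx => ?_) (hle M hM)
    obtain ⟨a, ha⟩ := exists_sub_mem x
    have haJ : x - algebraMap A S a ∈ J := Submodule.mem_sup_left ha
    have haM : algebraMap A S a ∈ M := by simpa using sub_mem hx (hle M hM haJ)
    have h1 : (M.comap (algebraMap A S)).IsMaximal := Ideal.isMaximal_comap_of_isIntegral_of_isMaximal M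
    have h3 : a ∈ maximalIdeal A := eq_maximalIdeal h1 ▸ haM
    rw [hπ.maximalIdeal_eq, Ideal.mem_span_singleton] at h3
    obtain ⟨b, rfl⟩ := h3
    have hb : algebraMap A S (π * b) ∈ J := by
      rw [map_mul]
      exact Ideal.mul_mem_right _ _ (Submodule.mem_sup_right (Ideal.mem_span_singleton_self _))
    simpa using add_mem haJ hb
  obtain ⟨M₀, hM₀⟩ := Ideal.exists_maximal S
  have hloc : IsLocalRing S := IsLocalRing.of_unique_max_ideal
    ⟨M₀, hM₀, fun M hM => (hmax M hM).trans (hmax M₀ hM₀).symm⟩
  have hmJ : maximalIdeal S = J := hmax _ (maximalIdeal.isMaximal _)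
  have hw : IsUnit (1 + r * c) := by
    refine IsLocalRing.notMem_maximalIdeal.mp fun h => ?_
    have hrc : r * c ∈ maximalIdeal S :=
      hmJ ▸ Ideal.mul_mem_right _ _ (Submodule.mem_sup_left (Ideal.mem_span_singleton_self _))
    have h1 := sub_mem h hrc
    rw [add_sub_cancel_right] at h1
    exact (maximalIdeal.isMaximal S).ne_top ((Ideal.eq_top_iff_one _).mpr h1)
  have hm : maximalIdeal S = Ideal.span {r} := by
    rw [hmJ]
    refine sup_eq_left.mpr ((Ideal.span_singleton_le_iff_mem _).mpr ?_)
    rw [show algebraMap A S π = r ^ q * ((hw.unit⁻¹ : Sˣ) : S) by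
      rw [hr, mul_assoc, hw.mul_val_inv, mul_one]]
    exact Ideal.mul_mem_right _ _ (Ideal.pow_mem_of_mem _ (Ideal.mem_span_singleton_self _) _ (Nat.pos_of_ne_zero hq))
  have : IsNoetherianRing S := IsNoetherianRing.of_finite A S
  have hdeg : f.degree ≠ 0 := fun h0 => hirr.not_isUnit
    ((hf.natDegree_eq_zero).mp (natDegree_eq_zero_iff_degree_le_zero.mpr h0.le) ▸ isUnit_one)
  have hne : ¬ IsField S := fun h => by
    have h0 : Ideal.span {r} = ⊥ := hm ▸ isField_iff_maximalIdeal_eq.mp h
    rw [Ideal.span_singleton_eq_bot] at h0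
    rw [h0, zero_pow hq, zero_mul, add_zero, mul_one] at hr
    exact hπ.ne_zero (AdjoinRoot.of.injective_of_degree_ne_zero hdeg (hr.symm.trans (map_zero _).symm))
  have hp : (maximalIdeal S).IsPrincipal := ⟨⟨_, hm⟩⟩
  exact ⟨inferInstance, ((IsDiscreteValuationRing.TFAE S hne).out 0 4).mpr hp, hm, hw⟩

variable {K : Type u} [Field K] [Algebra A K] [IsFractionRing A K]
  [Fact (Irreducible (f.map (algebraMap A K)))]

local notation "L" => AdjoinRoot (f.map (algebraMap A K))

/-- The map from the ring of integers to the field. -/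
noncomputable def toField : S →+* L :=
  AdjoinRoot.lift ((algebraMap K L).comp (algebraMap A K)) (AdjoinRoot.root _) (by
    rw [← Polynomial.eval₂_map]; exact AdjoinRoot.eval₂_root _)

omit [IsDomain A] [IsDiscreteValuationRing A] [IsFractionRing A K] in
theorem toField_root : toField (K := K) (AdjoinRoot.root f) = AdjoinRoot.root (f.map (algebraMap A K)) := by
  simp [toField]

omit [IsDomain A] [IsDiscreteValuationRing A] [IsFractionRing A K] in
theorem toField_algebraMap (a : A) :
    toField (K := K) (algebraMap A S a) = algebraMap K L (algebraMap A K a) := by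
  simp [toField, AdjoinRoot.algebraMap_eq]

/-- The field is totally ramified. -/
theorem isTotallyRamified (hπ : Irreducible π) (hq : q ≠ 0) (c : S)
    (hr : AdjoinRoot.root f ^ q = algebraMap A S π * (1 + AdjoinRoot.root f * c))
    [IsDomain S] [IsDiscreteValuationRing S] (hm : maximalIdeal S = Ideal.span {AdjoinRoot.root f}) (hfm : f.Monic) :
    EtRam.IsTotallyRamified A ((algebraMap K L).comp (algebraMap A K)) := by
  set g := (algebraMap K L).comp (algebraMap A K)
  set r := AdjoinRoot.root f
  let j : S →+* L := toField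
  have hjA : ∀ a, j (algebraMap A S a) = g a := toField_algebraMap
  have hg : Function.Injective g := (algebraMap K L).injective.comp (IsFractionRing.injective A K)
  have hjr : j r ≠ 0 := fun h0 => by
    have h1 := congrArg j hr
    rw [map_pow, map_mul, h0, zero_pow hq, map_add, map_mul, h0, zero_mul, map_one, add_zero, mul_one, hjA] at h1
    exact hπ.ne_zero (hg (h1.symm.trans (map_zero _).symm))
  have hji : Function.Injective j := by
    rw [injective_iff_map_eq_zero]
    intro a ha
    by_contra h0
    obtain ⟨k, v, rfl⟩ := IsDiscreteValuationRing.eq_unit_mul_pow_irreducible h0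
      ((IsDiscreteValuationRing.irreducible_iff_uniformizer r).mpr hm)
    rw [map_mul, map_pow, mul_eq_zero] at ha
    exact ha.elim (v.isUnit.map j).ne_zero (pow_ne_zero _ hjr)
  let : Algebra S L := j.toAlgebra
  have : IsFractionRing S L := by
    have : FaithfulSMul S L := (faithfulSMul_iff_algebraMap_injective S L).mpr hji
    refine IsFractionRing.of_field S L fun x => ?_
    obtain ⟨p, rfl⟩ := AdjoinRoot.mk_surjective x
    obtain ⟨b, hbM, hb⟩ := IsLocalization.integerNormalization_spec (nonZeroDivisors A) p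
    refine ⟨AdjoinRoot.mk f (IsLocalization.integerNormalization (nonZeroDivisors A) p), algebraMap A S b, ?_⟩
    have hb0 : algebraMap A K b ≠ 0 := IsFractionRing.to_map_ne_zero_of_mem_nonZeroDivisors hbM
    have h1 : j (AdjoinRoot.mk f (IsLocalization.integerNormalization (nonZeroDivisors A) p)) =
        algebraMap K L (algebraMap A K b) * AdjoinRoot.mk (f.map (algebraMap A K)) p := by
      show toField _ = _
      rw [toField, AdjoinRoot.lift_mk, ← Polynomial.eval₂_map, hb, Algebra.smul_def, eval₂_mul,
        Polynomial.algebraMap_apply, eval₂_C, ← AdjoinRoot.aeval_eq p, aeval_def]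
    show _ = j _ / j _
    rw [h1, hjA]
    exact (mul_div_cancel_left₀ _ ((_root_.map_ne_zero _).mpr hb0)).symm
  have hint : ∀ (V : ValuationSubring L), EtRam.Dominates A g V → ∀ s : S, j s ∈ V := by
    intro V hV s
    have := hfm.finite_adjoinRoot
    obtain ⟨p, hp, hps⟩ := Algebra.IsIntegral.isIntegral (R := A) s
    let iA : A →+* V := RingHom.codRestrict g V.toSubring hV.1
    have hi : IsIntegral V (j s) := ⟨p.map iA, hp.map _, by
      rw [Polynomial.eval₂_map, show (algebraMap V L).comp iA = j.comp (algebraMap A S) from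
        RingHom.ext fun a => (hjA a).symm, ← Polynomial.hom_eval₂, hps, map_zero]⟩
    obtain ⟨w, hw⟩ := IsIntegrallyClosed.isIntegral_iff.mp hi
    exact hw ▸ w.2
  have hval : ∀ V : ValuationSubring L, EtRam.Dominates A g V → EtRam.Dominates S (algebraMap S L) V := by
    intro V hV
    refine ⟨hint V hV, fun a ha => ?_⟩
    rw [hm, Ideal.mem_span_singleton] at ha
    obtain ⟨t, rfl⟩ := ha
    have hπv : V.valuation (g π) < 1 := hV.2 π (hπ.maximalIdeal_eq ▸ Ideal.mem_span_singleton_self π)
    have hr1 : V.valuation (j r) < 1 := by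
      rw [← pow_lt_one_iff hq, ← map_pow, ← map_pow, hr, map_mul, hjA, map_mul]
      calc V.valuation (g π) * V.valuation (j (1 + r * c)) ≤ V.valuation (g π) * 1 :=
            mul_le_mul' le_rfl ((V.valuation_le_one_iff _).mpr (hint V hV _))
        _ < 1 := by rwa [mul_one]
    show V.valuation (j (r * t)) < 1
    calc V.valuation (j (r * t)) = V.valuation (j r) * V.valuation (j t) := by rw [map_mul, map_mul]
      _ ≤ V.valuation (j r) * 1 := mul_le_mul' le_rfl ((V.valuation_le_one_iff _).mpr (hint V hV t))
      _ < 1 := by rwa [mul_one]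
  refine ⟨?_, fun V V' hV hV' => SetLike.ext fun x =>
    (Dom.mem_iff (hval V hV) x).trans (Dom.mem_iff (hval V' hV') x).symm, fun V hV => ?_⟩
  · let V := (ValuationRing.valuation S L).valuationSubring
    have hmem : ∀ x : L, x ∈ V ↔ ∃ s : S, algebraMap S L s = x := fun x =>
      (Valuation.mem_valuationSubring_iff _ _).trans (ValuationRing.mem_integer_iff S L x)
    refine ⟨V, fun a => (hmem _).mpr ⟨_, hjA a⟩, fun a ha => ?_⟩
    have haV : g a ∈ V := (hmem _).mpr ⟨_, hjA a⟩
    show V.valuation ((⟨g a, haV⟩ : V) : L) < 1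
    rw [← ValuationSubring.valuation_lt_one_iff, mem_maximalIdeal]
    intro hu
    obtain ⟨w, hw⟩ := hu
    obtain ⟨t, ht⟩ := (hmem _).mp (w⁻¹ : Vˣ).1.2
    have h1 : algebraMap A S a * t = 1 := hji (by
      rw [map_mul, map_one, hjA]
      have h2 := congrArg Subtype.val w.mul_inv
      rw [hw] at h2
      rw [show j t = (((w⁻¹ : Vˣ) : V) : L) from ht]
      exact h2)
    have := hfm.finite_adjoinRoot
    have hc : (maximalIdeal S).comap (algebraMap A S) = maximalIdeal A :=
      eq_maximalIdeal (Ideal.isMaximal_comap_of_isIntegral_of_isMaximal _)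
    have h3 : algebraMap A S a ∈ maximalIdeal S := by rw [← hc] at ha; exact ha
    exact (mem_maximalIdeal _).mp h3 (.of_mul_eq_one _ h1)
  · intro z
    obtain ⟨w, rfl⟩ := residue_surjective z
    obtain ⟨s, hs⟩ := (Dom.mem_iff (hval V hV) w).mp w.2
    obtain ⟨a, ha⟩ := exists_sub_mem s
    refine ⟨a, sub_eq_zero.mp ?_⟩
    show residue V _ - residue V w = 0
    rw [← map_sub, residue_eq_zero_iff, ← neg_mem_iff, neg_sub, ValuationSubring.valuation_lt_one_iff]
    show V.valuation ((w : L) - g a) < 1
    rw [← hs, ← hjA a, show algebraMap S L s = j s from rfl, ← map_sub]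
    exact (hval V hV).2 _ (hm ▸ ha)

end Groth.Agent.H9Ram.EisensteinExt
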