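import Mathlib

/-!
# The fixed field of a decomposition or inertia group gives a henselian local ring

If `L ⊆ Ks` is the fixed field of a set of automorphisms preserving a prime `Ps` of the integral
closure of `R` in the separably closed field `Ks`, the localization of the integral closure of `R`
in `L` at `Ps ∩ L` is henselian.
-/

set_option linter.style.haveILetI false

universe u

namespace Groth.Agent.H9Ram.FixedHenselian

open Polynomial

theorem eq_of_simple_root_mod {B : Type u} [CommRing B] [IsDomain B] (P : Ideal B) [P.IsPrime]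
    {g : B[X]} {t b b' : B} (hb : g.IsRoot b) (hb' : g.IsRoot b') (hbt : b - t ∈ P) (hb't : b' - t ∈ P)
    (hd : g.derivative.eval t ∉ P) : b' = b := by
  by_contra hne
  obtain ⟨q, hq⟩ := dvd_iff_isRoot.mpr hb
  have hq0 : q.eval b' = 0 := by
    have h := hb'.eq_zero
    rw [hq, eval_mul, eval_sub, eval_X, eval_C] at h
    exact (mul_eq_zero.mp h).resolve_left (sub_ne_zero.mpr hne)
  refine hd ?_
  rw [hq, derivative_mul, derivative_sub, derivative_X, derivative_C, sub_zero, one_mul, eval_add,
    eval_mul, eval_sub, eval_X, eval_C]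
  refine add_mem ?_ (P.mul_mem_right _ ?_)
  · obtain ⟨c, hc⟩ := sub_dvd_eval_sub t b' q
    rw [hq0, sub_zero] at hc
    rw [hc]
    refine P.mul_mem_right _ ?_
    rw [← neg_sub]; exact P.neg_mem hb't
  · rw [← neg_sub]; exact P.neg_mem hbt

variable {R Ks : Type u} [CommRing R] [Field Ks] [IsSepClosed Ks] [Algebra R Ks]

/-- A simple root mod `P` lifts uniquely. -/
theorem exists_root_integralClosure (P : Ideal (integralClosure R Ks)) [P.IsPrime]
    {g : (integralClosure R Ks)[X]} (hg : g.Monic) (t : integralClosure R Ks) (h0 : g.eval t ∈ P)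
    (hd : g.derivative.eval t ∉ P) : ∃ b, g.IsRoot b ∧ b - t ∈ P := by
  classical
  let F := AlgebraicClosure Ks
  let Rs := integralClosure R Ks
  let B := integralClosure R F
  let j : Ks →ₐ[R] F := IsScalarTower.toAlgHom R Ks F
  let η : Rs →ₐ[R] B := (j.comp Rs.val).codRestrict B fun x => x.2.map j
  have hηinj : Function.Injective η := fun x y h =>
    Subtype.ext (j.toRingHom.injective (congrArg Subtype.val h))
  letI : Algebra Rs B := η.toRingHom.toAlgebra
  haveI : IsScalarTower R Rs B := IsScalarTower.of_algebraMap_eq fun x => (η.commutes x).symm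
  haveI : Algebra.IsIntegral Rs B := ⟨fun x => (integralClosure.isIntegral x).tower_top⟩
  obtain ⟨P', -, hP', hcomap⟩ := Ideal.exists_ideal_over_prime_of_isIntegral P (⊥ : Ideal B)
    (fun x hx => by
      have : η x = 0 := hx
      rw [hηinj (this.trans (map_zero η).symm)]; exact zero_mem _)
  have hmem : ∀ x, η x ∈ P' ↔ x ∈ P := fun x => by rw [← hcomap]; rfl
  let gB := g.map η.toRingHom
  let gF := gB.map B.val.toRingHom
  have hgF : gF.Monic := (hg.map _).map _
  have hint : ∀ r ∈ gF.roots, r ∈ B := fun r hr => by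
    have h : aeval r gB = 0 := by
      rw [aeval_def, ← eval_map]
      exact (mem_roots hgF.ne_zero).mp hr
    exact isIntegral_trans (R := R) (A := B) r ⟨gB, hg.map _, h⟩
  let rs : Multiset B := gF.roots.attach.map fun r => ⟨r.1, hint r.1 r.2⟩
  have hprod : gB = (rs.map fun r => X - C r).prod := by
    refine map_injective B.val.toRingHom Subtype.val_injective ?_
    rw [Polynomial.map_multiset_prod, Multiset.map_map]
    show gF = _
    conv_lhs => rw [(IsAlgClosed.splits gF).eq_prod_roots_of_monic hgF]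
    simp only [rs, Multiset.map_map, Function.comp_def, Polynomial.map_sub, map_X, map_C]
    conv_lhs => rw [← Multiset.attach_map_val gF.roots]
    rw [Multiset.map_map]
    rfl
  have h0' : gB.eval (η t) ∈ P' := by
    rw [eval_map, show (η t) = η.toRingHom t from rfl, eval₂_at_apply]
    exact (hmem _).mpr h0
  have hd' : gB.derivative.eval (η t) ∉ P' := by
    rw [derivative_map, eval_map, show (η t) = η.toRingHom t from rfl, eval₂_at_apply]
    exact fun h => hd ((hmem _).mp h)
  rw [hprod, eval_multiset_prod, Multiset.map_map] at h0'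
  obtain ⟨c, hc, hcP⟩ := (hP'.multiset_prod_mem_iff_exists_mem _).mp h0'
  obtain ⟨r, hr, rfl⟩ := Multiset.mem_map.mp hc
  simp only [Function.comp_apply, eval_sub, eval_X, eval_C] at hcP
  have hroot : gB.IsRoot r := by
    rw [IsRoot, hprod, eval_multiset_prod]
    refine Multiset.prod_eq_zero (Multiset.mem_map.mpr ⟨X - C r, Multiset.mem_map.mpr ⟨r, hr, rfl⟩, by simp⟩)
  have hdr : gB.derivative.eval r ≠ 0 := fun h => hd' (by
    obtain ⟨z, hz⟩ := sub_dvd_eval_sub (η t) r gB.derivative
    rw [h, sub_zero] at hz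
    rw [hz]; exact P'.mul_mem_right _ hcP)
  -- the root is separable over `Ks`
  let gK := g.map Rs.val.toRingHom
  have hgKF : gK.map (algebraMap Ks F) = gF := by
    rw [show gF = g.map (B.val.toRingHom.comp η.toRingHom) from (map_map _ _ _), map_map]
    rfl
  have hrK : aeval (r : F) gK = 0 := by
    rw [aeval_def, ← eval_map, hgKF, eval_map, show (r : F) = B.val.toRingHom r from rfl, eval₂_at_apply,
      hroot.eq_zero, map_zero]
  have hdrK : aeval (r : F) gK.derivative ≠ 0 := by
    rw [aeval_def, ← eval_map, ← derivative_map, hgKF, derivative_map, eval_map,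
      show (r : F) = B.val.toRingHom r from rfl, eval₂_at_apply]
    exact fun h => hdr (Subtype.ext h)
  have hrint : IsIntegral Ks (r : F) := ⟨gK, hg.map _, hrK⟩
  obtain ⟨q, hq⟩ := minpoly.dvd Ks _ hrK
  have hsep : (minpoly Ks (r : F)).Separable := by
    rw [separable_iff_derivative_ne_zero (minpoly.irreducible hrint)]
    intro h
    refine hdrK ?_
    rw [hq, derivative_mul, h, zero_mul, zero_add, map_mul, minpoly.aeval, zero_mul]
  obtain ⟨b, hb⟩ := minpoly.mem_range_of_degree_eq_one Ks _
    (IsSepClosed.degree_eq_one_of_irreducible Ks (minpoly.irreducible hrint) hsep)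
  have hbint : IsIntegral R b := (isIntegral_algHom_iff j j.toRingHom.injective).mp (hb ▸ r.2 : IsIntegral R (j b))
  have hηb : η ⟨b, hbint⟩ = r := Subtype.ext hb
  refine ⟨⟨b, hbint⟩, hηinj ?_, (hmem _).mp ?_⟩
  · rw [map_zero]
    show η.toRingHom _ = 0
    rw [← eval₂_at_apply, ← eval_map]
    show gB.eval (η ⟨b, hbint⟩) = 0
    rw [hηb]; exact hroot
  · rw [map_sub, hηb, ← neg_sub]
    exact P'.neg_mem hcP

theorem exists_scaled {A O : Type u} [CommRing A] [CommRing O] [Nontrivial O] [Algebra A O] (M : Submonoid A)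
    [IsLocalization M O] {f : O[X]} (hf : f.Monic) (a₀ : O) :
    ∃ (g : A[X]) (t : A) (u : O), g.Monic ∧ IsUnit u ∧ algebraMap A O t * u = a₀ ∧
      ∃ v : O, IsUnit v ∧ g.map (algebraMap A O) = C v * f.comp (C u * X) := by
  classical
  obtain ⟨⟨s, hsM⟩, hs⟩ := IsLocalization.exist_integer_multiples_of_finset M
    (insert a₀ ((Finset.range f.natDegree).image f.coeff))
  obtain ⟨t, ht⟩ := hs a₀ (Finset.mem_insert_self _ _)
  have hu : IsUnit (algebraMap A O s) := IsLocalization.map_units O ⟨s, hsM⟩
  obtain ⟨⟨s', u, hsu, hus⟩, rfl : s' = algebraMap A O s⟩ := hu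
  have hl : f.scaleRoots (algebraMap A O s) ∈ lifts (algebraMap A O) := by
    rw [lifts_iff_coeff_lifts]
    intro i
    rw [coeff_scaleRoots]
    rcases lt_trichotomy i f.natDegree with hi | hi | hi
    · obtain ⟨w, hw⟩ := hs (f.coeff i)
        (Finset.mem_insert_of_mem (Finset.mem_image_of_mem _ (Finset.mem_range.mpr hi)))
      refine ⟨w * s ^ (f.natDegree - i - 1), ?_⟩
      rw [map_mul, map_pow, hw]
      show (s • f.coeff i) * _ = _
      rw [Algebra.smul_def, mul_comm (algebraMap A O s) (f.coeff i), mul_assoc, ← pow_succ',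
        show f.natDegree - i - 1 + 1 = f.natDegree - i by omega]
    · exact ⟨1, by rw [map_one, hi, hf.coeff_natDegree, Nat.sub_self, pow_zero, one_mul]⟩
    · exact ⟨0, by rw [map_zero, coeff_eq_zero_of_natDegree_lt hi, zero_mul]⟩
  obtain ⟨g, hg, -, hgm⟩ := lifts_and_degree_eq_and_monic hl ((monic_scaleRoots_iff _).mpr hf)
  refine ⟨g, t, u, hgm, ⟨⟨u, algebraMap A O s, hus, hsu⟩, rfl⟩, ?_, algebraMap A O s ^ f.natDegree, ?_, ?_⟩
  · rw [ht]; show (s • a₀) * u = a₀
    rw [Algebra.smul_def, mul_right_comm, hsu, one_mul]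
  · exact (IsLocalization.map_units O ⟨s, hsM⟩).pow _
  · rw [hg]
    ext i
    rw [coeff_scaleRoots, coeff_C_mul, comp_C_mul_X_coeff]
    rcases le_or_gt i f.natDegree with hi | hi
    · conv_rhs => rw [← Nat.sub_add_cancel hi, pow_add]
      rw [show algebraMap A O s ^ (f.natDegree - i) * algebraMap A O s ^ i * (f.coeff i * u ^ i) =
        f.coeff i * algebraMap A O s ^ (f.natDegree - i) * (algebraMap A O s * u) ^ i by rw [mul_pow]; ring,
        hsu, one_pow, mul_one]
    · simp [coeff_eq_zero_of_natDegree_lt hi]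

variable {K : Type u} [Field K] [Algebra K Ks] (L : IntermediateField K Ks) [Algebra R K] [IsScalarTower R K Ks]

theorem henselianLocalRing_localization (Ps : Ideal (integralClosure R Ks)) [Ps.IsPrime]
    (S : Set (Ks ≃ₐ[K] Ks))
    (hmem : ∀ x : Ks, (∀ σ ∈ S, σ x = x) → x ∈ L)
    (hfix : ∀ σ ∈ S, ∀ x ∈ L, σ x = x)
    (hS : ∀ σ ∈ S, ∀ x : integralClosure R Ks, x ∈ Ps →
      ∃ h : σ (x : Ks) ∈ integralClosure R Ks, (⟨σ (x : Ks), h⟩ : integralClosure R Ks) ∈ Ps)
    (Q : Ideal (integralClosure R L)) [Q.IsPrime]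
    (hQ : ∀ y : integralClosure R L, y ∈ Q ↔
      ∃ x : integralClosure R Ks, x ∈ Ps ∧ (x : Ks) = ((y : L) : Ks)) :
    HenselianLocalRing (Localization.AtPrime Q) := by
  classical
  let A := integralClosure R L
  let Rs := integralClosure R Ks
  let ι : A →ₐ[R] Rs := ((L.val.restrictScalars R).comp A.val).codRestrict Rs fun x => x.2.map (L.val.restrictScalars R)
  have hι : Function.Injective ι := fun x y h =>
    Subtype.ext (Subtype.ext (congrArg Subtype.val h :))
  have hQ' : ∀ y : A, y ∈ Q ↔ ι y ∈ Ps := fun y => by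
    rw [hQ]
    constructor
    · rintro ⟨x, hx, hxy⟩
      rwa [show ι y = x from Subtype.ext hxy.symm]
    · exact fun h => ⟨ι y, h, rfl⟩
  constructor
  set O := Localization.AtPrime Q
  intro f hf a₀ h0 hd
  obtain ⟨g, t, u, hgm, hu, htu, v, hv, hgf⟩ := exists_scaled (O := O) Q.primeCompl hf a₀
  have hev : ∀ x : A, algebraMap A O (g.eval x) = v * f.eval (u * algebraMap A O x) := fun x => by
    rw [← eval₂_at_apply, ← eval_map, hgf, eval_mul, eval_C, eval_comp, eval_mul, eval_C, eval_X]
  have hg0 : g.eval t ∈ Q := by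
    rw [← IsLocalization.AtPrime.to_map_mem_maximal_iff O Q, hev, mul_comm u, htu]
    exact Ideal.mul_mem_left _ _ h0
  have hgd : g.derivative.eval t ∉ Q := by
    rw [← IsLocalization.AtPrime.to_map_mem_maximal_iff O Q, ← eval₂_at_apply, ← eval_map, ← derivative_map,
      hgf, derivative_C_mul, derivative_comp, derivative_C_mul, derivative_X, mul_one, eval_mul, eval_C,
      eval_mul, eval_C, eval_comp, eval_mul, eval_C, eval_X, mul_comm u (algebraMap A O t), htu,
      IsLocalRing.mem_maximalIdeal, mem_nonunits_iff, not_not]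
    exact hv.mul (hu.mul hd)
  let G := g.map ι.toRingHom
  have hG0 : G.eval (ι t) ∈ Ps := by
    rw [eval_map, show ι t = ι.toRingHom t from rfl, eval₂_at_apply]; exact (hQ' _).mp hg0
  have hGd : G.derivative.eval (ι t) ∉ Ps := by
    rw [derivative_map, eval_map, show ι t = ι.toRingHom t from rfl, eval₂_at_apply]
    exact fun h => hgd ((hQ' _).mpr h)
  obtain ⟨b, hb, hbt⟩ := exists_root_integralClosure Ps (hgm.map _) (ι t) hG0 hGd
  have hbL : (b : Ks) ∈ L := by
    refine hmem _ fun σ hσ => ?_
    let φ : Ks →ₐ[R] Ks := σ.toAlgHom.restrictScalars R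
    let φs : Rs →ₐ[R] Rs := (φ.comp Rs.val).codRestrict Rs fun x => x.2.map φ
    have hιfix : ∀ y : A, φs (ι y) = ι y := fun y => Subtype.ext (hfix σ hσ _ (y : L).2)
    have hG : G.map φs.toRingHom = G := by
      ext i
      simp only [G, coeff_map]
      exact congrArg _ (hιfix (g.coeff i))
    have hb' : G.IsRoot (φs b) := by
      rw [← hG]; exact hb.map
    have hb't : φs b - ι t ∈ Ps := by
      obtain ⟨h, hh⟩ := hS σ hσ _ hbt
      rw [← hιfix t, ← map_sub]
      exact hh
    exact congrArg Subtype.val (eq_of_simple_root_mod Ps hb hb' hbt hb't hGd)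
  have hbA : IsIntegral R (⟨b, hbL⟩ : L) :=
    (isIntegral_algHom_iff (L.val.restrictScalars R) Subtype.val_injective).mp b.2
  let β : A := ⟨⟨b, hbL⟩, hbA⟩
  have hβ : ι β = b := rfl
  refine ⟨u * algebraMap A O β, ?_, ?_⟩
  · have h1 : g.eval β = 0 := hι (by
      rw [map_zero]
      show ι.toRingHom _ = 0
      rw [← eval₂_at_apply, ← eval_map]
      exact hb)
    have h2 := hev β
    rw [h1, map_zero] at h2
    exact hv.mul_right_eq_zero.mp h2.symm
  · rw [← htu, mul_comm u, ← sub_mul, ← map_sub]
    refine Ideal.mul_mem_right _ _ ((IsLocalization.AtPrime.to_map_mem_maximal_iff O Q _).mpr ?_)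
    rw [hQ', map_sub, hβ]
    exact hbt

end Groth.Agent.H9Ram.FixedHenselian
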