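import Mathlib

/-!
The invariants of an inertia group are unramified below the point.
-/

universe u v w

open scoped TensorProduct Pointwise

namespace Groth.Agent.H9Ram

/-- If an automorphism agrees with the identity modulo `m` on the invariants of a group fixing
`B/m` pointwise, it fixes `B/m` pointwise. -/
theorem sub_mem_of_sub_mem_invariants {B' : Type u} {B : Type v} {H : Type w} [CommRing B']
    [CommRing B] [Algebra B' B] [Group H] [Finite H] [MulSemiringAction H B] [SMulCommClass H B' B]
    [Algebra.IsInvariant B' B H] (m : Ideal B) [m.IsMaximal] (hH : ∀ (τ : H) (b : B), τ • b - b ∈ m)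
    (σ : B ≃+* B) (h : ∀ x : B', σ (algebraMap B' B x) - algebraMap B' B x ∈ m) (b : B) :
    σ b - b ∈ m := by
  have hunder : (m.comap σ.toRingHom).under B' = m.under B' := by
    ext x
    simp only [Ideal.mem_comap, RingEquiv.toRingHom_eq_coe, RingEquiv.coe_toRingHom]
    exact ⟨fun hx => by simpa using m.sub_mem hx (h x), fun hx => by simpa using m.add_mem (h x) hx⟩
  have : (m.comap σ.toRingHom).IsPrime := Ideal.IsPrime.comap _
  obtain ⟨τ, hτ⟩ := Algebra.IsInvariant.exists_smul_of_under_eq B' B H m (m.comap σ.toRingHom)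
    hunder.symm
  have hstab : ∀ τ : H, τ • m = m := fun τ =>
    Ideal.inertia_le_stabilizer m (show τ ∈ m.inertia H from hH τ)
  rw [hstab] at hτ
  have : m.LiesOver (m.under B') := ⟨rfl⟩
  let e : (B ⧸ m) ≃+* (B ⧸ m) := Ideal.quotientEquiv m m σ (by
    conv_rhs => rw [← hτ]
    exact (Ideal.map_comap_of_surjective _ σ.surjective m).symm)
  have he : ∀ x : B' ⧸ m.under B', e (algebraMap _ (B ⧸ m) x) = algebraMap _ (B ⧸ m) x := by
    intro x
    obtain ⟨x, rfl⟩ := Ideal.Quotient.mk_surjective x
    exact (Ideal.Quotient.eq.mpr (h x))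
  obtain ⟨τ', hτ'⟩ := Ideal.Quotient.stabilizerHom_surjective H (m.under B') m (AlgEquiv.ofRingEquiv (f := e) he)
  have h1 := AlgEquiv.congr_fun hτ' (Ideal.Quotient.mk m b)
  rw [← Ideal.Quotient.eq]
  calc Ideal.Quotient.mk m (σ b) = Ideal.Quotient.mk m ((τ' : H) • b) := h1.symm
    _ = Ideal.Quotient.mk m b := Ideal.Quotient.eq.mpr (hH _ _)

/-- Unramifiedness at `m ∩ B'` from maps separating `1` from the other conjugates. -/
theorem formallyUnramified_localization_of_separated {A : Type u} {B' : Type v} {B : Type w}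
    [CommRing A] [CommRing B'] [CommRing B] [Algebra A B'] [Algebra A B] [Algebra B' B]
    [IsScalarTower A B' B] [Module.Finite A B'] {ι : Type*} [Finite ι] (φ : ι → (B' →ₐ[A] B))
    (hinj : ∀ z : B ⊗[A] B', Algebra.TensorProduct.lift (AlgHom.id A B)
      (IsScalarTower.toAlgHom A B' B) (fun _ _ => Commute.all _ _) z = 0 →
      (∀ i, Algebra.TensorProduct.lift (AlgHom.id A B) (φ i) (fun _ _ => Commute.all _ _) z = 0) →
        z = 0)
    (m : Ideal B) [m.IsMaximal] [(m.comap (algebraMap B' B)).IsMaximal]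
    (hsep : ∀ i, ∃ x : B', φ i x - algebraMap B' B x ∉ m) :
    Algebra.FormallyUnramified A (Localization.AtPrime (m.comap (algebraMap B' B))) := by
  classical
  have := Fintype.ofFinite ι
  let p := m.comap (algebraMap B' B)
  let μ := Algebra.TensorProduct.lift (AlgHom.id A B) (IsScalarTower.toAlgHom A B' B)
    (fun _ _ => Commute.all _ _)
  let ψ := fun i => Algebra.TensorProduct.lift (AlgHom.id A B) (φ i) (fun _ _ => Commute.all _ _)
  choose x hx using hsep
  let s : B ⊗[A] B' := ∏ i, (φ i (x i) ⊗ₜ[A] (1 : B') - (1 : B) ⊗ₜ[A] x i)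
  have hs1 : μ s ∉ m := by
    rw [map_prod]
    intro hmem
    obtain ⟨i, -, hi⟩ := Ideal.IsPrime.prod_mem_iff.mp hmem
    simp [μ] at hi
    exact hx i hi
  have hskill : ∀ z, μ z = 0 → s * z = 0 := fun z hz => hinj _ (by
      show μ (s * z) = 0
      rw [map_mul, hz, mul_zero]) fun i => by
    show ψ i (s * z) = 0
    rw [map_mul, map_prod, Finset.prod_eq_zero (Finset.mem_univ i) (by simp [ψ]), zero_mul]
  -- linear map `b ⊗ x ↦ b̄ ⊗ dx`
  let M := (B ⧸ m) ⊗[B'] Ω[B'⁄A]
  let d : B' →ₗ[A] M :=
    { toFun := fun y => (1 : B ⧸ m) ⊗ₜ[B'] KaehlerDifferential.D A B' y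
      map_add' := fun a b => by simp [TensorProduct.tmul_add]
      map_smul' := fun a b => by rw [RingHom.id_apply, Derivation.map_smul, TensorProduct.tmul_smul] }
  let Φ : B ⊗[A] B' →ₗ[A] M := TensorProduct.lift (LinearMap.mk₂ A
    (fun b y => Ideal.Quotient.mk m b • d y)
    (fun b b' y => by rw [map_add, add_smul])
    (fun a b y => by
      show Ideal.Quotient.mk m (a • b) • d y = a • Ideal.Quotient.mk m b • d y
      rw [← smul_assoc]; rfl)
    (fun b y y' => by rw [map_add, smul_add])
    (fun a b y => by rw [map_smul, smul_comm]))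
  have hΦ : ∀ (t : B ⊗[A] B') (y : B'), Φ (t * ((1 : B) ⊗ₜ y - algebraMap B' B y ⊗ₜ[A] (1 : B'))) =
      Ideal.Quotient.mk m (μ t) • d y := fun t y => by
    induction t with
    | zero => simp
    | add a b ha hb => rw [add_mul, map_add, ha, hb, map_add, map_add, add_smul]
    | tmul b z =>
      have hd : d (z * y) = Ideal.Quotient.mk m (algebraMap B' B z) • d y +
          Ideal.Quotient.mk m (algebraMap B' B y) • d z := by
        have hsm : ∀ (c : B') (w : M), c • w = Ideal.Quotient.mk m (algebraMap B' B c) • w :=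
          fun c w => by rw [← algebraMap_smul (B ⧸ m) c w]; rfl
        rw [← hsm, ← hsm]
        change (1 : B ⧸ m) ⊗ₜ[B'] KaehlerDifferential.D A B' (z * y) = _
        rw [Derivation.leibniz, TensorProduct.tmul_add, TensorProduct.tmul_smul,
          TensorProduct.tmul_smul]
        rfl
      have hμ : μ (b ⊗ₜ[A] z) = b * algebraMap B' B z := Algebra.TensorProduct.lift_tmul _ _ _ _ _
      have hΦ0 : ∀ (b : B) (y : B'), Φ (b ⊗ₜ[A] y) = Ideal.Quotient.mk m b • d y := fun b y => rfl
      rw [mul_sub, Algebra.TensorProduct.tmul_mul_tmul, Algebra.TensorProduct.tmul_mul_tmul,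
        mul_one, mul_one, map_sub, hΦ0, hΦ0, hd, hμ, smul_add, map_mul, map_mul, mul_smul,
        mul_smul, add_sub_cancel_right]
  have hd0 : ∀ y, d y = 0 := fun y => by
    letI := Ideal.Quotient.field m
    have h2 := hΦ s y
    rw [hskill _ (by simp [μ]), map_zero] at h2
    exact (smul_eq_zero.mp h2.symm).resolve_left fun h => hs1 (Ideal.Quotient.eq_zero_iff_mem.mp h)
  have hM : Subsingleton ((B ⧸ m) ⊗[B'] Ω[B'⁄A]) := subsingleton_of_forall_eq 0 fun z => by
    induction z with
    | zero => rfl
    | add a b ha hb => rw [ha, hb, add_zero]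
    | tmul c ω =>
      have hω : ω ∈ Submodule.span B' (Set.range (KaehlerDifferential.D A B')) := by
        rw [KaehlerDifferential.span_range_derivation]; trivial
      induction hω using Submodule.span_induction generalizing c with
      | mem ω h =>
        obtain ⟨y, rfl⟩ := h
        rw [← mul_one c, ← smul_eq_mul, ← TensorProduct.smul_tmul',
          show (1 : B ⧸ m) ⊗ₜ[B'] KaehlerDifferential.D A B' y = d y from rfl, hd0, smul_zero]
      | zero => simp
      | add a b _ _ ha hb => rw [TensorProduct.tmul_add, ha, hb, add_zero]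
      | smul r a _ ha => rw [← TensorProduct.smul_tmul, ha]
  letI := Ideal.Quotient.field p
  have : m.LiesOver p := ⟨rfl⟩
  have hN : Subsingleton ((B' ⧸ p) ⊗[B'] Ω[B'⁄A]) := by
    let e := TensorProduct.AlgebraTensorModule.cancelBaseChange B' (B' ⧸ p) (B ⧸ m) (B ⧸ m) Ω[B'⁄A]
    have : Subsingleton ((B ⧸ m) ⊗[B' ⧸ p] ((B' ⧸ p) ⊗[B'] Ω[B'⁄A])) := e.toEquiv.subsingleton
    exact (Module.FaithfullyFlat.subsingleton_tensorProduct_iff_right (B' ⧸ p) (B ⧸ m)).mp this
  rw [Algebra.formallyUnramified_iff]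
  have hz : p • (⊤ : Submodule B' Ω[B'⁄A]) = ⊤ := by
    have := (TensorProduct.quotTensorEquivQuotSMul Ω[B'⁄A] p).symm.toEquiv.subsingleton
    exact Submodule.Quotient.subsingleton_iff.mp this
  obtain ⟨r, hr, hr'⟩ := Submodule.exists_sub_one_mem_and_smul_eq_zero_of_fg_of_le_smul p ⊤
    Module.Finite.fg_top hz.ge
  refine (IsLocalizedModule.iso p.primeCompl
    (KaehlerDifferential.map A A B' (Localization.AtPrime p))).subsingleton_congr.mp ?_
  rw [LocalizedModule.subsingleton_iff]
  exact fun ω => ⟨r, fun hrp => (Ideal.IsPrime.ne_top' (I := p)) ((Ideal.eq_top_iff_one _).mpr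
    (by simpa using p.sub_mem hrp hr)), hr' ω trivial⟩

/-- A family linearly independent over `K` in a separable finite extension: an element of
`B ⊗ B'` killed by all conjugate maps vanishes. -/
theorem eq_zero_of_sum_mul_conj {K : Type u} {L : Type v} [Field K] [Field L] [Algebra K L]
    [FiniteDimensional K L] [IsGalois K L] {ι : Type w} [Fintype ι] (e : ι → L)
    (he : LinearIndependent K e) (b : ι → L) (h : ∀ σ : L ≃ₐ[K] L, ∑ j, b j * σ (e j) = 0)
    (k : ι) : b k = 0 := by
  classical
  obtain ⟨g, hg⟩ := LinearMap.exists_extend ((Finsupp.lapply k).comp he.repr)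
  obtain ⟨y, hy⟩ : ∃ y : L, ∀ x, Algebra.trace K L (y * x) = g x := by
    refine ⟨(LinearMap.BilinForm.toDual (Algebra.traceForm K L)
      (traceForm_nondegenerate K L)).symm g, fun x => ?_⟩
    have := LinearMap.BilinForm.apply_toDual_symm_apply (B := Algebra.traceForm K L)
      (hB := traceForm_nondegenerate K L) g x
    rw [Algebra.traceForm_apply] at this
    exact this
  have hsum : ∀ j, algebraMap K L (g (e j)) = if j = k then 1 else 0 := fun j => by
    have h3 := LinearMap.congr_fun hg ⟨e j, Submodule.subset_span ⟨j, rfl⟩⟩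
    simp only [LinearMap.coe_comp, Submodule.coe_subtype, Function.comp_apply,
      LinearEquiv.coe_coe] at h3
    rw [h3, he.repr_eq_single j _ rfl]
    simp [Finsupp.single_apply]
  have h2 : ∑ j, b j * algebraMap K L (g (e j)) = 0 := by
    simp only [← hy, trace_eq_sum_automorphisms, map_mul, Finset.mul_sum]
    rw [Finset.sum_comm]
    refine Finset.sum_eq_zero fun σ _ => ?_
    rw [show ∑ j, b j * (σ y * σ (e j)) = σ y * ∑ j, b j * σ (e j) by
      rw [Finset.mul_sum]; exact Finset.sum_congr rfl fun j _ => by ring, h σ, mul_zero]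
  simpa [hsum] using h2

end Groth.Agent.H9Ram
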