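import Groth.Prelude.Def_EtRam
import Groth.Agent.H9Ram.Dominates
import Groth.Agent.H11Val.Dominating
import Mathlib.RingTheory.Spectrum.Prime.Noetherian
import Mathlib.RingTheory.TensorProduct.Maps
import Mathlib.LinearAlgebra.TensorProduct.RightExactness

/-!
The local extensions of a compositum, read off a ring generating it.
-/

namespace Groth.Agent.H9Ram.LocalExt

universe u

open IsLocalRing
open scoped TensorProduct

/-- A dominating valuation subring in a finite extension is a discrete valuation ring. -/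
theorem isDVR {A K L : Type u} [CommRing A] [IsDomain A] [IsDiscreteValuationRing A] [Field K] [Algebra A K]
    [IsFractionRing A K] [Field L] [Algebra K L] [FiniteDimensional K L] {V : ValuationSubring L}
    (h : EtRam.Dominates A ((algebraMap K L).comp (algebraMap A K)) V) : IsDiscreteValuationRing V := by
  let : Algebra A L := ((algebraMap K L).comp (algebraMap A K)).toAlgebra
  have : IsScalarTower A K L := IsScalarTower.of_algebraMap_eq fun _ => rfl
  have hD : ∀ b : A, b ≠ 0 → IsFiniteLength A (A ⧸ Ideal.span {b}) := by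
    intro b hb
    have : IsArtinianRing (A ⧸ Ideal.span {b}) := by
      have : Ring.KrullDimLE 0 (A ⧸ Ideal.span {b}) := Ring.KrullDimLE.mk₀ fun I hI => by
        have hc : (I.comap (Ideal.Quotient.mk (Ideal.span {b}))).IsPrime := Ideal.IsPrime.comap _
        have hne : I.comap (Ideal.Quotient.mk (Ideal.span {b})) ≠ ⊥ := fun h0 => hb (by
          have : b ∈ I.comap (Ideal.Quotient.mk (Ideal.span {b})) := by
            rw [Ideal.mem_comap, Ideal.Quotient.eq_zero_iff_mem.mpr (Ideal.mem_span_singleton_self b)]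
            exact zero_mem _
          rwa [h0, Ideal.mem_bot] at this)
        have hmax := hc.isMaximal hne
        have h1 := hmax.map_of_surjective_of_ker_le Ideal.Quotient.mk_surjective (Ideal.ker_le_comap _)
        rwa [Ideal.map_comap_of_surjective _ Ideal.Quotient.mk_surjective] at h1
      exact IsNoetherianRing.isArtinianRing_of_krullDimLE_zero
    exact isFiniteLength_iff_isNoetherian_isArtinian.2
      ⟨inferInstance, isArtinian_of_surjective_algebraMap (R := A ⧸ Ideal.span {b})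
        Ideal.Quotient.mk_surjective⟩
  let S : Subalgebra A L := { V.toSubring.toSubsemiring with algebraMap_mem' := h.1 }
  have : IsNoetherianRing S := H11Val.isNoetherianRing_subalgebra hD K S
  have : IsNoetherianRing V := isNoetherianRing_of_ringEquiv S
    { toFun := fun z => ⟨z.1, z.2⟩, invFun := fun z => ⟨z.1, z.2⟩,
      map_add' := fun _ _ => rfl, map_mul' := fun _ _ => rfl }
  obtain ⟨π, hπ⟩ := IsDiscreteValuationRing.exists_irreducible A
  exact H11Val.isDVR_of_isNoetherianRing V (h.1 π)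
    ((_root_.map_ne_zero (algebraMap K L)).mpr
      ((map_ne_zero_iff _ (IsFractionRing.injective A K)).mpr hπ.ne_zero))
    (h.2 π ((mem_maximalIdeal π).mpr hπ.not_isUnit))

section Generated

variable {M : Type u} [Field M] {W : ValuationSubring M} [IsDiscreteValuationRing W]
  {T T₀ : Type u} [CommRing T] [CommRing T₀] [IsArtinianRing T₀] [IsReduced T₀]
  {τ : T} (φ : T →+* W) (q : T →+* T₀)

/-- If `M` is generated by a ring mapping to `W` whose reduction modulo `τ` is a product of fields, then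
`τ` generates the maximal ideal of `W` and the residue field of `W` is a quotient of that reduction by
the prime at a point, which is cut out by an idempotent. -/
theorem generated (hτ : φ τ ∈ maximalIdeal W) (hτ0 : φ τ ≠ 0)
    (hgen : ∀ x : M, x ∈ Subfield.closure (Set.range fun a => ((φ a : W) : M)))
    (hq : Function.Surjective q) (hker : RingHom.ker q ≤ Ideal.span {τ}) :
    maximalIdeal W = Ideal.span {φ τ} ∧
      ∃ ψ : T₀ →+* ResidueField W, ψ.comp q = (residue W).comp φ ∧ Function.Surjective ψ ∧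
        ∃ r : T₀, ψ r = 1 ∧ ∀ x ∈ RingHom.ker ψ, r * x = 0 := by
  let ρ : T →+* ResidueField W := (residue W).comp φ
  have hkρ : RingHom.ker q ≤ RingHom.ker ρ := hker.trans <| by
    rw [Ideal.span_singleton_le_iff_mem, RingHom.mem_ker]
    exact (residue_eq_zero_iff _).mpr hτ
  obtain ⟨σ, hσ⟩ := hq.hasRightInverse
  let ψ : T₀ →+* ResidueField W := q.liftOfRightInverse σ hσ ⟨ρ, hkρ⟩
  have hψ : ψ.comp q = ρ := q.liftOfRightInverse_comp σ hσ ⟨ρ, hkρ⟩
  let P₀ := RingHom.ker ψ
  have : P₀.IsPrime := RingHom.ker_isPrime ψ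
  have : P₀.IsMaximal := IsArtinianRing.isMaximal_of_isPrime P₀
  obtain ⟨r, hrP, hr, hr'⟩ := IsArtinianRing.exists_not_mem_forall_mem_of_ne P₀
  have hr0 : ∀ x ∈ P₀, r * x = 0 := fun x hx => by
    refine IsReduced.eq_zero _ ?_
    rw [nilpotent_iff_mem_prime]
    intro Q hQ
    by_cases h : Q = P₀
    · exact h ▸ Ideal.mul_mem_left _ _ hx
    · exact Ideal.mul_mem_right _ _ (hr' Q hQ h)
  have hψr : ψ r = 1 := by
    have h1 : ψ r * ψ r = ψ r := by rw [← map_mul, hr.eq]
    exact (mul_eq_left₀ (RingHom.mem_ker.not.mp hrP)).mp h1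
  obtain ⟨s, rfl⟩ := hq r
  have hsW : IsUnit (φ s) := by
    rw [← residue_ne_zero_iff_isUnit]
    show ρ s ≠ 0
    rw [← hψ, RingHom.comp_apply, hψr]; exact one_ne_zero
  have hstep : ∀ a : T, φ a ∈ maximalIdeal W → ∃ b, φ a = φ τ * (φ b * (hsW.unit⁻¹ : Wˣ)) := by
    intro a ha
    have hqa : q (s * a) = 0 := by
      rw [map_mul]
      refine hr0 _ (RingHom.mem_ker.mpr ?_)
      rw [← RingHom.comp_apply, hψ]
      exact (residue_eq_zero_iff _).mpr ha
    obtain ⟨b, hb⟩ := Ideal.mem_span_singleton.mp (hker (RingHom.mem_ker.mpr hqa))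
    refine ⟨b, ?_⟩
    have h2 := congrArg φ hb
    rw [map_mul, map_mul] at h2
    rw [← mul_assoc, ← h2, mul_comm (φ s), mul_assoc, hsW.mul_val_inv, mul_one]
  -- the fractions with invertible numerator and denominator
  let U : Submonoid Wˣ :=
    { carrier := {v | ∃ a c : T, IsUnit (φ a) ∧ IsUnit (φ c) ∧ (v : W) * φ c = φ a}
      one_mem' := ⟨1, 1, by simp, by simp, by simp⟩
      mul_mem' := fun {v w} ⟨a, c, ha, hc, h⟩ ⟨a', c', ha', hc', h'⟩ =>
        ⟨a * a', c * c', by rw [map_mul]; exact ha.mul ha', by rw [map_mul]; exact hc.mul hc', by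
          rw [map_mul, map_mul, ← h, ← h', Units.val_mul]; ring⟩ }
  have hUinv : ∀ v ∈ U, v⁻¹ ∈ U := fun v ⟨a, c, ha, hc, h⟩ => ⟨c, a, hc, ha, by
    rw [← h, ← mul_assoc, Units.inv_mul, one_mul]⟩
  obtain ⟨ϖ, hϖ⟩ := IsDiscreteValuationRing.exists_irreducible W
  obtain ⟨c, u, hu⟩ := IsDiscreteValuationRing.eq_unit_mul_pow_irreducible hτ0 hϖ
  have hc : c ≠ 0 := by
    rintro rfl
    rw [pow_zero, mul_one] at hu
    exact (mem_maximalIdeal _).mp hτ (hu ▸ u.isUnit)
  -- every nonzero value is a power of `φ τ` times such a fraction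
  have hform : ∀ a : T, φ a ≠ 0 → ∃ n : ℕ, ∃ v ∈ U, φ a = φ τ ^ n * (v : W) := by
    intro a ha
    obtain ⟨k, v, hk⟩ := IsDiscreteValuationRing.eq_unit_mul_pow_irreducible ha hϖ
    induction k using Nat.strong_induction_on generalizing a v with
    | _ k ih =>
      by_cases hau : IsUnit (φ a)
      · exact ⟨0, hau.unit, ⟨a, 1, hau, by simp, by simp⟩, by simp⟩
      obtain ⟨b, hb⟩ := hstep a ((mem_maximalIdeal _).mpr hau)
      have hb0 : φ b ≠ 0 := fun h0 => ha (by rw [hb, h0]; simp)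
      obtain ⟨j, w, hj⟩ := IsDiscreteValuationRing.eq_unit_mul_pow_irreducible hb0 hϖ
      have hjk : j < k := by
        have h3 : ((u * w * hsW.unit⁻¹ : Wˣ) : W) * ϖ ^ (c + j) = v * ϖ ^ k := by
          rw [← hk, hb, hu, hj, Units.val_mul, Units.val_mul, pow_add]; ring
        have := IsDiscreteValuationRing.unit_mul_pow_congr_pow hϖ hϖ _ _ _ _ h3
        omega
      obtain ⟨n, z, hz, hbz⟩ := ih j hjk b hb0 w hj
      refine ⟨n + 1, z * hsW.unit⁻¹,
        mul_mem hz (hUinv _ ⟨s, 1, hsW, by simp, by simp⟩), ?_⟩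
      rw [hb, hbz, Units.val_mul, pow_succ]; ring
  have hval : ∀ x : M, x ∈ W → x ≠ 0 → ∃ n : ℕ, ∃ v ∈ U, x = ((φ τ ^ n * (v : W) : W) : M) := by
    intro x hxW hx0
    obtain ⟨y, hy, z, hz, rfl⟩ := Subfield.mem_closure_iff.mp (hgen x)
    have hsub : Subring.closure (Set.range fun a => ((φ a : W) : M)) ≤ (W.subtype.comp φ).range :=
      Subring.closure_le.mpr fun _ ⟨a, ha⟩ => ⟨a, ha⟩
    obtain ⟨a, rfl⟩ := hsub hy
    obtain ⟨b, rfl⟩ := hsub hz
    change ((φ a : W) : M) / ((φ b : W) : M) ∈ W at hxW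
    change ((φ a : W) : M) / ((φ b : W) : M) ≠ 0 at hx0
    have ha0 : φ a ≠ 0 := fun h0 => hx0 (by simp [h0])
    have hb0 : φ b ≠ 0 := fun h0 => hx0 (by simp [h0])
    obtain ⟨n, v, hv, hav⟩ := hform a ha0
    obtain ⟨m, w, hw, hbw⟩ := hform b hb0
    have hb0M : ((φ b : W) : M) ≠ 0 := fun h0 => hb0 (Subtype.ext h0)
    have hxb : (⟨_, hxW⟩ : W) * φ b = φ a := Subtype.ext (div_mul_cancel₀ _ hb0M)
    have hle : m ≤ n := by
      by_contra hlt
      obtain ⟨d, hd⟩ := Nat.exists_eq_add_of_le (not_le.mp hlt).le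
      obtain ⟨X, hX⟩ : ∃ X : W, X * φ b = φ a := ⟨_, hxb⟩
      have h1 : (v : W) = φ τ ^ d * (X * w) := by
        refine mul_left_cancel₀ (pow_ne_zero n hτ0) ?_
        rw [← hav, ← hX, hbw, hd, pow_add]; ring
      have : IsUnit (φ τ ^ d) := isUnit_of_mul_isUnit_left (h1 ▸ v.isUnit)
      exact (mem_maximalIdeal _).mp hτ ((isUnit_pow_iff (by omega)).mp this)
    refine ⟨n - m, v * w⁻¹, mul_mem hv (hUinv _ hw), ?_⟩
    show ((φ a : W) : M) / ((φ b : W) : M) = _
    rw [div_eq_iff hb0M, ← MulMemClass.coe_mul]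
    refine congrArg Subtype.val ?_
    rw [hav, hbw, Units.val_mul, show φ τ ^ n = φ τ ^ (n - m) * φ τ ^ m by rw [← pow_add, Nat.sub_add_cancel hle]]
    linear_combination φ τ ^ (n - m) * φ τ ^ m * (v : W) * (w.inv_mul).symm
  refine ⟨le_antisymm (fun x hx => ?_) ((Ideal.span_singleton_le_iff_mem _).mpr hτ), ψ, hψ, ?_, q s, hψr, hr0⟩
  · rcases eq_or_ne x 0 with rfl | hx0
    · exact zero_mem _
    obtain ⟨n, v, -, hxe⟩ := hval x x.2 fun h0 => hx0 (Subtype.ext h0)
    rw [show x = φ τ ^ n * (v : W) from Subtype.ext hxe]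
    rcases n with _ | n
    · exact absurd (show IsUnit x by rw [Subtype.ext hxe, pow_zero, one_mul]; exact v.isUnit)
        ((mem_maximalIdeal _).mp hx)
    exact Ideal.mul_mem_right _ _ (Ideal.pow_mem_of_mem _ (Ideal.mem_span_singleton_self _) _ n.succ_pos)
  · intro z
    obtain ⟨x, rfl⟩ := residue_surjective z
    rcases eq_or_ne x 0 with rfl | hx0
    · exact ⟨0, by simp⟩
    obtain ⟨n, v, ⟨a, b, -, hb, hvb⟩, hxe⟩ := hval x x.2 fun h0 => hx0 (Subtype.ext h0)
    rw [Subtype.ext hxe]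
    have hbP : q b ∉ P₀ := fun h0 => by
      rw [RingHom.mem_ker, ← RingHom.comp_apply, hψ] at h0
      exact (residue_ne_zero_iff_isUnit _).mpr hb h0
    obtain ⟨b', i, hi, hbb⟩ := (inferInstance : P₀.IsMaximal).exists_inv hbP
    refine ⟨q (τ ^ n * a) * b', ?_⟩
    have hbb1 : ψ b' * ψ (q b) = 1 := by
      have := congrArg ψ hbb
      rwa [map_add, map_mul, RingHom.mem_ker.mp hi, add_zero, map_one] at this
    have hq' : ∀ t, ψ (q t) = residue W (φ t) := fun t => RingHom.congr_fun hψ t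
    rw [map_mul, hq', map_mul φ, map_pow φ, ← hvb]
    simp only [map_mul, map_pow]
    rw [hq'] at hbb1
    linear_combination residue W (φ τ) ^ n * residue W (v : W) * hbb1

end Generated

/-- A quotient cut out by an idempotent-like element of a geometrically reduced algebra is geometrically reduced. -/
theorem geomReduced_quotient {k T₀ E : Type u} [Field k] [CommRing T₀] [Algebra k T₀] [CommRing E] [Algebra k E]
    [Algebra.IsGeometricallyReduced k T₀] (ψ : T₀ →ₐ[k] E) (hψ : Function.Surjective ψ) (r : T₀)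
    (hr : ψ r = 1) (hr0 : ∀ x ∈ RingHom.ker ψ, r * x = 0) : Algebra.IsGeometricallyReduced k E := by
  rw [Algebra.isGeometricallyReduced_field_iff] at *
  let Ψ := Algebra.TensorProduct.map (AlgHom.id k (AlgebraicClosure k)) ψ
  have hΨ : Function.Surjective Ψ := TensorProduct.map_surjective Function.surjective_id hψ
  have hkill : ∀ w ∈ RingHom.ker Ψ, (1 ⊗ₜ r) * w = 0 := by
    intro w hw
    rw [Algebra.TensorProduct.lTensor_ker ψ hψ] at hw
    induction hw using Submodule.span_induction with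
    | mem x hx =>
      obtain ⟨y, hy, rfl⟩ := hx
      show (1 ⊗ₜ r : AlgebraicClosure k ⊗[k] T₀) * (1 ⊗ₜ y) = 0
      rw [Algebra.TensorProduct.tmul_mul_tmul, hr0 y hy, TensorProduct.tmul_zero]
    | zero => rw [mul_zero]
    | add x y _ _ hx hy => rw [mul_add, hx, hy, add_zero]
    | smul c x _ hx => rw [smul_eq_mul, mul_left_comm, hx, mul_zero]
  refine ⟨fun z ⟨n, hn⟩ => ?_⟩
  obtain ⟨w, rfl⟩ := hΨ z
  have h1 : Ψ (1 ⊗ₜ r) = 1 := by
    show (1 : AlgebraicClosure k) ⊗ₜ ψ r = 1
    rw [hr]; rfl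
  have h2 : ((1 ⊗ₜ r) * w) ^ (n + 1) = 0 := by
    have hw : w ^ n ∈ RingHom.ker Ψ := by rw [RingHom.mem_ker, map_pow]; exact hn
    rw [mul_pow, pow_succ, pow_succ w, mul_assoc, mul_left_comm (1 ⊗ₜ r : AlgebraicClosure k ⊗[k] T₀) (w ^ n),
      ← mul_assoc (w ^ n), mul_comm (w ^ n), hkill _ hw]
    simp
  have h3 : (1 ⊗ₜ r) * w = 0 := IsReduced.eq_zero _ ⟨_, h2⟩
  have h4 := congrArg Ψ h3
  rwa [map_mul, h1, one_mul, map_zero] at h4

end Groth.Agent.H9Ram.LocalExt
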