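import Groth.Agent.H9Ram.UnramGen
import Groth.Agent.S7132
import Mathlib.FieldTheory.SeparableClosure
import Mathlib.FieldTheory.IntermediateField.Adjoin.Basic

/-!
Abhyankar's lemma and stability of tame ramification under extensions of the base.
-/

namespace Groth.Agent.H9Ram.TameBC

universe u

open IsLocalRing Polynomial

theorem charP_not_dvd {κ : Type*} [Semiring κ] {n : ℕ} (hn : (n : κ) ≠ 0) (p : ℕ) (hc : CharP κ p) :
    ¬ p ∣ n := fun h => hn ((CharP.cast_eq_zero_iff κ p n).mpr h)

/-- The ramification index read off on uniformizers. -/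
theorem exists_eq_unit_mul_pow {R S : Type*} [CommRing R] [IsDomain R] [IsDiscreteValuationRing R]
    [CommRing S] [IsDomain S] [IsDiscreteValuationRing S] [Algebra R S]
    [IsLocalHom (algebraMap R S)] (hinj : Function.Injective (algebraMap R S)) {π : R}
    (hπ : Irreducible π) {ϖ : S} (hϖ : Irreducible ϖ) :
    ∃ u : Sˣ, algebraMap R S π = u * ϖ ^ Ideal.ramificationIdx' (maximalIdeal R) (maximalIdeal S) ∧
      Ideal.ramificationIdx' (maximalIdeal R) (maximalIdeal S) ≠ 0 := by
  have h0 : algebraMap R S π ≠ 0 := (map_ne_zero_iff _ hinj).mpr hπ.ne_zero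
  obtain ⟨n, u, hu⟩ := IsDiscreteValuationRing.eq_unit_mul_pow_irreducible h0 hϖ
  have hn : Ideal.ramificationIdx' (maximalIdeal R) (maximalIdeal S) = n := by
    refine Ideal.ramificationIdx'_spec ?_ ?_
    · rw [hπ.maximalIdeal_eq, Ideal.map_span, Set.image_singleton, hϖ.maximalIdeal_eq,
        Ideal.span_singleton_pow, hu, Ideal.span_singleton_mul_left_unit u.isUnit]
    · rw [hπ.maximalIdeal_eq, Ideal.map_span, Set.image_singleton, hϖ.maximalIdeal_eq,
        Ideal.span_singleton_pow, hu, Ideal.span_singleton_mul_left_unit u.isUnit,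
        Ideal.span_singleton_le_span_singleton, pow_dvd_pow_iff hϖ.ne_zero hϖ.not_isUnit]
      omega
  refine ⟨u, hn ▸ hu, fun he => hπ.not_isUnit (isUnit_of_map_unit (algebraMap R S) π ?_)⟩
  rw [hu, ← hn, he, pow_zero, mul_one]
  exact u.isUnit

section Root

variable {A K M : Type u} [CommRing A] [IsDomain A] [IsDiscreteValuationRing A] [Field K] [Algebra A K]
  [IsFractionRing A K] [Field M] [Algebra K M] [FiniteDimensional K M] [Algebra.IsSeparable K M]

/-- A root of a uniformizer generates a totally ramified extension. -/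
theorem root_uniformizer {π : A} (hπ : Irreducible π) {n : ℕ} (hn : n ≠ 0) {y : M}
    (hy : y ^ n = algebraMap K M (algebraMap A K π)) (hgen : IntermediateField.adjoin K {y} = ⊤)
    (W : ValuationSubring M) (hW : EtRam.Dominates A ((algebraMap K M).comp (algebraMap A K)) W) :
    letI : Algebra A W := (RingHom.codRestrict ((algebraMap K M).comp (algebraMap A K)) W hW.1).toAlgebra
    ∀ [IsLocalHom (algebraMap A W)],
      Ideal.ramificationIdx' (maximalIdeal A) (maximalIdeal W) = n ∧
        Algebra.IsSeparable (ResidueField A) (ResidueField W) := by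
  let : Algebra A W := (RingHom.codRestrict ((algebraMap K M).comp (algebraMap A K)) W hW.1).toAlgebra
  intro _
  have := ValSub.isDVR hW
  let : Algebra A M := ((algebraMap K M).comp (algebraMap A K)).toAlgebra
  have : IsScalarTower A K M := IsScalarTower.of_algebraMap_eq fun _ => rfl
  have : IsScalarTower A W M := IsScalarTower.of_algebraMap_eq fun _ => rfl
  have hinj : Function.Injective (algebraMap A W) :=
    ValSub.codRestrict_injective (g := (algebraMap K M).comp (algebraMap A K))
      ((algebraMap K M).injective.comp (IsFractionRing.injective A K)) hW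
  obtain ⟨hfin, hef⟩ := S7132.result A W K M hinj
  have hdeg : Module.finrank K M ≤ n := by
    rw [← IntermediateField.finrank_top', ← hgen, IntermediateField.adjoin.finrank (IsIntegral.of_finite K y)]
    refine (natDegree_le_of_dvd (minpoly.dvd K y ?_) (X_pow_sub_C_ne_zero (Nat.pos_of_ne_zero hn) _)).trans
      (natDegree_X_pow_sub_C (r := algebraMap A K π)).le
    simp [hy]
  obtain ⟨ϖ, hϖ⟩ := IsDiscreteValuationRing.exists_irreducible W
  obtain ⟨u, hu, he0⟩ := exists_eq_unit_mul_pow hinj hπ hϖ
  set e := Ideal.ramificationIdx' (maximalIdeal A) (maximalIdeal W)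
  have hyn : y ^ n ∈ W := hy ▸ hW.1 π
  let yW : W := ⟨y, UnramGen.mem_of_pow_mem W hn hyn⟩
  have hyW : yW ^ n = algebraMap A W π := Subtype.ext hy
  have hyW0 : yW ≠ 0 := fun h0 => by
    rw [h0, zero_pow hn] at hyW
    exact hπ.ne_zero (hinj (hyW.symm.trans (map_zero _).symm))
  obtain ⟨j, v, hv⟩ := IsDiscreteValuationRing.eq_unit_mul_pow_irreducible hyW0 hϖ
  have hej : e = j * n := by
    refine IsDiscreteValuationRing.unit_mul_pow_congr_pow hϖ hϖ u (v ^ n) _ _ ?_
    rw [← hu, ← hyW, hv, mul_pow, ← pow_mul, Units.val_pow_eq_pow_val]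
  have hf : 0 < Module.finrank (ResidueField A) (ResidueField W) := Module.finrank_pos
  have hj : 0 < j := Nat.pos_of_ne_zero fun h => he0 (by rw [hej, h, zero_mul])
  have hle := hef.trans hdeg
  have h1 : n ≤ e := hej ▸ Nat.le_mul_of_pos_left n hj
  have hf1 : Module.finrank (ResidueField A) (ResidueField W) = 1 := by
    by_contra hne
    have h3 : e * 2 ≤ e * Module.finrank (ResidueField A) (ResidueField W) :=
      Nat.mul_le_mul_left _ (by omega)
    omega
  refine ⟨by rw [hf1, mul_one] at hle; omega, ?_⟩
  refine ⟨fun x => ?_⟩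
  obtain ⟨c, rfl⟩ := exists_smul_eq_of_finrank_eq_one hf1 (one_ne_zero (α := ResidueField W)) x
  rw [Algebra.smul_def, mul_one]
  exact isSeparable_algebraMap c

end Root

theorem tameAt_of_unrAt {A F : Type u} [CommRing A] [IsDomain A] [IsDiscreteValuationRing A] [Field F]
    {g : A →+* F} (hg : Function.Injective g) {V : ValuationSubring F} [IsDiscreteValuationRing V]
    {h : EtRam.Dominates A g V} (hu : TowerExt.UnrAt g V h) : TowerExt.TameAt g V h := by
  unfold TowerExt.TameAt
  intro hl
  obtain ⟨hw, hs⟩ := @hu hl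
  let : Algebra A V := (RingHom.codRestrict g V h.1).toAlgebra
  refine ⟨hs, fun p hp _ hd => ?_⟩
  rw [(ValSub.map_maximalIdeal_eq_iff (R := A) (S := V) (ValSub.codRestrict_injective hg h)).mp hw] at hd
  exact hp.one_lt.ne' (Nat.dvd_one.mp hd)

section Kummer

variable {B L L3 : Type u} [CommRing B] [IsDomain B] [IsDiscreteValuationRing B] [Field L] [Algebra B L]
  [IsFractionRing B L] [Field L3] [Algebra L L3] [FiniteDimensional L L3] [Algebra.IsSeparable L L3]

/-- Adjoining roots of units and of a uniformizer, of order prime to the residue characteristic, is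
tamely ramified. -/
theorem kummer {n : ℕ} (hn0 : n ≠ 0) (hnB : IsUnit (n : B)) {ϖ : B} (hϖ : Irreducible ϖ) (b₁ b₂ : Bˣ)
    (z₁ z₂ w : L3) (hz₁ : z₁ ^ n = algebraMap L L3 (algebraMap B L b₁))
    (hz₂ : z₂ ^ n = algebraMap L L3 (algebraMap B L b₂))
    (hw : w ^ n = algebraMap L L3 (algebraMap B L ϖ))
    (hgen : IntermediateField.adjoin L ({z₁, z₂, w} : Set L3) = ⊤) :
    EtRam.IsTamelyRamified B ((algebraMap L L3).comp (algebraMap B L)) := by
  intro W hW
  let L2 := IntermediateField.adjoin L ({z₁, z₂} : Set L3)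
  show TowerExt.TameAt _ W hW
  refine (TowerExt.tower_iff (L := L2) W hW).1.mpr ⟨?_, ?_⟩
  all_goals
    let B2 := W.comap (algebraMap L2 L3)
    have hB2 : EtRam.Dominates B ((algebraMap L L2).comp (algebraMap B L)) B2 := TowerExt.restrict W hW
    have h2 : TowerExt.UnrAt _ B2 hB2 := by
      refine UnramGen.unrAt_roots (algebraMap L L2) hB2 hnB hn0 b₁ b₂
        ⟨z₁, IntermediateField.subset_adjoin _ _ (by simp)⟩
        ⟨z₂, IntermediateField.subset_adjoin _ _ (by simp)⟩ (Subtype.ext hz₁) (Subtype.ext hz₂) fun x => ?_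
      obtain ⟨x, hx⟩ := x
      induction hx using IntermediateField.adjoin_induction with
      | mem x hx =>
        refine Subfield.subset_closure (Or.inl ?_)
        rcases hx with rfl | rfl <;> simp
      | algebraMap c => exact Subfield.subset_closure (Or.inr ⟨c, rfl⟩)
      | add x y hx' hy' hx hy => exact add_mem hx hy
      | inv x hx' hx => exact inv_mem hx
      | mul x y hx' hy' hx hy => exact mul_mem hx hy
    have : IsDiscreteValuationRing B2 := ValSub.isDVR hB2
    have hiB : Function.Injective ((algebraMap L L2).comp (algebraMap B L)) :=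
      (algebraMap L L2).injective.comp (IsFractionRing.injective B L)
  · unfold TowerExt.TameAt
    intro _
    exact tameAt_of_unrAt (h := hB2) hiB h2
  · let : Algebra B B2 := (RingHom.codRestrict ((algebraMap L L2).comp (algebraMap B L)) B2 hB2.1).toAlgebra
    have : IsLocalHom (algebraMap B B2) := Dom.isLocalHom hB2
    have hϖ2 : Irreducible (algebraMap B B2 ϖ) := by
      rw [IsDiscreteValuationRing.irreducible_iff_uniformizer]
      have h1 : (maximalIdeal B).map (algebraMap B B2) = maximalIdeal B2 := (@h2 ‹_›).1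
      rw [← h1, hϖ.maximalIdeal_eq, Ideal.map_span, Set.image_singleton]
    have hκ2 : ((n : ℕ) : ResidueField B2) ≠ 0 := by
      have h1 : IsUnit (n : B2) := by simpa using hnB.map (algebraMap B B2)
      simpa using (residue_ne_zero_iff_isUnit (n : B2)).mpr h1
    have hadj : IntermediateField.adjoin L2 ({w} : Set L3) = ⊤ := by
      refine IntermediateField.restrictScalars_injective L ?_
      rw [IntermediateField.restrictScalars_top, IntermediateField.adjoin_adjoin_left, ← hgen]
      congr 1
      ext x
      simp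
      tauto
    unfold TowerExt.TameAt
    intro hl
    obtain ⟨he, hs⟩ := @root_uniformizer B2 L2 L3 _ _ _ _ _ _ _ _ _ _ _ hϖ2 n hn0 w hw hadj W
      (Dom.self _ W) hl
    exact ⟨hs, fun p _ hc => he.symm ▸ charP_not_dvd hκ2 p hc⟩

end Kummer

section Abhyankar

variable {A K K' K2 : Type u} [CommRing A] [IsDomain A] [IsDiscreteValuationRing A] [Field K]
  [Algebra A K] [IsFractionRing A K] [Field K'] [Algebra K K'] [FiniteDimensional K K']
  [Algebra.IsSeparable K K'] [Field K2] [Algebra K K2] [Algebra K' K2] [IsScalarTower K K' K2]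
  [FiniteDimensional K K2] [Algebra.IsSeparable K K2]

/-- Abhyankar's lemma. -/
theorem abhyankar {π : A} (hπ : Irreducible π) {n : ℕ} (hn0 : n ≠ 0) (hnA : IsUnit (n : A)) (y : K2)
    (hy : y ^ n = algebraMap K K2 (algebraMap A K π))
    (hgen : IntermediateField.adjoin K' ({y} : Set K2) = ⊤) (V2 : ValuationSubring K2)
    (hV2 : EtRam.Dominates A ((algebraMap K K2).comp (algebraMap A K)) V2)
    (hV : EtRam.Dominates A ((algebraMap K K').comp (algebraMap A K)) (V2.comap (algebraMap K' K2)))
    (htame : TowerExt.TameAt _ (V2.comap (algebraMap K' K2)) hV)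
    (hidx : letI : Algebra A (V2.comap (algebraMap K' K2)) :=
        (RingHom.codRestrict ((algebraMap K K').comp (algebraMap A K)) _ hV.1).toAlgebra
      Ideal.ramificationIdx' (maximalIdeal A) (maximalIdeal (V2.comap (algebraMap K' K2))) = n) :
    TowerExt.UnrAt _ V2 (Dom.self (algebraMap (IntermediateField.adjoin K ({y} : Set K2)) K2) V2) := by
  let K1 := IntermediateField.adjoin K ({y} : Set K2)
  let V := V2.comap (algebraMap K' K2)
  let : Algebra A V := (RingHom.codRestrict ((algebraMap K K').comp (algebraMap A K)) V hV.1).toAlgebra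
  have : IsLocalHom (algebraMap A V) := Dom.isLocalHom hV
  have : IsDiscreteValuationRing V := ValSub.isDVR hV
  obtain ⟨hsV, -⟩ := @htame ‹_›
  obtain ⟨t, ht⟩ := IsDiscreteValuationRing.exists_irreducible V
  have hiV : Function.Injective (algebraMap A V) :=
    ValSub.codRestrict_injective (g := (algebraMap K K').comp (algebraMap A K))
      ((algebraMap K K').injective.comp (IsFractionRing.injective A K)) hV
  obtain ⟨uV, huV, -⟩ := exists_eq_unit_mul_pow hiV hπ ht
  rw [hidx] at huV
  have hVV2 : EtRam.Dominates V ((algebraMap K' K2).comp (algebraMap V K')) V2 :=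
    Dom.self (algebraMap K' K2) V2
  have ht0 : algebraMap K' K2 (t : K') ≠ 0 := by
    rw [_root_.map_ne_zero]
    exact fun h0 => ht.ne_zero (Subtype.ext h0)
  have h22 : TowerExt.UnrAt _ V2 hVV2 := by
    refine UnramGen.unrAt_roots (algebraMap K' K2) hVV2
      (by simpa using hnA.map (algebraMap A V)) hn0 1 uV 1 (y / algebraMap K' K2 (t : K'))
      (by simp) ?_ fun x => ?_
    · rw [div_pow, hy, div_eq_iff (pow_ne_zero _ ht0), IsScalarTower.algebraMap_apply K K' K2,
        ← map_pow, ← map_mul]
      exact congrArg _ (congrArg Subtype.val huV)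
    have hx : x ∈ IntermediateField.adjoin K' ({y} : Set K2) := hgen ▸ IntermediateField.mem_top
    induction hx using IntermediateField.adjoin_induction with
    | mem x hx =>
      rw [show x = y / algebraMap K' K2 (t : K') * algebraMap K' K2 (t : K') by
        rw [div_mul_cancel₀ _ ht0]; exact Set.mem_singleton_iff.mp hx]
      exact mul_mem (Subfield.subset_closure (Or.inl (by simp)))
        (Subfield.subset_closure (Or.inr ⟨_, rfl⟩))
    | algebraMap c => exact Subfield.subset_closure (Or.inr ⟨c, rfl⟩)
    | add x y hx' hy' hx hy => exact add_mem hx hy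
    | inv x hx' hx => exact inv_mem hx
    | mul x y hx' hy' hx hy => exact mul_mem hx hy
  have : IsDiscreteValuationRing V2 := ValSub.isDVR hV2
  let : Algebra V V2 :=
    (RingHom.codRestrict ((algebraMap K' K2).comp (algebraMap V K')) V2 hVV2.1).toAlgebra
  have : IsLocalHom (algebraMap V V2) := Dom.isLocalHom hVV2
  obtain ⟨hw22, hs22⟩ := @h22 ‹_›
  have hiVV2 : Function.Injective (algebraMap V V2) :=
    ValSub.codRestrict_injective (g := (algebraMap K' K2).comp (algebraMap V K'))
      ((algebraMap K' K2).injective.comp (IsFractionRing.injective V K')) hVV2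
  let : Algebra A V2 := (RingHom.codRestrict ((algebraMap K K2).comp (algebraMap A K)) V2 hV2.1).toAlgebra
  have : IsLocalHom (algebraMap A V2) := Dom.isLocalHom hV2
  have : IsScalarTower A V V2 := IsScalarTower.of_algebraMap_eq fun a =>
    Subtype.ext (IsScalarTower.algebraMap_apply K K' K2 (algebraMap A K a))
  have heV2 : Ideal.ramificationIdx' (maximalIdeal A) (maximalIdeal V2) = n := by
    rw [ValSub.ramificationIdx_mul hiV hiVV2, (ValSub.map_maximalIdeal_eq_iff hiVV2).mp hw22, mul_one]
    exact hidx
  let A1 := V2.comap (algebraMap K1 K2)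
  have hA1 : EtRam.Dominates A ((algebraMap K K1).comp (algebraMap A K)) A1 :=
    TowerExt.restrict V2 hV2
  have : IsDiscreteValuationRing A1 := ValSub.isDVR hA1
  let : Algebra A A1 := (RingHom.codRestrict ((algebraMap K K1).comp (algebraMap A K)) A1 hA1.1).toAlgebra
  have : IsLocalHom (algebraMap A A1) := Dom.isLocalHom hA1
  have hadj1 : IntermediateField.adjoin K
      ({⟨y, IntermediateField.subset_adjoin _ _ rfl⟩} : Set K1) = ⊤ := by
    refine IntermediateField.lift_injective K1 ?_
    rw [IntermediateField.lift_adjoin_simple, IntermediateField.lift_top]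
  obtain ⟨heA1, -⟩ := root_uniformizer hπ hn0 (y := (⟨y, IntermediateField.subset_adjoin _ _ rfl⟩ : K1))
    (Subtype.ext hy) hadj1 A1 hA1
  have hA1V2 := Dom.self (algebraMap K1 K2) V2
  unfold TowerExt.UnrAt
  let : Algebra A1 V2 :=
    (RingHom.codRestrict ((algebraMap K1 K2).comp A1.subtype) V2 hA1V2.1).toAlgebra
  intro _
  have : IsScalarTower A A1 V2 := IsScalarTower.of_algebraMap_eq fun a =>
    Subtype.ext (IsScalarTower.algebraMap_apply K K1 K2 (algebraMap A K a))
  have hi1 : Function.Injective (algebraMap A A1) :=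
    ValSub.codRestrict_injective (g := (algebraMap K K1).comp (algebraMap A K))
      ((algebraMap K K1).injective.comp (IsFractionRing.injective A K)) hA1
  have hi2 : Function.Injective (algebraMap A1 V2) :=
    ValSub.codRestrict_injective (g := (algebraMap K1 K2).comp A1.subtype)
      (fun _ _ e => Subtype.ext ((algebraMap K1 K2).injective e)) hA1V2
  have hm := ValSub.ramificationIdx_mul hi1 hi2
  rw [heV2, heA1] at hm
  refine ⟨(ValSub.map_maximalIdeal_eq_iff hi2).mpr
    (mul_left_cancel₀ hn0 (hm.symm.trans (mul_one n).symm)), ?_⟩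
  exact ((ValSub.isSeparable_residue_iff (R := A) (S := A1) (T := V2)).mp
    ((ValSub.isSeparable_residue_iff (R := A) (S := V) (T := V2)).mpr ⟨hsV, hs22⟩)).2

end Abhyankar

section BaseChange

variable {A B K L K' F E : Type u} [CommRing A] [IsDomain A] [IsDiscreteValuationRing A]
  [CommRing B] [IsDomain B] [IsDiscreteValuationRing B] [Algebra A B] [IsLocalHom (algebraMap A B)]
  [Field K] [Field L] [Field K'] [Field F] [Field E] [Algebra A K] [IsFractionRing A K] [Algebra B L]
  [IsFractionRing B L] [Algebra K L] [Algebra A L] [IsScalarTower A K L] [IsScalarTower A B L]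
  [Algebra K K'] [FiniteDimensional K K'] [Algebra.IsSeparable K K'] [Algebra K' F] [Algebra L F]
  [Algebra F E] [Algebra K E] [Algebra K' E] [Algebra L E] [IsScalarTower K K' E] [IsScalarTower K L E]
  [IsScalarTower K' F E] [IsScalarTower L F E] [FiniteDimensional L E] [Algebra.IsSeparable L E]

/-- The place upstairs, once the roots have been adjoined. -/
theorem tameAt_step
    (hgen : ∀ x : F, x ∈ Subfield.closure (Set.range (algebraMap K' F) ∪ Set.range (algebraMap L F)))
    (W' : ValuationSubring E) (hWB : EtRam.Dominates B ((algebraMap L E).comp (algebraMap B L)) W')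
    {π : A} (hπ : Irreducible π) {ϖ : B} (hϖ : Irreducible ϖ) {d n : ℕ} (uB : Bˣ)
    (huB : algebraMap A B π = uB * ϖ ^ d) (hn0 : n ≠ 0) (hnA : IsUnit (n : A))
    (hV : EtRam.Dominates A ((algebraMap K K').comp (algebraMap A K)) (W'.comap (algebraMap K' E)))
    (htame : TowerExt.TameAt _ (W'.comap (algebraMap K' E)) hV)
    (hidx : letI : Algebra A (W'.comap (algebraMap K' E)) :=
        (RingHom.codRestrict ((algebraMap K K').comp (algebraMap A K)) _ hV.1).toAlgebra
      Ideal.ramificationIdx' (maximalIdeal A) (maximalIdeal (W'.comap (algebraMap K' E))) = n)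
    (y u w : E) (hy : y ^ n = algebraMap L E (algebraMap B L (algebraMap A B π)))
    (hu : u ^ n = algebraMap L E (algebraMap B L uB)) (hw : w ^ n = algebraMap L E (algebraMap B L ϖ))
    (hgenE : IntermediateField.adjoin F ({y, u, w} : Set E) = ⊤) :
    TowerExt.TameAt _ W' hWB := by
  have hnB : IsUnit (n : B) := by simpa using hnA.map (algebraMap A B)
  have h0 : ∀ (z : E) (b : B), b ≠ 0 → z ^ n = algebraMap L E (algebraMap B L b) → z ≠ 0 := by
    intro z b hb hz h
    rw [h, zero_pow hn0, eq_comm, _root_.map_eq_zero] at hz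
    exact hb (IsFractionRing.injective B L (hz.trans (map_zero _).symm))
  have hu0 := h0 u _ uB.ne_zero hu
  have hw0 := h0 w _ hϖ.ne_zero hw
  let ζ := y / (u * w ^ d)
  have hζ : ζ ^ n = algebraMap L E (algebraMap B L (1 : Bˣ)) := by
    rw [Units.val_one, map_one, map_one, div_pow, mul_pow, ← pow_mul, mul_comm d n, pow_mul, hy, hu,
      hw, huB, map_mul, map_mul, map_pow, map_pow, div_self]
    exact mul_ne_zero (hu ▸ pow_ne_zero _ hu0) (pow_ne_zero _ (hw ▸ pow_ne_zero _ hw0))
  let L3 := IntermediateField.adjoin L ({ζ, u, w} : Set E)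
  have hmem : ∀ z ∈ ({ζ, u, w} : Set E), z ∈ L3 := fun z hz => IntermediateField.subset_adjoin _ _ hz
  have hy3 : y ∈ L3 := by
    rw [show y = ζ * (u * w ^ d) by rw [div_mul_cancel₀ _ (mul_ne_zero hu0 (pow_ne_zero _ hw0))]]
    exact mul_mem (hmem _ (by simp)) (mul_mem (hmem _ (by simp)) (pow_mem (hmem _ (by simp)) _))
  have : FiniteDimensional L L3 := FiniteDimensional.left L L3 E
  have : Algebra.IsSeparable L L3 := Algebra.isSeparable_tower_bot_of_isSeparable L L3 E
  rw [(TowerExt.tower_iff (L := L3) W' hWB).1]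
  refine ⟨?_, ?_⟩
  · refine kummer hn0 hnB hϖ 1 uB ⟨ζ, hmem _ (by simp)⟩ ⟨u, hmem _ (by simp)⟩ ⟨w, hmem _ (by simp)⟩
      (Subtype.ext hζ) (Subtype.ext hu) (Subtype.ext hw) ?_ _ (TowerExt.restrict W' hWB)
    refine IntermediateField.lift_injective L3 ?_
    rw [IntermediateField.lift_adjoin, IntermediateField.lift_top]
    simp [Set.image_insert_eq, L3]
  let B3 := W'.comap (algebraMap L3 E)
  have hB3 : EtRam.Dominates B ((algebraMap L L3).comp (algebraMap B L)) B3 := TowerExt.restrict W' hWB
  have : IsDiscreteValuationRing B3 := ValSub.isDVR hB3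
  have : IsDiscreteValuationRing W' := ValSub.isDVR hWB
  unfold TowerExt.TameAt
  intro _
  refine tameAt_of_unrAt (h := Dom.self (algebraMap L3 E) W')
    (fun _ _ e => Subtype.ext ((algebraMap L3 E).injective e)) ?_
  let K2 := IntermediateField.adjoin K' ({y} : Set E)
  have hyK : y ^ n = algebraMap K E (algebraMap A K π) := by
    rw [hy, ← IsScalarTower.algebraMap_apply A B L, IsScalarTower.algebraMap_apply A K L,
      ← IsScalarTower.algebraMap_apply K L E]
  have hsep : IsSeparable K y := by
    have hsp : (X ^ n - C (algebraMap A K π) : K[X]).Separable :=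
      separable_X_pow_sub_C _ (by simpa using (hnA.map (algebraMap A K)).ne_zero)
        (IsFractionRing.to_map_ne_zero_of_mem_nonZeroDivisors
          (mem_nonZeroDivisors_of_ne_zero hπ.ne_zero))
    exact hsp.of_dvd (minpoly.dvd K y (by simp [hyK]))
  have : FiniteDimensional K' K2 :=
    IntermediateField.adjoin.finiteDimensional hsep.isIntegral.tower_top
  have : Algebra.IsSeparable K' K2 :=
    (IntermediateField.isSeparable_adjoin_simple_iff_isSeparable K' E).mpr (hsep.tower_top K')
  have : IsScalarTower K K2 E := IsScalarTower.of_algebraMap_eq fun c =>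
    (IsScalarTower.algebraMap_apply K K' E c).trans (congrArg (algebraMap K2 E)
      (show (⟨algebraMap K' E (algebraMap K K' c), K2.algebraMap_mem _⟩ : K2) = algebraMap K K2 c from
        (IsScalarTower.algebraMap_apply K K' K2 c).symm))
  have : FiniteDimensional K K2 := FiniteDimensional.trans K K' K2
  have : Algebra.IsSeparable K K2 := Algebra.IsSeparable.trans K K' K2
  let yK2 : K2 := ⟨y, IntermediateField.subset_adjoin _ _ rfl⟩
  let V2 := W'.comap (algebraMap K2 E)
  let K1 := IntermediateField.adjoin K ({yK2} : Set K2)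
  have hWA : EtRam.Dominates A ((algebraMap K E).comp (algebraMap A K)) W' := by
    have h2 := Dom.trans (algebraMap A B) hWB
    rwa [RingHom.comp_assoc, ← IsScalarTower.algebraMap_eq A B L, IsScalarTower.algebraMap_eq A K L,
      ← RingHom.comp_assoc, ← IsScalarTower.algebraMap_eq K L E] at h2
  have hV2 : EtRam.Dominates A ((algebraMap K K2).comp (algebraMap A K)) V2 := by
    refine Dom.comap (algebraMap K2 E) ?_
    rw [← RingHom.comp_assoc, ← IsScalarTower.algebraMap_eq]; exact hWA
  have hadj : IntermediateField.adjoin K' ({yK2} : Set K2) = ⊤ := by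
    refine IntermediateField.lift_injective K2 ?_
    rw [IntermediateField.lift_adjoin_simple, IntermediateField.lift_top]
  have hVeq : V2.comap (algebraMap K' K2) = W'.comap (algebraMap K' E) := rfl
  have h12 : TowerExt.UnrAt _ V2 (Dom.self (algebraMap K1 K2) V2) := by
    unfold TowerExt.UnrAt
    intro hl
    exact abhyankar (K' := K') hπ hn0 hnA yK2 (Subtype.ext hyK) hadj V2 hV2 hV (@htame) hidx
  let A1 := V2.comap (algebraMap K1 K2)
  have hA1 : EtRam.Dominates A ((algebraMap K K1).comp (algebraMap A K)) A1 := TowerExt.restrict V2 hV2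
  have : IsDiscreteValuationRing A1 := ValSub.isDVR hA1
  have h13 : ∀ x : K1, ((x : K2) : E) ∈ L3 := fun x => by
    obtain ⟨x, hx⟩ := x
    induction hx using IntermediateField.adjoin_induction with
    | mem x hx => exact (congrArg Subtype.val (Set.mem_singleton_iff.mp hx)).symm ▸ hy3
    | algebraMap c =>
      show algebraMap K2 E (algebraMap K K2 c) ∈ L3
      rw [← IsScalarTower.algebraMap_apply K K2 E, IsScalarTower.algebraMap_apply K L E]
      exact L3.algebraMap_mem _
    | add x y _ _ hx hy => exact add_mem hx hy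
    | inv x _ hx => exact inv_mem hx
    | mul x y _ _ hx hy => exact mul_mem hx hy
  let : Algebra K1 L3 :=
    (((algebraMap K2 E).comp (algebraMap K1 K2)).codRestrict L3.toSubfield.toSubring h13).toAlgebra
  let i13 : A1 →+* B3 :=
    { toFun := fun a => ⟨algebraMap K1 L3 a.1, a.2⟩
      map_one' := Subtype.ext (map_one (algebraMap K1 L3))
      map_mul' := fun a b => Subtype.ext (map_mul (algebraMap K1 L3) a.1 b.1)
      map_zero' := Subtype.ext (map_zero (algebraMap K1 L3))
      map_add' := fun a b => Subtype.ext (map_add (algebraMap K1 L3) a.1 b.1) }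
  let : Algebra A1 B3 := i13.toAlgebra
  have : IsLocalHom (algebraMap A1 B3) :=
    EtRam.isLocalHom_inclOfComap B3 (algebraMap K1 L3)
  let : Algebra A1 L3 := ((algebraMap K1 L3).comp A1.subtype).toAlgebra
  have : IsScalarTower A1 K1 L3 := IsScalarTower.of_algebraMap_eq fun _ => rfl
  have : IsScalarTower A1 B3 L3 := IsScalarTower.of_algebraMap_eq fun _ => rfl
  suffices hgenS : ∀ x : E, x ∈ Subfield.closure (Set.range (algebraMap K2 E) ∪ Set.range (algebraMap L3 E)) by
    have key : TowerExt.UnrAt ((algebraMap L3 E).comp (algebraMap B3 L3)) W'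
        (Dom.self (algebraMap L3 E) W') := by
      unfold TowerExt.UnrAt
      intro _
      exact UnramGen.unrAt_baseChange (A := A1) (B := B3) (K := K1) (L := L3) (K' := K2) (F := E)
        (algebraMap L3 E) (Dom.self (algebraMap L3 E) W') (algebraMap K2 E)
        (RingHom.ext fun _ => rfl) hgenS (Dom.self (algebraMap K1 K2) V2) (@h12)
    exact @key
  intro x
  let S := Subfield.closure (Set.range (algebraMap K2 E) ∪ Set.range (algebraMap L3 E))
  have hK' : ∀ k : K', algebraMap K' E k ∈ S := fun k =>
    Subfield.subset_closure (Or.inl ⟨algebraMap K' K2 k, rfl⟩)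
  have hL : ∀ l : L, algebraMap L E l ∈ S := fun l =>
    Subfield.subset_closure (Or.inr ⟨algebraMap L L3 l, rfl⟩)
  have hF : ∀ f : F, algebraMap F E f ∈ S := fun f => by
    have : f ∈ S.comap (algebraMap F E) := by
      refine (Subfield.closure_le.mpr ?_) (hgen f)
      rintro _ (⟨k, rfl⟩ | ⟨l, rfl⟩)
      · show algebraMap F E (algebraMap K' F k) ∈ S
        rw [← IsScalarTower.algebraMap_apply]; exact hK' k
      · show algebraMap F E (algebraMap L F l) ∈ S
        rw [← IsScalarTower.algebraMap_apply]; exact hL l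
    exact this
  have hx : x ∈ IntermediateField.adjoin F ({y, u, w} : Set E) := hgenE ▸ IntermediateField.mem_top
  induction hx using IntermediateField.adjoin_induction with
  | mem z hz =>
    rcases hz with rfl | rfl | rfl
    · exact Subfield.subset_closure (Or.inl ⟨yK2, rfl⟩)
    · exact Subfield.subset_closure (Or.inr ⟨⟨z, hmem _ (by simp)⟩, rfl⟩)
    · exact Subfield.subset_closure (Or.inr ⟨⟨z, hmem _ (by simp)⟩, rfl⟩)
  | algebraMap c => exact hF c
  | add x y hx' hy' hx hy => exact add_mem hx hy
  | inv x hx' hx => exact inv_mem hx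
  | mul x y hx' hy' hx hy => exact mul_mem hx hy

end BaseChange

section Main

variable {A B K L K' F : Type u} [CommRing A] [IsDomain A] [IsDiscreteValuationRing A]
  [CommRing B] [IsDomain B] [IsDiscreteValuationRing B] [Algebra A B] [IsLocalHom (algebraMap A B)]
  [Field K] [Field L] [Field K'] [Field F] [Algebra A K] [IsFractionRing A K] [Algebra B L]
  [IsFractionRing B L] [Algebra K L] [Algebra A L] [IsScalarTower A K L] [IsScalarTower A B L]
  [Algebra K K'] [FiniteDimensional K K'] [Algebra.IsSeparable K K'] [Algebra K' F] [Algebra L F]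
  [Algebra K F] [IsScalarTower K K' F] [IsScalarTower K L F] [FiniteDimensional L F]
  [Algebra.IsSeparable L F]

/-- A compositum of a tamely ramified extension with the fraction field upstairs is tamely ramified. -/
theorem isTamelyRamified_of_compositum
    (hgen : ∀ x : F, x ∈ Subfield.closure (Set.range (algebraMap K' F) ∪ Set.range (algebraMap L F)))
    (h : EtRam.IsTamelyRamified A ((algebraMap K K').comp (algebraMap A K))) :
    EtRam.IsTamelyRamified B ((algebraMap L F).comp (algebraMap B L)) := by
  intro W hW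
  show TowerExt.TameAt _ W hW
  let V := W.comap (algebraMap K' F)
  have hA : EtRam.Dominates A ((algebraMap K' F).comp ((algebraMap K K').comp (algebraMap A K))) W := by
    have h2 := Dom.trans (algebraMap A B) hW
    rwa [RingHom.comp_assoc, ← IsScalarTower.algebraMap_eq A B L, IsScalarTower.algebraMap_eq A K L,
      ← RingHom.comp_assoc, ← IsScalarTower.algebraMap_eq K L F, IsScalarTower.algebraMap_eq K K' F,
      RingHom.comp_assoc] at h2
  have hV : EtRam.Dominates A ((algebraMap K K').comp (algebraMap A K)) V := Dom.comap _ hA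
  have := ValSub.isDVR hV
  let : Algebra A V := (RingHom.codRestrict ((algebraMap K K').comp (algebraMap A K)) V hV.1).toAlgebra
  have : IsLocalHom (algebraMap A V) := Dom.isLocalHom hV
  obtain ⟨-, hpV⟩ := h V hV
  obtain ⟨π, hπ⟩ := IsDiscreteValuationRing.exists_irreducible A
  obtain ⟨t, ht⟩ := IsDiscreteValuationRing.exists_irreducible V
  have hiV : Function.Injective (algebraMap A V) :=
    ValSub.codRestrict_injective (g := (algebraMap K K').comp (algebraMap A K))
      ((algebraMap K K').injective.comp (IsFractionRing.injective A K)) hV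
  obtain ⟨-, -, hn0⟩ := exists_eq_unit_mul_pow hiV hπ ht
  set n := Ideal.ramificationIdx' (maximalIdeal A) (maximalIdeal V) with hn
  have hnA : IsUnit (n : A) := by
    rw [← residue_ne_zero_iff_isUnit, map_natCast]
    intro h0
    rcases CharP.char_is_prime_or_zero (ResidueField A) (ringChar (ResidueField A)) with hp | hp
    · exact hpV _ hp inferInstance ((CharP.cast_eq_zero_iff _ _ _).mp h0)
    · exact hn0 (by simpa [hp] using (CharP.cast_eq_zero_iff _ (ringChar (ResidueField A)) n).mp h0)
  have hnF : (n : F) ≠ 0 := by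
    simpa using (hnA.map (((algebraMap L F).comp (algebraMap B L)).comp (algebraMap A B))).ne_zero
  obtain ⟨ϖ, hϖ⟩ := IsDiscreteValuationRing.exists_irreducible B
  have hπB : algebraMap A B π ≠ 0 := fun h0 => by
    have h1 := IsScalarTower.algebraMap_apply A B L π
    rw [h0, map_zero, IsScalarTower.algebraMap_apply A K L, _root_.map_eq_zero] at h1
    exact hπ.ne_zero (IsFractionRing.injective A K (h1.trans (map_zero _).symm))
  obtain ⟨d, uB, huB⟩ := IsDiscreteValuationRing.eq_unit_mul_pow_irreducible hπB hϖ
  let Ω := SeparableClosure F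
  have hn' : NeZero (n : Ω) := ⟨by
    rw [← map_natCast (algebraMap F Ω) n]; exact (_root_.map_ne_zero _).mpr hnF⟩
  obtain ⟨y, hy⟩ := IsSepClosed.exists_pow_nat_eq
    (algebraMap F Ω (algebraMap L F (algebraMap B L (algebraMap A B π)))) n
  obtain ⟨u, hu⟩ := IsSepClosed.exists_pow_nat_eq (algebraMap F Ω (algebraMap L F (algebraMap B L uB))) n
  obtain ⟨w, hw⟩ := IsSepClosed.exists_pow_nat_eq (algebraMap F Ω (algebraMap L F (algebraMap B L ϖ))) n
  let E := IntermediateField.adjoin F ({y, u, w} : Set Ω)
  have : FiniteDimensional F E := IntermediateField.finiteDimensional_adjoin fun z _ =>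
    (Algebra.IsSeparable.isSeparable F z).isIntegral
  have : Algebra.IsSeparable F E := Algebra.isSeparable_tower_bot_of_isSeparable F E Ω
  have : FiniteDimensional L E := FiniteDimensional.trans L F E
  have : Algebra.IsSeparable L E := Algebra.IsSeparable.trans L F E
  have hmem : ∀ z ∈ ({y, u, w} : Set Ω), z ∈ E := fun z hz => IntermediateField.subset_adjoin _ _ hz
  obtain ⟨W', rfl⟩ := ValSub.exists_comap_eq (algebraMap F E) W
  have hWB : EtRam.Dominates B ((algebraMap L E).comp (algebraMap B L)) W' := by
    have := Dom.isLocalHom hW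
    rw [IsScalarTower.algebraMap_eq L F E]
    exact Dom.trans (RingHom.codRestrict ((algebraMap L F).comp (algebraMap B L)) _ hW.1)
      (Dom.self (algebraMap F E) W')
  suffices hT : TowerExt.TameAt _ W' hWB by
    obtain ⟨h3, -⟩ := (TowerExt.tower_iff (L := F) W' hWB).1.mp hT
    exact @h3
  have : IsScalarTower K K' E := IsScalarTower.of_algebraMap_eq fun c => by
    rw [IsScalarTower.algebraMap_apply K F E, IsScalarTower.algebraMap_apply K K' F,
      ← IsScalarTower.algebraMap_apply K' F E]
  have : IsScalarTower K L E := IsScalarTower.of_algebraMap_eq fun c => by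
    rw [IsScalarTower.algebraMap_apply K F E, IsScalarTower.algebraMap_apply K L F,
      ← IsScalarTower.algebraMap_apply L F E]
  unfold TowerExt.TameAt
  intro _
  refine tameAt_step (A := A) (K := K) (K' := K') (F := F) hgen W' hWB hπ hϖ uB huB hn0 hnA
    (n := n) hV (h V hV) rfl ⟨y, hmem _ (by simp)⟩ ⟨u, hmem _ (by simp)⟩ ⟨w, hmem _ (by simp)⟩
    (Subtype.ext hy) (Subtype.ext hu) (Subtype.ext hw) ?_
  refine IntermediateField.lift_injective E ?_
  rw [IntermediateField.lift_adjoin, IntermediateField.lift_top]
  simp [Set.image_insert_eq, E]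

end Main

end Groth.Agent.H9Ram.TameBC
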