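import Groth.Agent.H9Ram.LocalExt
import Groth.Agent.H9Ram.TameBC
import Groth.Agent.S9634
import Mathlib.RingTheory.AdjoinRoot
import Mathlib.RingTheory.Artinian.Ring
import Mathlib.FieldTheory.PurelyInseparable.Basic
import Mathlib.LinearAlgebra.TensorProduct.Associator

/-!
Abhyankar's lemma for a possibly transcendental residue field extension.
-/

namespace Groth.Agent.H9Ram.LocalExtTame

universe u

open IsLocalRing Polynomial
open scoped TensorProduct

/-- A separable monic polynomial over a reduced ring gives a reduced algebra. -/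
theorem isReduced_adjoinRoot {R : Type*} [CommRing R] [IsReduced R] {f : R[X]} (hf : f.Monic)
    (hs : f.Separable) : IsReduced (AdjoinRoot f) := by
  rcases subsingleton_or_nontrivial R with hR | hR
  · have : Subsingleton (AdjoinRoot f) := (AdjoinRoot.mk_surjective (g := f)).subsingleton
    exact ⟨fun x _ => Subsingleton.elim x 0⟩
  refine ⟨fun x hx => ?_⟩
  obtain ⟨p, rfl⟩ := AdjoinRoot.mk_surjective x
  suffices h : p %ₘ f = 0 by
    exact AdjoinRoot.mk_eq_zero.mpr ((modByMonic_eq_zero_iff_dvd hf).mp h)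
  ext i
  rw [coeff_zero]
  refine IsReduced.eq_zero _ (nilpotent_iff_mem_prime.mpr fun P hP => ?_)
  let φ : R →+* P.ResidueField := algebraMap R P.ResidueField
  suffices h : (p %ₘ f).map φ = 0 by
    have h1 := congrArg (fun g => g.coeff i) h
    simp only [coeff_map, coeff_zero] at h1
    exact Ideal.algebraMap_residueField_eq_zero.mp h1
  have hdvd : f ∣ (p ^ hx.choose) := by
    rw [← AdjoinRoot.mk_eq_zero, map_pow]; exact hx.choose_spec
  have h2 : f.map φ ∣ p.map φ := by
    refine (hs.map (f := φ)).squarefree.isRadical hx.choose _ ?_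
    rw [← Polynomial.map_pow]; exact Polynomial.map_dvd φ hdvd
  rw [map_modByMonic φ hf, (modByMonic_eq_zero_iff_dvd (hf.map φ)).mpr h2]

/-- In residue characteristic zero every algebra that is reduced is geometrically reduced. -/
theorem geomReduced_of_charZero (k S : Type u) [Field k] [CharZero k] [CommRing S] [Algebra k S] [IsReduced S] :
    Algebra.IsGeometricallyReduced k S := by
  refine ((S9634.result (k := k) (S := S)).out 0 1).mp ?_
  intro k' _ _ _ _
  have : Algebra.IsSeparable k k' := Algebra.IsAlgebraic.isSeparable_of_perfectField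
  have hs : Function.Surjective (algebraMap k k') :=
    IsPurelyInseparable.surjective_algebraMap_of_isSeparable k k'
  have e : k' ≃ₐ[k] k := (AlgEquiv.ofBijective (Algebra.ofId k k') ⟨(algebraMap k k').injective, hs⟩).symm
  exact isReduced_of_injective _
    ((Algebra.TensorProduct.congr e AlgEquiv.refl).trans (Algebra.TensorProduct.lid k S)).injective

/-- The reduction with a root of a unit is geometrically reduced. -/
theorem geomReduced_adjoinRoot {k' D : Type u} [Field k'] [CommRing D] [Algebra k' D]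
    [Algebra.IsGeometricallyReduced k' D] {n : ℕ} (hn0 : n ≠ 0) (hn : IsUnit (n : k')) (c : Dˣ) :
    Algebra.IsGeometricallyReduced k' (AdjoinRoot (X ^ n - C (c : D) : D[X])) := by
  rw [Algebra.isGeometricallyReduced_field_iff]
  let Ω := AlgebraicClosure k'
  have : IsReduced (Ω ⊗[k'] D) := (Algebra.isGeometricallyReduced_field_iff k' D).mp ‹_›
  let ι : D →+* Ω ⊗[k'] D := (Algebra.TensorProduct.includeRight : D →ₐ[k'] Ω ⊗[k'] D).toRingHom
  let q : (Ω ⊗[k'] D)[X] := X ^ n - C ((Units.map (ι : D →* Ω ⊗[k'] D) c : (Ω ⊗[k'] D)ˣ) : Ω ⊗[k'] D)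
  have hq : (X ^ n - C (c : D) : D[X]).map ι = q := by simp [q]
  have : IsReduced (AdjoinRoot q) := isReduced_adjoinRoot (monic_X_pow_sub_C _ hn0)
    (separable_X_pow_sub_C_unit _ (by simpa using hn.map (algebraMap k' (Ω ⊗[k'] D))))
  exact isReduced_of_injective _ (AdjoinRoot.tensorAlgEquiv (R := k') (T := Ω) _ q hq).injective

/-- `generated`, with the kernel allowed to be enlarged by the kernel of the map to `W`. -/
theorem generated' {M : Type u} [Field M] {W : ValuationSubring M} [IsDiscreteValuationRing W]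
    {T T₀ : Type u} [CommRing T] [CommRing T₀] [IsArtinianRing T₀] [IsReduced T₀]
    {τ : T} (φ : T →+* W) (q : T →+* T₀) (hτ : φ τ ∈ maximalIdeal W) (hτ0 : φ τ ≠ 0)
    (hgen : ∀ x : M, x ∈ Subfield.closure (Set.range fun a => ((φ a : W) : M)))
    (hq : Function.Surjective q) (hqτ : q τ = 0) (hker : RingHom.ker q ≤ Ideal.span {τ} ⊔ RingHom.ker φ) :
    maximalIdeal W = Ideal.span {φ τ} ∧
      ∃ ψ : T₀ →+* ResidueField W, ψ.comp q = (residue W).comp φ ∧ Function.Surjective ψ ∧
        ∃ r : T₀, ψ r = 1 ∧ ∀ x ∈ RingHom.ker ψ, r * x = 0 := by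
  let N := RingHom.ker q ⊓ RingHom.ker φ
  let φ' : T ⧸ N →+* W := Ideal.Quotient.lift N φ fun a ha => ha.2
  let q' : T ⧸ N →+* T₀ := Ideal.Quotient.lift N q fun a ha => ha.1
  have hφ' : φ' (Ideal.Quotient.mk N τ) = φ τ := Ideal.Quotient.lift_mk _ _ _
  obtain ⟨hm, ψ, hψ, h⟩ := LocalExt.generated φ' q' (τ := Ideal.Quotient.mk N τ) (hφ' ▸ hτ) (hφ' ▸ hτ0)
    (fun x => Subfield.closure_mono (Set.range_subset_range_iff_exists_comp.mpr
      ⟨Ideal.Quotient.mk N, funext fun a => by simp [φ']⟩) (hgen x))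
    (fun z => (hq z).elim fun a ha => ⟨Ideal.Quotient.mk N a, by simpa [q'] using ha⟩) (by
      intro x hx
      obtain ⟨x, rfl⟩ := Ideal.Quotient.mk_surjective x
      have hqx : q x = 0 := by simpa [q'] using hx
      obtain ⟨y, hy, z, hz, rfl⟩ := Submodule.mem_sup.mp (hker hqx)
      obtain ⟨b, rfl⟩ := Ideal.mem_span_singleton.mp hy
      have hqz : q z = 0 := by rwa [map_add, map_mul, hqτ, zero_mul, zero_add] at hqx
      rw [map_add, Ideal.Quotient.eq_zero_iff_mem.mpr (show z ∈ N from ⟨hqz, hz⟩), add_zero, map_mul]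
      exact Ideal.mul_mem_right _ _ (Ideal.mem_span_singleton_self _))
  refine ⟨hφ' ▸ hm, ψ, RingHom.ext fun a => ?_, h⟩
  simpa [q', φ'] using RingHom.congr_fun hψ (Ideal.Quotient.mk N a)

/-- `generated'` for the ring obtained by adjoining a root of a unit. -/
theorem generated_root {M : Type u} [Field M] {W : ValuationSubring M} [IsDiscreteValuationRing W]
    {k' C₀ D : Type u} [Field k'] [CommRing C₀] [CommRing D] [Algebra k' D] [IsArtinianRing D]
    [Algebra.IsGeometricallyReduced k' D] [Algebra k' (ResidueField W)]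
    (φ : C₀ →+* W) (g : C₀ →+* D) (hg : Function.Surjective g) {e m : ℕ} (he : e ≠ 0)
    (hek : IsUnit (e : k')) (hm : m ≠ 0) (c : C₀ˣ) {τ ϖ : C₀} (z : W) (hz : z ^ e = φ c)
    (hrel : z * φ ϖ = φ τ ^ m) (hgτ : g τ = 0) (hker : RingHom.ker g ≤ Ideal.span {τ, ϖ})
    (hτ : φ τ ∈ maximalIdeal W) (hτ0 : φ τ ≠ 0)
    (hgen : ∀ x : M, x ∈ Subfield.closure (Set.range fun a => ((φ a : W) : M)))
    (hcomm : ∀ a : k', ∃ b : C₀, g b = algebraMap k' D a ∧
      residue W (φ b) = algebraMap k' (ResidueField W) a) :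
    maximalIdeal W = Ideal.span {φ τ} ∧ Algebra.IsGeometricallyReduced k' (ResidueField W) := by
  let c₀ : Dˣ := Units.map g.toMonoidHom c
  let pol : D[X] := X ^ e - C (c₀ : D)
  let Φ : C₀[X] →+* W := eval₂RingHom φ z
  let q : C₀[X] →+* AdjoinRoot pol := (AdjoinRoot.mk pol).comp (mapRingHom g)
  have hΦC : ∀ x, Φ (C x) = φ x := fun x => eval₂_C _ _
  have hΦX : Φ X = z := eval₂_X _ _
  have hgr₀ : Algebra.IsGeometricallyReduced k' (AdjoinRoot pol) := geomReduced_adjoinRoot he hek c₀
  have : IsReduced (AdjoinRoot pol) := Algebra.isReduced_of_isGeometricallyReduced k'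
  have := (monic_X_pow_sub_C (c₀ : D) he).finite_adjoinRoot
  have : IsArtinianRing (AdjoinRoot pol) := IsArtinianRing.of_finite D _
  have hqτ : q (C τ) = 0 := by simp [q, hgτ]
  have hc : X ^ e - C (c : C₀) ∈ RingHom.ker Φ := by
    rw [RingHom.mem_ker, map_sub, map_pow, hΦX, hΦC, hz, sub_self]
  have hkerq : RingHom.ker q ≤ Ideal.span {C τ} ⊔ RingHom.ker Φ := by
    intro x hx
    obtain ⟨y, hy⟩ := AdjoinRoot.mk_eq_zero.mp (RingHom.mem_ker.mp hx)
    obtain ⟨y, rfl⟩ := map_surjective g hg y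
    have hmem : x - (X ^ e - C (c : C₀)) * y ∈ RingHom.ker (mapRingHom g) := by
      rw [RingHom.mem_ker, coe_mapRingHom, Polynomial.map_sub, Polynomial.map_mul, Polynomial.map_sub,
        Polynomial.map_pow, map_X, map_C, sub_eq_zero]
      exact hy
    rw [show x = (x - (X ^ e - C (c : C₀)) * y) + (X ^ e - C (c : C₀)) * y by ring]
    refine add_mem ?_ (Submodule.mem_sup_right (Ideal.mul_mem_right _ _ hc))
    rw [Polynomial.ker_mapRingHom] at hmem
    refine Ideal.map_le_iff_le_comap.mpr (hker.trans ?_) hmem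
    rw [Ideal.span_le]
    rintro a (ha | ha)
    · rw [ha]; exact Submodule.mem_sup_left (Ideal.mem_span_singleton_self _)
    rw [Set.mem_singleton_iff.mp ha]
    show C ϖ ∈ Ideal.span {C τ} ⊔ RingHom.ker Φ
    -- `1 / z = z ^ (e - 1) / c`
    let w : C₀[X] := X ^ (e - 1) * C ((c⁻¹ : C₀ˣ) : C₀)
    have hw : z * Φ w = 1 := by
      rw [show Φ w = Φ X ^ (e - 1) * Φ (C ((c⁻¹ : C₀ˣ) : C₀)) by simp only [w, map_mul, map_pow], hΦX, hΦC,
        ← mul_assoc, mul_pow_sub_one he, hz, ← map_mul, Units.mul_inv, map_one]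
    have hdiff : C ϖ - C τ ^ m * w ∈ RingHom.ker Φ := by
      rw [RingHom.mem_ker, map_sub, map_mul, map_pow, hΦC, hΦC, ← hrel, sub_eq_zero]
      linear_combination -(φ ϖ) * hw
    rw [← sub_add_cancel (C ϖ) (C τ ^ m * w)]
    exact add_mem (Submodule.mem_sup_right hdiff) (Submodule.mem_sup_left
      (Ideal.mul_mem_right _ _ (Ideal.pow_mem_of_mem _ (Ideal.mem_span_singleton_self _) _ (Nat.pos_of_ne_zero hm))))
  obtain ⟨hmW, ψ, hψ, hψs, r, hr1, hr0⟩ := generated' Φ q (τ := C τ) (by rwa [hΦC]) (by rwa [hΦC])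
    (fun x => Subfield.closure_mono (Set.range_subset_range_iff_exists_comp.mpr
      ⟨(C : C₀ →+* C₀[X]), funext fun a => by simp [hΦC]⟩) (hgen x))
    (AdjoinRoot.mk_surjective.comp (map_surjective g hg)) hqτ hkerq
  refine ⟨by rw [hmW, hΦC], ?_⟩
  let ψa : AdjoinRoot pol →ₐ[k'] ResidueField W :=
    { ψ with
      commutes' := fun a => by
        obtain ⟨b, hb, hb'⟩ := hcomm a
        show ψ (AdjoinRoot.of pol (algebraMap k' D a)) = _
        have h1 : q (C b) = AdjoinRoot.of pol (algebraMap k' D a) := by simp [q, hb]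
        rw [← h1, ← RingHom.comp_apply ψ q, hψ, RingHom.comp_apply, hΦC, hb'] }
  exact LocalExt.geomReduced_quotient ψa hψs r hr1 hr0

variable {A B K L K₁ M : Type u} [CommRing A] [IsDomain A] [IsDiscreteValuationRing A]
  [CommRing B] [IsDomain B] [IsDiscreteValuationRing B] [Algebra A B] [IsLocalHom (algebraMap A B)]
  [Field K] [Field L] [Algebra A K] [IsFractionRing A K] [Algebra B L] [IsFractionRing B L]
  [Algebra K L] [Algebra A L] [IsScalarTower A K L] [IsScalarTower A B L]
  [Field K₁] [Algebra K K₁] [FiniteDimensional K K₁]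
  [Field M] [Algebra K M] [Algebra L M] [Algebra K₁ M] [IsScalarTower K L M] [IsScalarTower K K₁ M]

/-- Abhyankar's lemma at a place of a compositum. -/
theorem main (hinj : Function.Injective (algebraMap A B))
    (hgr : Algebra.IsGeometricallyReduced (ResidueField A) (ResidueField B))
    (hgen : Algebra.adjoin L (Set.range (algebraMap K₁ M)) = ⊤) (W : ValuationSubring M)
    (hW : EtRam.Dominates B ((algebraMap L M).comp (algebraMap B L)) W)
    (hA : ∀ a : A, (algebraMap K K₁) (algebraMap A K a) ∈ W.comap (algebraMap K₁ M))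
    (hek : (Ideal.ramificationIdx' (maximalIdeal A) (maximalIdeal B) : ResidueField A) ≠ 0)
    (hdvd : letI : Algebra A (W.comap (algebraMap K₁ M)) :=
        (RingHom.codRestrict ((algebraMap K K₁).comp (algebraMap A K)) (W.comap (algebraMap K₁ M)) hA).toAlgebra
      Ideal.ramificationIdx' (maximalIdeal A) (maximalIdeal B) ∣
        Ideal.ramificationIdx' (maximalIdeal A) (maximalIdeal (W.comap (algebraMap K₁ M)))) :
    (maximalIdeal (W.comap (algebraMap K₁ M))).map (EtRam.inclOfComap W (algebraMap K₁ M)) = maximalIdeal W ∧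
      @Algebra.IsGeometricallyReduced (ResidueField (W.comap (algebraMap K₁ M))) (ResidueField W) _ _
        (ResidueField.map (EtRam.inclOfComap W (algebraMap K₁ M))).toAlgebra := by
  have hfinM : FiniteDimensional L M := by
    let ψ : L ⊗[K] K₁ →ₐ[L] M :=
      Algebra.TensorProduct.lift (Algebra.ofId L M) (IsScalarTower.toAlgHom K K₁ M) fun _ _ => Commute.all _ _
    refine Module.Finite.of_surjective ψ.toLinearMap fun x => ?_
    have hle : Algebra.adjoin L (Set.range (algebraMap K₁ M)) ≤ ψ.range :=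
      Algebra.adjoin_le fun _ ⟨c, hc⟩ => ⟨1 ⊗ₜ c, by simp [ψ, hc]⟩
    exact hle (hgen ▸ Algebra.mem_top)
  have := LocalExt.isDVR (A := B) (K := L) hW
  let f := algebraMap K₁ M
  let V := W.comap f
  have hcomp : ∀ a : A, f (algebraMap K K₁ (algebraMap A K a)) = algebraMap L M (algebraMap B L (algebraMap A B a)) :=
    fun a => by
      rw [← IsScalarTower.algebraMap_apply K K₁ M, ← IsScalarTower.algebraMap_apply A B L,
        IsScalarTower.algebraMap_apply A K L, ← IsScalarTower.algebraMap_apply K L M]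
  have hV : EtRam.Dominates A ((algebraMap K K₁).comp (algebraMap A K)) V := by
    refine Dom.comap _ ?_
    rw [show (algebraMap K₁ M).comp ((algebraMap K K₁).comp (algebraMap A K)) =
      ((algebraMap L M).comp (algebraMap B L)).comp (algebraMap A B) from RingHom.ext hcomp]
    exact Dom.trans (algebraMap A B) hW
  have := LocalExt.isDVR hV
  let : Algebra A V := (RingHom.codRestrict ((algebraMap K K₁).comp (algebraMap A K)) V hA).toAlgebra
  have : IsLocalHom (algebraMap A V) := Dom.isLocalHom hV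
  let : Algebra A K₁ := ((algebraMap K K₁).comp (algebraMap A K)).toAlgebra
  have : IsScalarTower A K K₁ := IsScalarTower.of_algebraMap_eq fun _ => rfl
  have : IsScalarTower A V K₁ := IsScalarTower.of_algebraMap_eq fun _ => rfl
  have hiV : Function.Injective (algebraMap A V) := fun a b e =>
    IsFractionRing.injective A K ((algebraMap K K₁).injective (congrArg Subtype.val e))
  obtain ⟨hfin, -⟩ := S7132.result A V K K₁ hiV
  let jB : B →+* W := RingHom.codRestrict ((algebraMap L M).comp (algebraMap B L)) W hW.1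
  let : Algebra A W := (jB.comp (algebraMap A B)).toAlgebra
  let iV : V →ₐ[A] W := { EtRam.inclOfComap W f with commutes' := fun a => Subtype.ext (hcomp a) }
  let iB : B →ₐ[A] W := { jB with commutes' := fun _ => rfl }
  -- the uniformizers
  obtain ⟨π, hπ⟩ := IsDiscreteValuationRing.exists_irreducible A
  obtain ⟨t, ht⟩ := IsDiscreteValuationRing.exists_irreducible V
  obtain ⟨ϖ, hϖ⟩ := IsDiscreteValuationRing.exists_irreducible B
  obtain ⟨v, hv, he0⟩ := TameBC.exists_eq_unit_mul_pow hinj hπ hϖ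
  obtain ⟨u, hu, he10⟩ := TameBC.exists_eq_unit_mul_pow hiV hπ ht
  set e := Ideal.ramificationIdx' (maximalIdeal A) (maximalIdeal B)
  obtain ⟨m, hm⟩ := hdvd
  have hm0 : m ≠ 0 := by rintro rfl; exact he10 (hm.trans (mul_zero e))
  rw [hm] at hu
  -- the root of a unit
  have hϖ0 : algebraMap L M (algebraMap B L ϖ) ≠ 0 :=
    (_root_.map_ne_zero _).mpr ((map_ne_zero_iff _ (IsFractionRing.injective B L)).mpr hϖ.ne_zero)
  let zM : M := f ((t : K₁) ^ m) / algebraMap L M (algebraMap B L ϖ)
  have hze : zM ^ e = ((iV (u⁻¹ : Vˣ) * iB v : W) : M) := by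
    have h1 : f ((u : V) : K₁) * f (t : K₁) ^ (e * m) =
        algebraMap L M (algebraMap B L (v : B)) * algebraMap L M (algebraMap B L ϖ) ^ e := by
      have h2 := hcomp π
      rw [hv, show algebraMap K K₁ (algebraMap A K π) = ((algebraMap A V π : V) : K₁) from rfl, hu] at h2
      simpa using h2
    have h3 : f ((u⁻¹ : Vˣ) : V) * f ((u : V) : K₁) = 1 := by
      rw [← map_mul, ← MulMemClass.coe_mul, Units.inv_mul, OneMemClass.coe_one, map_one]
    show _ = f ((u⁻¹ : Vˣ) : V) * algebraMap L M (algebraMap B L (v : B))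
    rw [div_pow, div_eq_iff (pow_ne_zero _ hϖ0), map_pow, ← pow_mul, mul_comm m e, mul_assoc, ← h1, ← mul_assoc,
      h3, one_mul]
  have hzW : zM ∈ W := UnramGen.mem_of_pow_mem W he0 (hze ▸ SetLike.coe_mem _)
  -- the ring and its reduction
  let k := ResidueField A
  let k' := ResidueField V
  let l := ResidueField B
  have : TensorProduct.CompatibleSMul A k k' l :=
    TensorProduct.CompatibleSMul.of_algebraMap_surjective _ _ residue_surjective
  have : TensorProduct.CompatibleSMul k A k' l := inferInstance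
  let q₀ : V ⊗[A] B →ₐ[A] k' ⊗[A] l :=
    Algebra.TensorProduct.map (IsScalarTower.toAlgHom A V k') (IsScalarTower.toAlgHom A B l)
  let ε : k' ⊗[A] l ≃ₐ[A] k' ⊗[k] l := Algebra.TensorProduct.equivOfCompatibleSMul k A A k' l
  let qC : V ⊗[A] B →+* k' ⊗[k] l := ε.toRingEquiv.toRingHom.comp q₀.toRingHom
  let cC : (V ⊗[A] B)ˣ :=
    Units.map (Algebra.TensorProduct.includeLeft : V →ₐ[A] V ⊗[A] B).toRingHom.toMonoidHom u⁻¹ *
      Units.map (Algebra.TensorProduct.includeRight : B →ₐ[A] V ⊗[A] B).toRingHom.toMonoidHom v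
  have hgrD : Algebra.IsGeometricallyReduced k' (k' ⊗[k] l) := by
    rw [Algebra.isGeometricallyReduced_field_iff]
    have : Algebra.IsAlgebraic k (AlgebraicClosure k') := Algebra.IsAlgebraic.trans k k' _
    exact isReduced_of_injective _
      (Algebra.TensorProduct.cancelBaseChange k k' k' (AlgebraicClosure k') l).injective
  have : IsArtinianRing (k' ⊗[k] l) := by
    have : IsArtinianRing (l ⊗[k] k') := IsArtinianRing.of_finite l _
    exact (Algebra.TensorProduct.comm k l k').toRingEquiv.isArtinianRing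
  have hqC : Function.Surjective qC :=
    ε.surjective.comp (TensorProduct.map_surjective residue_surjective residue_surjective)
  have htW : EtRam.inclOfComap W f t ∈ maximalIdeal W :=
    map_nonunit _ t ((mem_maximalIdeal t).mpr ht.not_isUnit)
  let φ : V ⊗[A] B →ₐ[A] W := Algebra.TensorProduct.lift iV iB fun _ _ => Commute.all _ _
  have hφV : ∀ x : V, φ (x ⊗ₜ 1) = EtRam.inclOfComap W f x := fun x => by simp [φ]; rfl
  have hφB : ∀ x : B, φ (1 ⊗ₜ x) = jB x := fun x => by simp [φ]; rfl
  have hqCV : ∀ x : V, qC (x ⊗ₜ 1) = residue V x ⊗ₜ 1 := fun x => by simp [qC, q₀, ε]; rfl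
  let : Algebra k' (ResidueField W) := (ResidueField.map (EtRam.inclOfComap W f)).toAlgebra
  have hrel : (⟨zM, hzW⟩ : W) * φ.toRingHom (1 ⊗ₜ ϖ) = φ.toRingHom (t ⊗ₜ 1) ^ m := by
    show _ * φ (1 ⊗ₜ ϖ) = φ (t ⊗ₜ 1) ^ m
    rw [hφV, hφB]
    refine Subtype.ext ?_
    show f ((t : K₁) ^ m) / algebraMap L M (algebraMap B L ϖ) * algebraMap L M (algebraMap B L ϖ) = _
    rw [div_mul_cancel₀ _ hϖ0, map_pow]
    rfl
  have hker : RingHom.ker qC ≤ Ideal.span {t ⊗ₜ[A] (1 : B), (1 : V) ⊗ₜ[A] ϖ} := by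
    intro z hz
    have hz0 : z ∈ RingHom.ker q₀ := ε.injective ((RingHom.mem_ker.mp hz).trans (map_zero ε).symm)
    rw [Algebra.TensorProduct.map_ker _ _ residue_surjective residue_surjective] at hz0
    refine SetLike.le_def.mp (sup_le ?_ ?_) hz0
    · rw [Ideal.map_le_iff_le_comap]
      intro a ha
      have ha' : a ∈ maximalIdeal V := (residue_eq_zero_iff a).mp ha
      rw [ht.maximalIdeal_eq, Ideal.mem_span_singleton] at ha'
      obtain ⟨b, rfl⟩ := ha'
      rw [Ideal.mem_comap]
      exact Ideal.span_mono (Set.singleton_subset_iff.mpr (Set.mem_insert _ _))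
        (Ideal.mem_span_singleton.mpr ⟨b ⊗ₜ 1, by rw [Algebra.TensorProduct.tmul_mul_tmul, mul_one]; rfl⟩)
    · rw [Ideal.map_le_iff_le_comap]
      intro b hb
      have hb' : b ∈ maximalIdeal B := (residue_eq_zero_iff b).mp hb
      rw [hϖ.maximalIdeal_eq, Ideal.mem_span_singleton] at hb'
      obtain ⟨b', rfl⟩ := hb'
      rw [Ideal.mem_comap]
      exact Ideal.span_mono (Set.subset_insert _ _)
        (Ideal.mem_span_singleton.mpr ⟨1 ⊗ₜ b', by rw [Algebra.TensorProduct.tmul_mul_tmul, mul_one]; rfl⟩)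
  have hgenT : ∀ x : M, x ∈ Subfield.closure (Set.range fun a => ((φ.toRingHom a : W) : M)) := by
    intro x
    have hx : x ∈ Algebra.adjoin L (Set.range (algebraMap K₁ M)) := hgen ▸ Algebra.mem_top
    induction hx using Algebra.adjoin_induction with
    | mem x hx =>
      obtain ⟨c, rfl⟩ := hx
      obtain ⟨a, b, -, rfl⟩ := IsFractionRing.div_surjective V c
      rw [map_div₀]
      exact div_mem (Subfield.subset_closure ⟨a ⊗ₜ 1, congrArg Subtype.val (hφV a)⟩)
        (Subfield.subset_closure ⟨b ⊗ₜ 1, congrArg Subtype.val (hφV b)⟩)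
    | algebraMap c =>
      obtain ⟨a, b, -, rfl⟩ := IsFractionRing.div_surjective B c
      rw [map_div₀]
      exact div_mem (Subfield.subset_closure ⟨1 ⊗ₜ a, congrArg Subtype.val (hφB a)⟩)
        (Subfield.subset_closure ⟨1 ⊗ₜ b, congrArg Subtype.val (hφB b)⟩)
    | add x y _ _ hx hy => exact add_mem hx hy
    | mul x y _ _ hx hy => exact mul_mem hx hy
  have hτW : φ.toRingHom (t ⊗ₜ 1) = EtRam.inclOfComap W f t := hφV t
  obtain ⟨hmW, hgrW⟩ := generated_root (k' := k') φ.toRingHom qC hqC he0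
    (by simpa using (Ne.isUnit hek).map (algebraMap k k')) hm0 cC (τ := t ⊗ₜ 1) (ϖ := 1 ⊗ₜ ϖ) ⟨zM, hzW⟩
    (by
      show _ = φ (cC : V ⊗[A] B)
      rw [show φ (cC : V ⊗[A] B) = iV (u⁻¹ : Vˣ) * iB v by simp [φ, cC]]
      exact Subtype.ext hze)
    hrel (by rw [hqCV, (residue_eq_zero_iff t).mpr ((mem_maximalIdeal t).mpr ht.not_isUnit), TensorProduct.zero_tmul])
    hker (hτW ▸ htW)
    (fun h0 => ht.ne_zero (ValSub.inclOfComap_injective _ W ((hτW.symm.trans h0).trans (map_zero _).symm)))
    hgenT (fun a => by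
      obtain ⟨x, rfl⟩ := residue_surjective a
      exact ⟨x ⊗ₜ 1, hqCV x, congrArg (residue W) (hφV x)⟩)
  refine ⟨?_, hgrW⟩
  rw [ht.maximalIdeal_eq, Ideal.map_span, Set.image_singleton, hmW, hτW]

end Groth.Agent.H9Ram.LocalExtTame
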