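import Groth.Agent.H9Ram.GaloisPlaces
import Groth.Agent.H9Ram.UnramGen
import Groth.Agent.H9Ram.TameBC
import Mathlib.Algebra.Polynomial.Reverse
import Mathlib.RingTheory.Etale.StandardEtale
import Mathlib.FieldTheory.PurelyInseparable.PerfectClosure

/-!
Galois extensions of prime degree `p` cut out by an equation congruent to `X ^ p - X`.
-/

namespace Groth.Agent.H9Ram.PrimeDegree

universe u

open IsLocalRing Polynomial

variable (A K L : Type u) [CommRing A] [IsDomain A] [IsDiscreteValuationRing A] [Field K] [Algebra A K]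
  [IsFractionRing A K] [Field L] [Algebra K L]

/-- Unique place, weakly unramified, purely inseparable residue field extension of degree `p`. -/
def Case4 (p : ℕ) : Prop :=
  let g : A →+* L := (algebraMap K L).comp (algebraMap A K)
  (∃ V : ValuationSubring L, EtRam.Dominates A g V) ∧
    (∀ V V' : ValuationSubring L, EtRam.Dominates A g V → EtRam.Dominates A g V' → V = V') ∧
    ∀ (V : ValuationSubring L) (h : EtRam.Dominates A g V),
      letI : Algebra A V := (RingHom.codRestrict g V h.1).toAlgebra
      ∀ [IsLocalHom (algebraMap A V)],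
        EtRam.IsWeaklyUnramified A V ∧
          IsPurelyInseparable (ResidueField A) (ResidueField V) ∧
          Module.finrank (ResidueField A) (ResidueField V) = p

/-- Some valuation subring dominates. -/
theorem exists_dominates : ∃ V : ValuationSubring L, EtRam.Dominates A ((algebraMap K L).comp (algebraMap A K)) V := by
  let B := H12AlgSp.rangeValuationSubring A K
  have hB : EtRam.Dominates A (algebraMap A K) B := by
    refine ⟨fun b => ⟨b, rfl⟩, fun b hb => ?_⟩
    show B.valuation ((⟨algebraMap A K b, ⟨b, rfl⟩⟩ : B) : K) < 1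
    rw [← ValuationSubring.valuation_lt_one_iff, mem_maximalIdeal]
    intro hu
    obtain ⟨w, hw⟩ := hu.exists_right_inv
    obtain ⟨c, hc⟩ := w.2
    exact (mem_maximalIdeal b).mp hb (IsUnit.of_mul_eq_one c (IsFractionRing.injective A K (by
      rw [map_mul, map_one, hc]
      exact congrArg Subtype.val hw)))
  obtain ⟨W, hW⟩ := ValSub.exists_comap_eq (algebraMap K L) B
  rw [hW] at hB
  have := Dom.isLocalHom hB
  exact ⟨W, Dom.trans (RingHom.codRestrict (algebraMap A K) _ hB.1) (Dom.self (algebraMap K L) W)⟩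

variable {A K L} [FiniteDimensional K L] [IsGalois K L] {p : ℕ} (hp : p.Prime)

include hp in
/-- The trichotomy in prime degree. -/
theorem trichotomy (hd : Module.finrank K L = p) :
    (EtRam.IsUnramifiedExt A ((algebraMap K L).comp (algebraMap A K))) ∨
      EtRam.IsTotallyRamified A ((algebraMap K L).comp (algebraMap A K)) ∨ Case4 A K L p := by
  obtain ⟨e, f, g, hid, hef, huniq⟩ := GaloisPlaces.places (A := A) (K := K) (L := L)
  rw [hd] at hid
  obtain ⟨W₀, hW₀⟩ := exists_dominates A K L
  rcases (Nat.dvd_prime hp).mp (Dvd.intro g (by rw [mul_comm]; exact hid) : e * f ∣ p) with h1 | hpef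
  · left
    intro W hW
    show TowerExt.UnrAt _ W hW
    unfold TowerExt.UnrAt
    let : Algebra A W := (RingHom.codRestrict ((algebraMap K L).comp (algebraMap A K)) W hW.1).toAlgebra
    intro _
    have := ValSub.isDVR hW
    obtain ⟨he, hf⟩ := hef W hW
    refine ⟨(ValSub.map_maximalIdeal_eq_iff (R := A) (S := W) (ValSub.codRestrict_injective
      (g := (algebraMap K L).comp (algebraMap A K))
      ((algebraMap K L).injective.comp (IsFractionRing.injective A K)) hW)).mpr
      (he.trans (Nat.eq_one_of_mul_eq_one_right h1)), ?_⟩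
    have hf1 : Module.finrank (ResidueField A) (ResidueField W) = 1 :=
      hf.trans (Nat.eq_one_of_mul_eq_one_left h1)
    have : FiniteDimensional (ResidueField A) (ResidueField W) := Module.finite_of_finrank_eq_succ hf1
    exact TameGalois.isSeparable_of_degree (by rw [hf1, Nat.cast_one]; exact one_ne_zero)
  have hg : g = 1 := by
    have := hp.pos
    rw [hpef] at hid
    exact (Nat.mul_eq_right (by omega)).mp hid
  rcases (Nat.dvd_prime hp).mp (Dvd.intro f hpef : e ∣ p) with he1 | hep
  · rw [he1, one_mul] at hpef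
    by_cases hs : (letI : Algebra A W₀ :=
        (RingHom.codRestrict ((algebraMap K L).comp (algebraMap A K)) W₀ hW₀.1).toAlgebra
      ∀ [IsLocalHom (algebraMap A W₀)], Algebra.IsSeparable (ResidueField A) (ResidueField W₀))
    · left
      intro W hW
      obtain rfl := huniq hg W₀ W hW₀ hW
      show TowerExt.UnrAt _ W₀ hW
      unfold TowerExt.UnrAt
      let : Algebra A W₀ := (RingHom.codRestrict ((algebraMap K L).comp (algebraMap A K)) W₀ hW.1).toAlgebra
      intro _
      have := ValSub.isDVR hW
      obtain ⟨he, -⟩ := hef W₀ hW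
      exact ⟨(ValSub.map_maximalIdeal_eq_iff (R := A) (S := W₀) (ValSub.codRestrict_injective
        (g := (algebraMap K L).comp (algebraMap A K))
        ((algebraMap K L).injective.comp (IsFractionRing.injective A K)) hW)).mpr (he.trans he1), hs⟩
    · right; right
      refine ⟨⟨W₀, hW₀⟩, huniq hg, fun V hV => ?_⟩
      obtain rfl := huniq hg W₀ V hW₀ hV
      let : Algebra A W₀ := (RingHom.codRestrict ((algebraMap K L).comp (algebraMap A K)) W₀ hV.1).toAlgebra
      intro _
      have := ValSub.isDVR hV
      obtain ⟨he, hf⟩ := hef W₀ hV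
      have hfp : Module.finrank (ResidueField A) (ResidueField W₀) = p := hf.trans hpef
      have : FiniteDimensional (ResidueField A) (ResidueField W₀) :=
        Module.finite_of_finrank_pos (hfp ▸ hp.pos)
      refine ⟨(ValSub.map_maximalIdeal_eq_iff (R := A) (S := W₀) (ValSub.codRestrict_injective
        (g := (algebraMap K L).comp (algebraMap A K))
        ((algebraMap K L).injective.comp (IsFractionRing.injective A K)) hV)).mpr (he.trans he1), ?_, hfp⟩
      have hmul := Field.finSepDegree_mul_finInsepDegree (ResidueField A) (ResidueField W₀)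
      rw [hfp] at hmul
      rcases (Nat.dvd_prime hp).mp (Dvd.intro _ hmul) with h | h
      · exact isPurelyInseparable_of_finSepDegree_eq_one h
      · refine absurd ?_ hs
        intro _
        rw [isSeparable_iff_finInsepDegree_eq_one]
        rw [h] at hmul
        exact (Nat.mul_eq_left hp.ne_zero).mp hmul
  · right; left
    rw [hep] at hpef
    have hf1 : f = 1 := (Nat.mul_eq_left hp.ne_zero).mp hpef
    refine ⟨⟨W₀, hW₀⟩, huniq hg, fun V hV z => ?_⟩
    let : Algebra A V := (RingHom.codRestrict ((algebraMap K L).comp (algebraMap A K)) V hV.1).toAlgebra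
    have : IsLocalHom (algebraMap A V) := Dom.isLocalHom hV
    obtain ⟨-, hf⟩ := hef V hV
    obtain ⟨c, hc⟩ := (finrank_eq_one_iff_of_nonzero' (1 : ResidueField V) one_ne_zero).mp (hf.trans hf1) z
    obtain ⟨a, rfl⟩ := residue_surjective c
    refine ⟨a, ?_⟩
    rw [← hc, Algebra.smul_def, mul_one]
    rfl

variable {P : A[X]} {π : A} {z : L} {ξ : K}

omit [FiniteDimensional K L] [IsGalois K L] in
/-- An integral right-hand side gives an unramified extension. -/
theorem unramified_of_integral (hP : P.Monic) (hdeg : 0 < P.natDegree) (hπ : Irreducible π) (a : A)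
    {Q : A[X]} (hder : derivative (P - C a) = -1 + C π * Q)
    (hz : eval₂ ((algebraMap K L).comp (algebraMap A K)) z (P - C a) = 0)
    (hgen : IntermediateField.adjoin K {z} = ⊤) :
    EtRam.IsUnramifiedExt A ((algebraMap K L).comp (algebraMap A K)) := by
  let f := P - C a
  have hf : f.Monic := hP.sub_of_left (lt_of_le_of_lt degree_C_le (natDegree_pos_iff_degree_pos.mp hdeg))
  have := hf.finite_adjoinRoot
  have : Algebra.IsIntegral A (AdjoinRoot f) := Algebra.IsIntegral.of_finite A _
  have hu : IsUnit (AdjoinRoot.mk f (derivative f)) := by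
    by_contra hnu
    obtain ⟨M, hM, hfM⟩ := exists_max_ideal_of_mem_nonunits (mem_nonunits_iff.mpr hnu)
    have h1 : (M.comap (algebraMap A (AdjoinRoot f))).IsMaximal :=
      Ideal.isMaximal_comap_of_isIntegral_of_isMaximal M
    have h2 : algebraMap A (AdjoinRoot f) π ∈ M := by
      show π ∈ M.comap (algebraMap A (AdjoinRoot f))
      rw [eq_maximalIdeal h1]
      exact hπ.maximalIdeal_eq ▸ Ideal.mem_span_singleton_self π
    rw [hder, map_add, map_neg, map_one, map_mul, AdjoinRoot.mk_C, ← AdjoinRoot.algebraMap_eq] at hfM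
    refine hM.ne_top ((Ideal.eq_top_iff_one M).mpr ?_)
    simpa using sub_mem (Ideal.mul_mem_right (AdjoinRoot.mk f Q) M h2) hfM
  obtain ⟨v, hv⟩ := hu.exists_right_inv
  obtain ⟨r, rfl⟩ := AdjoinRoot.mk_surjective v
  rw [← map_mul, ← map_one (AdjoinRoot.mk f), AdjoinRoot.mk_eq_mk] at hv
  obtain ⟨c, hc⟩ := hv
  let SP : StandardEtalePair A :=
    { f := f, monic_f := hf, g := 1, cond := ⟨r, -c, 0, by rw [pow_zero]; linear_combination hc⟩ }
  intro W hW
  let : Algebra A W := (RingHom.codRestrict ((algebraMap K L).comp (algebraMap A K)) W hW.1).toAlgebra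
  have hzW : z ∈ W := by
    have hi : IsIntegral W z := ⟨f.map (algebraMap A W), hf.map _, by
      rw [Polynomial.eval₂_map]; exact hz⟩
    obtain ⟨w, hw⟩ := IsIntegrallyClosed.isIntegral_iff.mp hi
    exact hw ▸ w.2
  have hx : SP.HasMap (⟨z, hzW⟩ : W) := ⟨by
    show aeval (⟨z, hzW⟩ : W) f = 0
    apply Subtype.ext
    show W.subtype (eval₂ (algebraMap A W) ⟨z, hzW⟩ f) = 0
    rw [Polynomial.hom_eval₂]
    exact hz, by simp [SP]⟩
  have hu : TowerExt.UnrAt _ W hW := UnramGen.unrAt_of_gen (algebraMap K L) hW SP.Ring (SP.lift _ hx).toRingHom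
    (fun b => congrArg Subtype.val ((SP.lift _ hx).commutes b)) fun x => by
      have hmem : x ∈ IntermediateField.adjoin K {z} := hgen ▸ IntermediateField.mem_top
      induction hmem using IntermediateField.adjoin_induction with
      | mem y hy =>
        rw [Set.mem_singleton_iff.mp hy]
        refine Subfield.subset_closure (Or.inl ⟨SP.X, ?_⟩)
        show ((SP.lift _ hx SP.X : W) : L) = z
        rw [StandardEtalePair.lift_X]
      | algebraMap c => exact Subfield.subset_closure (Or.inr ⟨c, rfl⟩)
      | add y w _ _ hy hw => exact add_mem hy hw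
      | inv y _ hy => exact inv_mem hy
      | mul y w _ _ hy hw => exact mul_mem hy hw
  exact @hu

omit [IsFractionRing A K] [FiniteDimensional K L] [IsGalois K L] in
/-- A pole: `z = 1 / t` with `t` in the maximal ideal, and `π ^ n w = a t ^ deg` with `w` close to one. -/
theorem pole (hP : P.Monic) (hdeg : 0 < P.natDegree) (hπm : π ∈ maximalIdeal A) (hπ0 : algebraMap A K π ≠ 0)
    {n : ℕ} (hn : 0 < n) {a : A} (ha : IsUnit a)
    (hz : eval₂ ((algebraMap K L).comp (algebraMap A K)) z P = algebraMap K L ξ)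
    (hξ : ξ * algebraMap A K π ^ n = algebraMap A K a)
    (W : ValuationSubring L) (hW : EtRam.Dominates A ((algebraMap K L).comp (algebraMap A K)) W) :
    letI : Algebra A W := (RingHom.codRestrict ((algebraMap K L).comp (algebraMap A K)) W hW.1).toAlgebra
    ∃ t w : W, t ∈ maximalIdeal W ∧ (t : L) * z = 1 ∧ w - 1 ∈ maximalIdeal W ∧
      algebraMap A W π ^ n * w = algebraMap A W a * t ^ P.natDegree := by
  let : Algebra A W := (RingHom.codRestrict ((algebraMap K L).comp (algebraMap A K)) W hW.1).toAlgebra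
  have : IsLocalHom (algebraMap A W) := Dom.isLocalHom hW
  have hξL : algebraMap K L ξ * ((algebraMap A W π : W) : L) ^ n = ((algebraMap A W a : W) : L) := by
    show algebraMap K L ξ * algebraMap K L (algebraMap A K π) ^ n = algebraMap K L (algebraMap A K a)
    rw [← map_pow, ← map_mul, hξ]
  have hnotW : z ∉ W := fun hzW => by
    have h1 : eval₂ ((algebraMap K L).comp (algebraMap A K)) z P ∈ W := by
      rw [show eval₂ ((algebraMap K L).comp (algebraMap A K)) z P =
        W.subtype (eval₂ (algebraMap A W) ⟨z, hzW⟩ P) by rw [Polynomial.hom_eval₂]; rfl]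
      exact SetLike.coe_mem _
    rw [hz] at h1
    have h2 : algebraMap A W a = (⟨_, h1⟩ : W) * algebraMap A W π ^ n := Subtype.ext hξL.symm
    have h3 : algebraMap A W π ^ n ∈ maximalIdeal W :=
      Ideal.pow_mem_of_mem _ (map_nonunit _ π hπm) _ hn
    exact (mem_maximalIdeal _).mp (h2 ▸ Ideal.mul_mem_left _ _ h3) (ha.map _)
  have hz0 : z ≠ 0 := fun h => hnotW (h ▸ zero_mem W)
  have htW : z⁻¹ ∈ W := (W.mem_or_inv_mem z).resolve_left hnotW
  let t : W := ⟨z⁻¹, htW⟩
  have ht : t ∈ maximalIdeal W := by
    rw [mem_maximalIdeal]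
    intro hu
    obtain ⟨v, hv⟩ := hu.exists_right_inv
    have h4 : z⁻¹ * (v : L) = 1 := congrArg Subtype.val hv
    refine hnotW ?_
    rw [show z = (v : L) by rw [← mul_one z, ← h4, ← mul_assoc, mul_inv_cancel₀ hz0, one_mul]]
    exact v.2
  let w : W := eval₂ (algebraMap A W) t P.reverse
  have hw : w - 1 ∈ maximalIdeal W := by
    rw [← residue_eq_zero_iff, map_sub, map_one, sub_eq_zero]
    show residue W (eval₂ (algebraMap A W) t P.reverse) = 1
    rw [Polynomial.hom_eval₂, (residue_eq_zero_iff t).mpr ht, eval₂_at_zero, coeff_zero_reverse,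
      hP.leadingCoeff, map_one]
  refine ⟨t, w, ht, inv_mul_cancel₀ hz0, hw, ?_⟩
  have : Invertible z := invertibleOfNonzero hz0
  have h5 := eval₂_reverse_mul_pow ((algebraMap K L).comp (algebraMap A K)) z P
  rw [invOf_eq_inv, hz] at h5
  have hwL : (w : L) = eval₂ ((algebraMap K L).comp (algebraMap A K)) z⁻¹ P.reverse :=
    Polynomial.hom_eval₂ P.reverse (algebraMap A W) W.subtype t
  rw [← hwL] at h5
  apply Subtype.ext
  show ((algebraMap A W π : W) : L) ^ n * (w : L) = ((algebraMap A W a : W) : L) * (z⁻¹) ^ P.natDegree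
  rw [← hξL, ← h5, inv_pow]
  field_simp

include hp in
/-- A pole of order prime to `p` gives a totally ramified extension of degree `p`. -/
theorem caseB (hd : Module.finrank K L = 1 ∨ Module.finrank K L = p) (hP : P.Monic) (hdeg : P.natDegree = p)
    (hπ : Irreducible π) {n : ℕ} (hn : 0 < n) (hpn : ¬ p ∣ n) {a : A} (ha : IsUnit a)
    (hz : eval₂ ((algebraMap K L).comp (algebraMap A K)) z P = algebraMap K L ξ)
    (hξ : ξ * algebraMap A K π ^ n = algebraMap A K a) :
    EtRam.IsTotallyRamified A ((algebraMap K L).comp (algebraMap A K)) ∧ Module.finrank K L = p := by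
  obtain ⟨e, f, g, hid, hef, huniq⟩ := GaloisPlaces.places (A := A) (K := K) (L := L)
  obtain ⟨W₀, hW₀⟩ := exists_dominates A K L
  let : Algebra A W₀ := (RingHom.codRestrict ((algebraMap K L).comp (algebraMap A K)) W₀ hW₀.1).toAlgebra
  have : IsLocalHom (algebraMap A W₀) := Dom.isLocalHom hW₀
  have := ValSub.isDVR hW₀
  have hinj : Function.Injective (algebraMap A W₀) := ValSub.codRestrict_injective
    (g := (algebraMap K L).comp (algebraMap A K))
    ((algebraMap K L).injective.comp (IsFractionRing.injective A K)) hW₀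
  obtain ⟨he, -⟩ := hef W₀ hW₀
  obtain ⟨t, w, ht, -, hw, heq⟩ := pole hP (hdeg ▸ hp.pos) (hπ.maximalIdeal_eq ▸ Ideal.mem_span_singleton_self π)
    ((map_ne_zero_iff _ (IsFractionRing.injective A K)).mpr hπ.ne_zero) hn ha hz hξ W₀ hW₀
  rw [hdeg] at heq
  obtain ⟨ϖ, hϖ⟩ := IsDiscreteValuationRing.exists_irreducible W₀
  obtain ⟨u, hu, he0⟩ := TameBC.exists_eq_unit_mul_pow hinj hπ hϖ
  rw [he] at hu he0
  have hwu : IsUnit w := of_not_not fun h =>
    (maximalIdeal.isMaximal W₀).ne_top ((Ideal.eq_top_iff_one _).mpr (by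
      simpa using sub_mem ((mem_maximalIdeal w).mpr h) hw))
  have ht0 : t ≠ 0 := fun h0 => by
    rw [h0, zero_pow hp.ne_zero, mul_zero, hwu.mul_left_eq_zero, pow_eq_zero_iff hn.ne'] at heq
    exact hπ.ne_zero (hinj (heq.trans (map_zero _).symm))
  obtain ⟨j, v, hv⟩ := IsDiscreteValuationRing.eq_unit_mul_pow_irreducible ht0 hϖ
  have hej : e * n = j * p := by
    refine IsDiscreteValuationRing.unit_mul_pow_congr_pow hϖ hϖ (u ^ n * hwu.unit)
      ((ha.map (algebraMap A W₀)).unit * v ^ p) _ _ ?_
    simp only [Units.val_mul, Units.val_pow_eq_pow_val, IsUnit.unit_spec, pow_mul]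
    rw [hu, hv] at heq
    linear_combination heq
  have hpe : p ∣ e := (hp.coprime_iff_not_dvd.mpr hpn).dvd_of_dvd_mul_right (Dvd.intro_left j hej.symm)
  have hp' : Module.finrank K L = p := by
    refine hd.resolve_left fun h1 => ?_
    rw [h1] at hid
    have := Nat.eq_one_of_mul_eq_one_right (Nat.eq_one_of_mul_eq_one_left hid)
    exact hp.one_lt.ne' (Nat.dvd_one.mp (this ▸ hpe))
  rw [hp'] at hid
  have hep : e = p := ((Nat.dvd_prime hp).mp (Dvd.intro (g * f) (by rw [← hid]; ring) : e ∣ p)).resolve_left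
    fun h1 => hp.one_lt.ne' (Nat.dvd_one.mp (h1 ▸ hpe))
  have hgf : g * f = 1 := by
    refine mul_left_cancel₀ hp.ne_zero ?_
    rw [← hep, mul_one, mul_left_comm, hid, hep]
  refine ⟨⟨⟨W₀, hW₀⟩, huniq (Nat.eq_one_of_mul_eq_one_right hgf), fun V hV z => ?_⟩, hp'⟩
  let : Algebra A V := (RingHom.codRestrict ((algebraMap K L).comp (algebraMap A K)) V hV.1).toAlgebra
  have : IsLocalHom (algebraMap A V) := Dom.isLocalHom hV
  obtain ⟨-, hf⟩ := hef V hV
  obtain ⟨c, hc⟩ := (finrank_eq_one_iff_of_nonzero' (1 : ResidueField V) one_ne_zero).mp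
    (hf.trans (Nat.eq_one_of_mul_eq_one_left hgf)) z
  obtain ⟨b, rfl⟩ := residue_surjective c
  exact ⟨b, by rw [← hc, Algebra.smul_def, mul_one]; rfl⟩

include hp in
/-- A pole of order divisible by `p` with leading residue not a `p`th power. -/
theorem caseC (hd : Module.finrank K L = 1 ∨ Module.finrank K L = p) [CharP (ResidueField A) p]
    (hP : P.Monic) (hdeg : P.natDegree = p) (hπ : Irreducible π) {n : ℕ} (hn : 0 < n) (hpn : p ∣ n) {a : A}
    (hap : ∀ r : A, residue A a ≠ residue A r ^ p)
    (hz : eval₂ ((algebraMap K L).comp (algebraMap A K)) z P = algebraMap K L ξ)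
    (hξ : ξ * algebraMap A K π ^ n = algebraMap A K a) : Case4 A K L p := by
  obtain ⟨e, f, g, hid, hef, huniq⟩ := GaloisPlaces.places (A := A) (K := K) (L := L)
  have ha : IsUnit a := by
    rw [← residue_ne_zero_iff_isUnit]
    exact fun h0 => hap 0 (by rw [h0, map_zero, zero_pow hp.ne_zero])
  obtain ⟨m, rfl⟩ := hpn
  have hπm : π ∈ maximalIdeal A := hπ.maximalIdeal_eq ▸ Ideal.mem_span_singleton_self π
  -- a `p`th root of the residue of `a` at every place
  have key : ∀ (W : ValuationSubring L) (hW : EtRam.Dominates A ((algebraMap K L).comp (algebraMap A K)) W),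
      letI : Algebra A W := (RingHom.codRestrict ((algebraMap K L).comp (algebraMap A K)) W hW.1).toAlgebra
      ∃ s : W, residue W s ^ p = residue W (algebraMap A W a) := by
    intro W hW
    let : Algebra A W := (RingHom.codRestrict ((algebraMap K L).comp (algebraMap A K)) W hW.1).toAlgebra
    have : IsLocalHom (algebraMap A W) := Dom.isLocalHom hW
    obtain ⟨t, w, ht, htz, hw, heq⟩ := pole hP (hdeg ▸ hp.pos) hπm
      ((map_ne_zero_iff _ (IsFractionRing.injective A K)).mpr hπ.ne_zero) hn ha hz hξ W hW
    rw [hdeg] at heq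
    let sL : L := z * ((algebraMap A W π : W) : L) ^ m
    have hwu : IsUnit w := of_not_not fun h =>
      (maximalIdeal.isMaximal W).ne_top ((Ideal.eq_top_iff_one _).mpr (by
        simpa using sub_mem ((mem_maximalIdeal w).mpr h) hw))
    have hsp : sL ^ p * (w : L) = ((algebraMap A W a : W) : L) := by
      have h1 := congrArg (fun x : W => (x : L)) heq
      simp only [MulMemClass.coe_mul, SubmonoidClass.coe_pow] at h1
      rw [mul_pow, ← pow_mul, mul_comm m p, mul_assoc, h1, ← mul_assoc, mul_comm (z ^ p),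
        mul_assoc, ← mul_pow, mul_comm z, htz, one_pow, mul_one]
    have hsW : sL ∈ W := by
      refine UnramGen.mem_of_pow_mem W hp.ne_zero ?_
      obtain ⟨v, hv⟩ := hwu.exists_right_inv
      rw [show sL ^ p = ((algebraMap A W a * v : W) : L) by
        rw [MulMemClass.coe_mul, ← hsp, mul_assoc, show (w : L) * (v : L) = 1 from congrArg Subtype.val hv, mul_one]]
      exact SetLike.coe_mem _
    refine ⟨⟨sL, hsW⟩, ?_⟩
    have h2 : (⟨sL, hsW⟩ : W) ^ p * w = algebraMap A W a := Subtype.ext hsp
    have hw1 : residue W w = 1 := by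
      rw [← sub_eq_zero, ← map_one (residue W), ← map_sub, residue_eq_zero_iff]; exact hw
    rw [← h2, map_mul, hw1, mul_one, map_pow]
  obtain ⟨W₀, hW₀⟩ := exists_dominates A K L
  let : Algebra A W₀ := (RingHom.codRestrict ((algebraMap K L).comp (algebraMap A K)) W₀ hW₀.1).toAlgebra
  have : IsLocalHom (algebraMap A W₀) := Dom.isLocalHom hW₀
  have hf1 : f ≠ 1 := fun h1 => by
    obtain ⟨s, hs⟩ := key W₀ hW₀
    obtain ⟨-, hf⟩ := hef W₀ hW₀
    obtain ⟨c, hc⟩ := (finrank_eq_one_iff_of_nonzero' (1 : ResidueField W₀) one_ne_zero).mp (hf.trans h1) (residue W₀ s)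
    obtain ⟨r, rfl⟩ := residue_surjective c
    rw [← hc, Algebra.smul_def, mul_one, ← map_pow] at hs
    exact hap r ((algebraMap (ResidueField A) (ResidueField W₀)).injective hs).symm
  have hdp : Module.finrank K L = p := hd.resolve_left fun h1 => hf1 (by
    rw [h1] at hid
    exact Nat.eq_one_of_mul_eq_one_left (Nat.eq_one_of_mul_eq_one_left hid))
  rw [hdp] at hid
  have hfp : f = p := ((Nat.dvd_prime hp).mp (Dvd.intro (g * e) (by rw [← hid]; ring) : f ∣ p)).resolve_left hf1
  have hge : g * e = 1 := by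
    refine mul_right_cancel₀ hp.ne_zero ?_
    rw [one_mul, ← hfp, mul_assoc, hid, hfp]
  refine ⟨⟨W₀, hW₀⟩, huniq (Nat.eq_one_of_mul_eq_one_right hge), fun V hV => ?_⟩
  let : Algebra A V := (RingHom.codRestrict ((algebraMap K L).comp (algebraMap A K)) V hV.1).toAlgebra
  intro _
  have := ValSub.isDVR hV
  obtain ⟨he, hf⟩ := hef V hV
  have hVp : Module.finrank (ResidueField A) (ResidueField V) = p := hf.trans hfp
  have : FiniteDimensional (ResidueField A) (ResidueField V) := Module.finite_of_finrank_pos (hVp ▸ hp.pos)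
  refine ⟨(ValSub.map_maximalIdeal_eq_iff (R := A) (S := V) (ValSub.codRestrict_injective
    (g := (algebraMap K L).comp (algebraMap A K))
    ((algebraMap K L).injective.comp (IsFractionRing.injective A K)) hV)).mpr
    (he.trans (Nat.eq_one_of_mul_eq_one_left hge)), ?_, hVp⟩
  have hmul := Field.finSepDegree_mul_finInsepDegree (ResidueField A) (ResidueField V)
  rw [hVp] at hmul
  rcases (Nat.dvd_prime hp).mp (Dvd.intro _ hmul) with h | h
  · exact isPurelyInseparable_of_finSepDegree_eq_one h
  -- otherwise separable, yet it contains an inseparable element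
  exfalso
  rw [h] at hmul
  have hsep : Algebra.IsSeparable (ResidueField A) (ResidueField V) := by
    rw [isSeparable_iff_finInsepDegree_eq_one]; exact (Nat.mul_eq_left hp.ne_zero).mp hmul
  obtain ⟨s, hs⟩ := key V hV
  have : ExpChar (ResidueField A) p := ExpChar.prime hp
  have hsa : residue V s ^ p = algebraMap (ResidueField A) (ResidueField V) (residue A a) := hs
  have h1 : residue V s ∈ Set.range (algebraMap (ResidueField A) (ResidueField V)) := by
    have h2 := IntermediateField.adjoin_simple_eq_adjoin_pow_expChar_pow_of_isSeparable' (ResidueField A)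
      (ResidueField V) (residue V s) p 1
    have h3 : residue V s ∈ IntermediateField.adjoin (ResidueField A) ({residue V s} : Set (ResidueField V)) :=
      IntermediateField.subset_adjoin _ _ rfl
    rw [pow_one, hsa] at h2
    rw [h2, IntermediateField.adjoin_simple_eq_bot_iff.mpr (IntermediateField.algebraMap_mem _ _),
      IntermediateField.mem_bot] at h3
    exact h3
  obtain ⟨c, hc⟩ := h1
  obtain ⟨r, rfl⟩ := residue_surjective c
  rw [← hc, ← map_pow] at hsa
  exact hap r ((algebraMap (ResidueField A) (ResidueField V)).injective hsa).symm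

end Groth.Agent.H9Ram.PrimeDegree
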