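import Groth.Agent.H9Ram.PrimeDegree
import Mathlib.FieldTheory.Galois.Basic
import Mathlib.FieldTheory.Normal.Basic

/-!
Assembling the cases of Artin–Schreier and Kummer type extensions of prime degree.
-/

namespace Groth.Agent.H9Ram.PrimeDegree

universe u

open IsLocalRing Polynomial

/-- An extension generated by an element with enough conjugates inside is Galois. -/
theorem isGalois_of_roots {K L : Type u} [Field K] [Field L] [Algebra K L] {z : L}
    (hgen : IntermediateField.adjoin K {z} = ⊤) {f : K[X]} (hf : f.Monic) (hz : aeval z f = 0) {d : ℕ}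
    (hd : f.natDegree = d) {r : Fin d → L} (hr : Function.Injective r) (hroot : ∀ i, aeval (r i) f = 0) :
    FiniteDimensional K L ∧ IsGalois K L := by
  classical
  have hint : IsIntegral K z := ⟨f, hf, by rwa [← aeval_def]⟩
  have : FiniteDimensional K L := by
    have := IntermediateField.adjoin.finiteDimensional hint
    rw [hgen] at this
    exact Module.Finite.equiv IntermediateField.topEquiv.toLinearEquiv
  have hmap0 : f.map (algebraMap K L) ≠ 0 := (hf.map _).ne_zero
  have hle : (Finset.univ.image r).val ≤ (f.map (algebraMap K L)).roots :=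
    Multiset.le_iff_subset (Finset.nodup _) |>.mpr fun x hx => by
      obtain ⟨i, -, rfl⟩ := Finset.mem_image.mp (Finset.mem_val.mp hx)
      rw [mem_roots hmap0, IsRoot.def, eval_map, ← aeval_def]
      exact hroot i
  have hcard : (Finset.univ.image r).val.card = d := by
    rw [← Finset.card_def, Finset.card_image_of_injective _ hr, Finset.card_univ, Fintype.card_fin]
  have heq : (Finset.univ.image r).val = (f.map (algebraMap K L)).roots :=
    Multiset.eq_of_le_of_card_le hle (by
      rw [hcard, ← hd, ← natDegree_map (algebraMap K L)]; exact card_roots' _)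
  have hsplit : (f.map (algebraMap K L)).Splits := by
    rw [splits_iff_card_roots, ← heq, hcard, natDegree_map, hd]
  have hnodup : (f.map (algebraMap K L)).roots.Nodup := heq ▸ Finset.nodup _
  have hsep : (f.map (algebraMap K L)).Separable :=
    (nodup_roots_iff_of_splits hmap0 hsplit).mp hnodup
  have hfs : f.Separable := (separable_map _).mp hsep
  have hsepz : IsSeparable K z := hfs.of_dvd (minpoly.dvd K z hz)
  have htop : Algebra.IsSeparable K L := by
    have h1 := (IntermediateField.isSeparable_adjoin_simple_iff_isSeparable K L).mpr hsepz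
    rw [hgen] at h1
    exact AlgEquiv.Algebra.isSeparable IntermediateField.topEquiv
  have : IsSplittingField K L f := by
    refine ⟨hsplit, ?_⟩
    have h2 : Algebra.adjoin K ({z} : Set L) = ⊤ := by
      rw [← IntermediateField.adjoin_simple_toSubalgebra_of_isAlgebraic hint.isAlgebraic, hgen,
        IntermediateField.top_toSubalgebra]
    refine top_le_iff.mp (h2.ge.trans (Algebra.adjoin_mono ?_))
    rintro _ rfl
    rw [mem_rootSet]
    exact ⟨hf.ne_zero, hz⟩
  exact ⟨‹_›, IsGalois.of_separable_splitting_field (p := f) hfs⟩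

/-- An injective map of the automorphisms into a group of prime order bounds the degree. -/
theorem degree_cases {K L : Type u} [Field K] [Field L] [Algebra K L] [FiniteDimensional K L] [IsGalois K L]
    {H : Type*} [Group H] {p : ℕ} (hp : p.Prime) (hH : Nat.card H = p) (χ : (L ≃ₐ[K] L) →* H)
    (hχ : Function.Injective χ) : Module.finrank K L = 1 ∨ Module.finrank K L = p := by
  rw [← IsGalois.card_aut_eq_finrank]
  exact (Nat.dvd_prime hp).mp (hH ▸ Subgroup.card_dvd_of_injective χ hχ)

/-- All the cases at once. -/
theorem classify {A K L : Type u} [CommRing A] [IsDomain A] [IsDiscreteValuationRing A] [Field K] [Algebra A K]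
    [IsFractionRing A K] [Field L] [Algebra K L] [FiniteDimensional K L] [IsGalois K L]
    {p : ℕ} (hp : p.Prime) (hd : Module.finrank K L = 1 ∨ Module.finrank K L = p)
    [CharP (ResidueField A) p] {P : A[X]} (hP : P.Monic) (hdeg : P.natDegree = p)
    {π : A} (hπ : Irreducible π) (hder : ∃ Q, derivative P = -1 + C π * Q) {ξ : K} {z : L}
    (hz : eval₂ ((algebraMap K L).comp (algebraMap A K)) z P = algebraMap K L ξ)
    (hgen : IntermediateField.adjoin K {z} = ⊤) :
    let g : A →+* L := (algebraMap K L).comp (algebraMap A K)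
    let case1 : Prop := Module.finrank K L = 1
    let case2 : Prop := EtRam.IsUnramifiedExt A g ∧ Module.finrank K L = p
    let case3 : Prop := EtRam.IsTotallyRamified A g ∧ Module.finrank K L = p
    (case1 ∨ case2 ∨ case3 ∨ Case4 A K L p) ∧
      ((∃ a : A, algebraMap A K a = ξ) → case1 ∨ case2) ∧
      (∀ (n : ℕ) (a : Aˣ), 0 < n → ¬ p ∣ n → ξ * algebraMap A K π ^ n = algebraMap A K a → case3) ∧
      (∀ (n : ℕ) (a : A), 0 < n → p ∣ n → (∀ r : A, residue A a ≠ residue A r ^ p) →
          ξ * algebraMap A K π ^ n = algebraMap A K a → Case4 A K L p) := by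
  intro g case1 case2 case3
  refine ⟨?_, fun ⟨a, ha⟩ => ?_, fun n a hn hpn hξ => caseB hp hd hP hdeg hπ hn hpn a.isUnit hz hξ,
    fun n a hn hpn hap hξ => caseC hp hd hP hdeg hπ hn hpn hap hz hξ⟩
  · rcases hd with h1 | h2
    · exact Or.inl h1
    · exact (trichotomy hp h2).elim (fun h => Or.inr (Or.inl ⟨h, h2⟩))
        (fun h => h.elim (fun h => Or.inr (Or.inr (Or.inl ⟨h, h2⟩))) fun h => Or.inr (Or.inr (Or.inr h)))
  · refine hd.imp id fun h2 => ⟨?_, h2⟩
    obtain ⟨Q, hQ⟩ := hder
    refine unramified_of_integral hP (hdeg ▸ hp.pos) hπ a (Q := Q) (by rw [derivative_sub, derivative_C, sub_zero, hQ])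
      ?_ hgen
    rw [eval₂_sub, eval₂_C, hz, ← ha]
    exact sub_self _

end Groth.Agent.H9Ram.PrimeDegree
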