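import Groth.Prelude.Def_EtRam
import Groth.Agent.H9Ram.UnramGen
import Groth.Agent.H9Ram.Dominates
import Mathlib.RingTheory.Valuation.ValuationRing
import Mathlib.RingTheory.AdjoinRoot
import Mathlib.RingTheory.Polynomial.Eisenstein.Basic
import Mathlib.RingTheory.DiscreteValuationRing.TFAE
import Mathlib.RingTheory.IntegralClosure.IntegrallyClosed

/-!
The extension of a discrete valuation ring by a root of a uniformizer.
-/

namespace Groth.Agent.H9Ram.RootExt

universe u

open IsLocalRing Polynomial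

variable {A : Type u} [CommRing A] [IsDomain A] [IsDiscreteValuationRing A] {π : A}

/-- The polynomial `X ^ n - π` is irreducible. -/
theorem irreducible (hπ : Irreducible π) {n : ℕ} (hn : n ≠ 0) : Irreducible (X ^ n - C π : A[X]) := by
  have hm : (X ^ n - C π : A[X]).Monic := monic_X_pow_sub_C π hn
  have hE : (X ^ n - C π : A[X]).IsEisensteinAt (maximalIdeal A) := by
    refine ⟨?_, fun {i} hi => ?_, ?_⟩
    · rw [hm.leadingCoeff]
      exact fun h => (maximalIdeal.isMaximal A).ne_top ((Ideal.eq_top_iff_one _).mpr h)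
    · rw [natDegree_X_pow_sub_C] at hi
      rw [hπ.maximalIdeal_eq, coeff_sub, coeff_X_pow, if_neg hi.ne, zero_sub, coeff_C]
      rcases eq_or_ne i 0 with rfl | h0
      · rw [if_pos rfl]; exact neg_mem (Ideal.mem_span_singleton_self π)
      · rw [if_neg h0, neg_zero]; exact zero_mem _
    · rw [hπ.maximalIdeal_eq, coeff_sub, coeff_X_pow, if_neg (Ne.symm hn), zero_sub, coeff_C_zero,
        Ideal.span_singleton_pow, neg_mem_iff, Ideal.mem_span_singleton]
      intro h
      have h2 : π ^ 2 ∣ π ^ 1 := by rwa [pow_one]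
      exact absurd ((pow_dvd_pow_iff hπ.ne_zero hπ.not_isUnit).mp h2) (by omega)
  exact hE.irreducible (maximalIdeal.isMaximal A).isPrime hm.isPrimitive
    (by rw [natDegree_X_pow_sub_C]; exact Nat.pos_of_ne_zero hn)

variable {n : ℕ}

local notation "S" => AdjoinRoot (X ^ n - C π : A[X])

omit [IsDomain A] [IsDiscreteValuationRing A] in
theorem root_pow : (AdjoinRoot.root (X ^ n - C π : A[X])) ^ n = algebraMap A S π := by
  have h := AdjoinRoot.eval₂_root (X ^ n - C π : A[X])
  rw [eval₂_sub, eval₂_X_pow, eval₂_C] at h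
  exact sub_eq_zero.mp h

theorem isDomain (hπ : Irreducible π) (hn : n ≠ 0) : IsDomain S :=
  AdjoinRoot.isDomain_of_prime (irreducible hπ hn).prime

omit [IsDomain A] [IsDiscreteValuationRing A] in
/-- Every element is a constant up to a multiple of the root. -/
theorem exists_sub_mem (x : S) : ∃ a : A, x - algebraMap A S a ∈
    Ideal.span {AdjoinRoot.root (X ^ n - C π : A[X])} := by
  induction x using AdjoinRoot.induction_on with
  | ih p =>
    refine ⟨p.coeff 0, Ideal.mem_span_singleton.mpr ⟨AdjoinRoot.mk _ p.divX, ?_⟩⟩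
    have h := congrArg (AdjoinRoot.mk (X ^ n - C π : A[X])) (X_mul_divX_add p)
    rw [map_add, map_mul, AdjoinRoot.mk_X, AdjoinRoot.mk_C] at h
    rw [AdjoinRoot.algebraMap_eq, ← h, add_sub_cancel_right]

theorem isLocalRing_and_maximalIdeal (hπ : Irreducible π) (hn : n ≠ 0) :
    ∃ _ : IsLocalRing S, maximalIdeal S = Ideal.span {AdjoinRoot.root (X ^ n - C π : A[X])} := by
  have := isDomain (n := n) hπ hn
  have hm : (X ^ n - C π : A[X]).Monic := monic_X_pow_sub_C π hn
  have := hm.finite_adjoinRoot
  have : Algebra.IsIntegral A S := Algebra.IsIntegral.of_finite A S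
  have hle : ∀ M : Ideal S, M.IsMaximal → Ideal.span {AdjoinRoot.root (X ^ n - C π : A[X])} ≤ M := by
    intro M hM
    have h1 : (M.comap (algebraMap A S)).IsMaximal := Ideal.isMaximal_comap_of_isIntegral_of_isMaximal M
    have h2 : algebraMap A S π ∈ M := by
      show π ∈ M.comap (algebraMap A S)
      rw [eq_maximalIdeal h1]
      exact hπ.maximalIdeal_eq ▸ Ideal.mem_span_singleton_self π
    rw [Ideal.span_singleton_le_iff_mem]
    rw [← root_pow] at h2
    exact hM.isPrime.mem_of_pow_mem _ h2
  obtain ⟨M₀, hM₀⟩ := Ideal.exists_maximal S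
  have hmax : ∀ M : Ideal S, M.IsMaximal → M = Ideal.span {AdjoinRoot.root (X ^ n - C π : A[X])} := by
    intro M hM
    refine le_antisymm (fun x hx => ?_) (hle M hM)
    obtain ⟨a, ha⟩ := exists_sub_mem x
    have haM : algebraMap A S a ∈ M := by
      simpa using sub_mem hx (hle M hM ha)
    have h1 : (M.comap (algebraMap A S)).IsMaximal := Ideal.isMaximal_comap_of_isIntegral_of_isMaximal M
    have h3 : a ∈ maximalIdeal A := eq_maximalIdeal h1 ▸ haM
    rw [hπ.maximalIdeal_eq, Ideal.mem_span_singleton] at h3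
    obtain ⟨b, rfl⟩ := h3
    have hb : algebraMap A S (π * b) ∈ Ideal.span {AdjoinRoot.root (X ^ n - C π : A[X])} := by
      rw [map_mul, ← root_pow]
      exact Ideal.mul_mem_right _ _ (Ideal.pow_mem_of_mem _ (Ideal.mem_span_singleton_self _) _
        (Nat.pos_of_ne_zero hn))
    simpa using add_mem ha hb
  have hloc : IsLocalRing S := IsLocalRing.of_unique_max_ideal
    ⟨M₀, hM₀, fun M hM => (hmax M hM).trans (hmax M₀ hM₀).symm⟩
  exact ⟨hloc, hmax _ (maximalIdeal.isMaximal _)⟩

theorem isDVR (hπ : Irreducible π) (hn : n ≠ 0) :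
    ∃ (_ : IsDomain S) (_ : IsDiscreteValuationRing S),
      maximalIdeal S = Ideal.span {AdjoinRoot.root (X ^ n - C π : A[X])} := by
  have := isDomain (n := n) hπ hn
  obtain ⟨_, hm⟩ := isLocalRing_and_maximalIdeal (n := n) hπ hn
  have := (monic_X_pow_sub_C π hn).finite_adjoinRoot
  have : IsNoetherianRing S := IsNoetherianRing.of_finite A S
  have hne : ¬ IsField S := fun h => by
    have h0 : Ideal.span {AdjoinRoot.root (X ^ n - C π : A[X])} = ⊥ :=
      hm ▸ isField_iff_maximalIdeal_eq.mp h
    rw [Ideal.span_singleton_eq_bot] at h0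
    have h1 := root_pow (π := π) (n := n)
    rw [h0, zero_pow hn] at h1
    exact hπ.ne_zero (AdjoinRoot.of.injective_of_degree_ne_zero
      (by rw [degree_X_pow_sub_C (Nat.pos_of_ne_zero hn)]; exact_mod_cast hn)
      (h1.symm.trans (map_zero _).symm))
  have hp : (maximalIdeal S).IsPrincipal := ⟨⟨_, hm⟩⟩
  exact ⟨inferInstance, ((IsDiscreteValuationRing.TFAE S hne).out 0 4).mpr hp, hm⟩

theorem map_maximalIdeal (hπ : Irreducible π) :
    (maximalIdeal A).map (algebraMap A S) = Ideal.span {AdjoinRoot.root (X ^ n - C π : A[X])} ^ n := by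
  rw [hπ.maximalIdeal_eq, Ideal.map_span, Set.image_singleton, Ideal.span_singleton_pow, root_pow]

/-- The fraction field is totally ramified. -/
theorem isTotallyRamified (hπ : Irreducible π) (hn : n ≠ 0) [IsDomain S] [IsDiscreteValuationRing S]
    (hm : maximalIdeal S = Ideal.span {AdjoinRoot.root (X ^ n - C π : A[X])})
    (K₁ : Type u) [Field K₁] [Algebra S K₁] [IsFractionRing S K₁] :
    EtRam.IsTotallyRamified A ((algebraMap S K₁).comp (algebraMap A S)) := by
  set g := (algebraMap S K₁).comp (algebraMap A S)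
  set r := AdjoinRoot.root (X ^ n - C π : A[X])
  have hsub : ∀ V : ValuationSubring K₁, EtRam.Dominates A g V → ∀ s : S, algebraMap S K₁ s ∈ V := by
    intro V hV s
    have hr : algebraMap S K₁ r ∈ V := UnramGen.mem_of_pow_mem V hn (by rw [← map_pow, root_pow]; exact hV.1 π)
    induction s using AdjoinRoot.induction_on with
    | ih p =>
      induction p using Polynomial.induction_on' with
      | add p q hp hq => rw [map_add, map_add]; exact add_mem hp hq
      | monomial k a =>
        rw [← C_mul_X_pow_eq_monomial, map_mul, map_pow, AdjoinRoot.mk_X, AdjoinRoot.mk_C, map_mul, map_pow]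
        exact mul_mem (hV.1 a) (pow_mem hr k)
  have hrS : ∀ a ∈ maximalIdeal S, ∃ t, a = r * t := fun a ha => by
    rw [hm, Ideal.mem_span_singleton] at ha
    exact ha
  have hval : ∀ V : ValuationSubring K₁, EtRam.Dominates A g V →
      EtRam.Dominates S (algebraMap S K₁) V := by
    intro V hV
    refine ⟨hsub V hV, fun a ha => ?_⟩
    obtain ⟨t, rfl⟩ := hrS a ha
    have hr : V.valuation (algebraMap S K₁ r) < 1 := by
      rw [← pow_lt_one_iff hn, ← map_pow, ← map_pow, root_pow]
      exact hV.2 π (hπ.maximalIdeal_eq ▸ Ideal.mem_span_singleton_self π)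
    calc V.valuation (algebraMap S K₁ (r * t))
        = V.valuation (algebraMap S K₁ r) * V.valuation (algebraMap S K₁ t) := by rw [map_mul, map_mul]
      _ ≤ V.valuation (algebraMap S K₁ r) * 1 :=
          mul_le_mul' le_rfl ((V.valuation_le_one_iff _).mpr (hsub V hV t))
      _ < 1 := by rwa [mul_one]
  refine ⟨?_, fun V V' hV hV' => SetLike.ext fun x =>
    (Dom.mem_iff (hval V hV) x).trans (Dom.mem_iff (hval V' hV') x).symm, fun V hV => ?_⟩
  · let V := (ValuationRing.valuation S K₁).valuationSubring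
    have hmem : ∀ x : K₁, x ∈ V ↔ ∃ s : S, algebraMap S K₁ s = x := fun x =>
      (Valuation.mem_valuationSubring_iff _ _).trans (ValuationRing.mem_integer_iff S K₁ x)
    have hinj : Function.Injective (algebraMap A S) := AdjoinRoot.of.injective_of_degree_ne_zero
      (by rw [degree_X_pow_sub_C (Nat.pos_of_ne_zero hn)]; exact_mod_cast hn)
    refine ⟨V, fun a => (hmem _).mpr ⟨_, rfl⟩, fun a ha => ?_⟩
    have haV : g a ∈ V := (hmem _).mpr ⟨_, rfl⟩
    show V.valuation ((⟨g a, haV⟩ : V) : K₁) < 1
    rw [← ValuationSubring.valuation_lt_one_iff, mem_maximalIdeal]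
    intro hu
    obtain ⟨w, hw⟩ := hu
    obtain ⟨t, ht⟩ := (hmem _).mp (w⁻¹ : Vˣ).1.2
    have h1 : algebraMap A S a * t = 1 := IsFractionRing.injective S K₁ (by
      rw [map_mul, map_one, ht]
      have h2 := congrArg Subtype.val (w.mul_inv)
      rw [hw] at h2
      exact h2)
    have h3 : algebraMap A S a ∈ maximalIdeal S := by
      rw [hπ.maximalIdeal_eq, Ideal.mem_span_singleton] at ha
      obtain ⟨b, rfl⟩ := ha
      rw [map_mul, ← root_pow, hm]
      exact Ideal.mul_mem_right _ _ (Ideal.pow_mem_of_mem _ (Ideal.mem_span_singleton_self _) _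
        (Nat.pos_of_ne_zero hn))
    exact (mem_maximalIdeal _).mp h3 (.of_mul_eq_one _ h1)
  · intro z
    obtain ⟨w, rfl⟩ := Ideal.Quotient.mk_surjective z
    obtain ⟨s, hs⟩ := (Dom.mem_iff (hval V hV) w).mp w.2
    obtain ⟨a, ha⟩ := exists_sub_mem s
    refine ⟨a, sub_eq_zero.mp ?_⟩
    show residue V _ - residue V w = 0
    rw [← map_sub, residue_eq_zero_iff, ← neg_mem_iff, neg_sub]
    rw [ValuationSubring.valuation_lt_one_iff]
    show V.valuation ((w : K₁) - algebraMap S K₁ (algebraMap A S a)) < 1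
    rw [← hs, ← map_sub]
    exact (hval V hV).2 _ (hm ▸ ha)

end Groth.Agent.H9Ram.RootExt
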