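import Groth.Agent.H9Ram.Dominates
import Groth.Agent.H12AlgSp.ValExtension
import Mathlib.FieldTheory.IntermediateField.Adjoin.Algebra
import Mathlib.RingTheory.DiscreteValuationRing.Basic

/-!
Compositum fields over a larger extension of discrete valuation rings.
-/

namespace Groth.Agent.H9Ram.SolutionTower

universe u

open IsLocalRing

variable {B C : Type u} [CommRing B] [IsDomain B] [IsDiscreteValuationRing B] [CommRing C] [IsDomain C]
  [IsDiscreteValuationRing C] [Algebra B C] [IsLocalHom (algebraMap B C)]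
  {K L M₀ K₁ : Type u} [Field K] [Field L] [Field M₀] [Field K₁] [Algebra K L] [Algebra K M₀]
  [Algebra L M₀] [IsScalarTower K L M₀] [Algebra K K₁] [FiniteDimensional K K₁]
  [Algebra B L] [IsFractionRing B L] [Algebra C M₀] [IsFractionRing C M₀] [Algebra B M₀]
  [IsScalarTower B C M₀] [IsScalarTower B L M₀]

/-- A local extension for `B` extends to one for `C`. -/
theorem exists_extension (M : Type u) [Field M] [Algebra K M] [Algebra L M] [Algebra K₁ M]
    [IsScalarTower K L M] [IsScalarTower K K₁ M]
    (hgen : Algebra.adjoin L (Set.range (algebraMap K₁ M)) = ⊤) (W : ValuationSubring M)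
    (hW : EtRam.Dominates B ((algebraMap L M).comp (algebraMap B L)) W) :
    ∃ (M' : Type u) (_ : Field M') (_ : Algebra K M') (_ : Algebra M₀ M') (_ : Algebra K₁ M')
      (_ : IsScalarTower K M₀ M') (_ : IsScalarTower K K₁ M') (e : M →+* M')
      (W' : ValuationSubring M'),
      Algebra.adjoin M₀ (Set.range (algebraMap K₁ M')) = ⊤ ∧
      EtRam.Dominates C ((algebraMap M₀ M').comp (algebraMap C M₀)) W' ∧
      W = W'.comap e ∧ algebraMap K₁ M' = e.comp (algebraMap K₁ M) := by
  let C' := H12AlgSp.rangeValuationSubring C M₀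
  let A₀ : ValuationSubring L := W.comap (algebraMap L M)
  have hA₀ : ∀ x : L, x ∈ A₀ ↔ ∃ b, algebraMap B L b = x :=
    fun x => Dom.mem_iff (Dom.comap (algebraMap L M) hW) x
  have hcomm : (algebraMap C M₀).comp (algebraMap B C) = (algebraMap L M₀).comp (algebraMap B L) := by
    rw [← IsScalarTower.algebraMap_eq, ← IsScalarTower.algebraMap_eq]
  obtain ⟨Ω, _, i', j', A₃, hij, h₁, h₂⟩ :=
    H12AlgSp.exists_common_extension (algebraMap L M) (algebraMap L M₀) A₀ W C' (fun _ => Iff.rfl)
      (fun x => (H12AlgSp.mem_rangeValuationSubring_iff_of_isLocalHom (algebraMap B C)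
        (algebraMap L M₀) hcomm x).trans (hA₀ x).symm)
  let : Algebra M₀ Ω := j'.toAlgebra
  let : Algebra K Ω := (j'.comp (algebraMap K M₀)).toAlgebra
  have : IsScalarTower K M₀ Ω := IsScalarTower.of_algebraMap_eq fun _ => rfl
  let k₁ : K₁ →ₐ[K] Ω :=
    { i'.comp (algebraMap K₁ M) with
      commutes' := fun c => by
        show i' (algebraMap K₁ M (algebraMap K K₁ c)) = j' (algebraMap K M₀ c)
        rw [← IsScalarTower.algebraMap_apply K K₁ M, IsScalarTower.algebraMap_apply K L M,
          IsScalarTower.algebraMap_apply K L M₀]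
        exact RingHom.congr_fun hij (algebraMap K L c) }
  let M' := IntermediateField.adjoin M₀ (Set.range k₁)
  have hsub : M'.toSubalgebra = Algebra.adjoin M₀ (Set.range k₁) :=
    IntermediateField.adjoin_toSubalgebra_of_isAlgebraic fun x ⟨y, hy⟩ =>
      hy ▸ ((IsIntegral.of_finite K y).map k₁).tower_top.isAlgebraic
  have hmem : ∀ m : M, i' m ∈ M' := fun m => by
    have hm : m ∈ Algebra.adjoin L (Set.range (algebraMap K₁ M)) := hgen ▸ Algebra.mem_top
    induction hm using Algebra.adjoin_induction with
    | mem x hx =>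
      obtain ⟨y, rfl⟩ := hx
      exact IntermediateField.subset_adjoin _ _ ⟨y, rfl⟩
    | algebraMap l =>
      rw [show i' (algebraMap L M l) = algebraMap M₀ Ω (algebraMap L M₀ l) from RingHom.congr_fun hij l]
      exact M'.algebraMap_mem _
    | add x y _ _ hx hy => rw [map_add]; exact add_mem hx hy
    | mul x y _ _ hx hy => rw [map_mul]; exact mul_mem hx hy
  let e : M →+* M' := i'.codRestrict M'.toSubfield.toSubring hmem
  let : Algebra K₁ M' := (e.comp (algebraMap K₁ M)).toAlgebra
  have : IsScalarTower K K₁ M' := IsScalarTower.of_algebraMap_eq fun c =>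
    Subtype.ext (k₁.commutes c).symm
  refine ⟨M', inferInstance, inferInstance, inferInstance, inferInstance, inferInstance, inferInstance,
    e, A₃.comap (algebraMap M' Ω), ?_, ?_, ?_, rfl⟩
  · refine Subalgebra.map_injective (f := M'.val) Subtype.val_injective ?_
    rw [AlgHom.map_adjoin, Algebra.map_top, IntermediateField.range_val, hsub, ← Set.range_comp]
    rfl
  · refine ⟨fun c => (h₂ _).mpr ⟨c, rfl⟩, fun c hc => ?_⟩
    rw [← ValuationSubring.mem_nonunits_iff, ValuationSubring.mem_nonunits_iff_or]
    rcases eq_or_ne c 0 with rfl | hc0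
    · exact Or.inl (map_zero _)
    refine Or.inr fun hinv => ?_
    have hinv' : j' (algebraMap C M₀ c)⁻¹ ∈ A₃ := by
      rw [map_inv₀]
      exact hinv
    obtain ⟨d, hd⟩ := (h₂ _).mp hinv'
    refine (mem_maximalIdeal _).mp hc (IsUnit.of_mul_eq_one d (IsFractionRing.injective C M₀ ?_))
    rw [map_mul, hd, map_one, mul_inv_cancel₀]
    exact IsFractionRing.to_map_ne_zero_of_mem_nonZeroDivisors (mem_nonZeroDivisors_of_ne_zero hc0)
  · ext m
    exact (h₁ m).symm

end Groth.Agent.H9Ram.SolutionTower
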