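import Mathlib

/-!
Decomposition, inertia and wild inertia at a maximal ideal with separable residue field extension.
-/

universe u v w

open Polynomial
open scoped Pointwise

namespace Groth.Agent.H9Ram

variable {A : Type u} {B : Type v} {G : Type w} [CommRing A] [CommRing B] [Algebra A B] [Group G]
  [MulSemiringAction G B]

attribute [local instance] Ideal.Quotient.field

/-- With separable residue field extension, the decomposition group has order `|I| * f`. -/
theorem card_stabilizer_eq [Finite G] [IsGaloisGroup G A B] (p : Ideal A) [p.IsMaximal]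
    (m : Ideal B) [m.IsMaximal] [m.LiesOver p] [Algebra.IsSeparable (A ⧸ p) (B ⧸ m)] :
    Nat.card (MulAction.stabilizer G m) = Nat.card (m.inertia G) * m.inertiaDeg A := by
  have : IsGalois (A ⧸ p) (B ⧸ m) := { __ := Ideal.IsFractionRing.normal G p m (A ⧸ p) (B ⧸ m) }
  have : Module.Finite (A ⧸ p) (B ⧸ m) :=
    Ideal.IsFractionRing.finite_of_isInvariant G p m (A ⧸ p) (B ⧸ m)
  have h : Subgroup.index _ = _ := Nat.card_congr
    (IsFractionRing.stabilizerQuotientInertiaEquiv G p m (A ⧸ p) (B ⧸ m)).toEquiv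
  rw [← Ideal.inertiaDeg'_eq_inertiaDeg p m, Ideal.inertiaDeg'_algebraMap,
    ← IsGalois.card_aut_eq_finrank (A ⧸ p) (B ⧸ m), ← h,
    ← ((Ideal.inertia G m).subgroupOf (MulAction.stabilizer G m)).card_mul_index,
    Nat.card_congr (Subgroup.subgroupOfEquivOfLe (Ideal.inertia_le_stabilizer (M := G) m)).toEquiv,
    AddSubgroup.subgroupOf_inertia]

/-- With separable residue field extension, the inertia group has order the ramification index. -/
theorem card_inertia_eq [Finite G] [IsGaloisGroup G A B] [IsDomain A] [IsDomain B] [Module.Finite A B]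
    [Module.Flat A B] (p : Ideal A) [p.IsMaximal] (m : Ideal B) [m.IsMaximal] [m.LiesOver p]
    [Algebra.IsSeparable (A ⧸ p) (B ⧸ m)] :
    Nat.card (m.inertia G) = m.ramificationIdx A := by
  have H : (p.primesOver B).ncard * (Nat.card (m.inertia G) * m.inertiaDeg A) = Nat.card G := by
    rw [← card_stabilizer_eq p m, ← Algebra.IsInvariant.orbit_eq_primesOver A B G p m]
    simpa using Nat.card_congr (MulAction.orbitProdStabilizerEquivGroup G m)
  rw [← Ideal.inertiaDegIn_eq_inertiaDeg p m G] at H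
  rw [← Ideal.ramificationIdxIn_eq_ramificationIdx p m G]
  have h1 : (p.primesOver B).ncard ≠ 0 := fun h => by simp [h, Nat.card_pos.ne] at H
  have h2 : p.inertiaDegIn B ≠ 0 := fun h => by simp [h, Nat.card_pos.ne] at H
  rwa [← Ideal.ncard_primesOver_mul_ramificationIdxIn_mul_inertiaDegIn p B G,
    mul_right_inj' h1, mul_left_inj' h2] at H

/-- The `i`-th higher inertia condition. -/
def Moves (G : Type w) {B : Type v} [CommRing B] [SMul G B] (m : Ideal B) (i : ℕ) (σ : G) : Prop :=
  ∀ x : B, σ • x - x ∈ m ^ i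

theorem moves_sq_mem {m : Ideal B} {i : ℕ} {σ : G} (h : Moves G m i σ) (hi : 1 ≤ i) {e : B}
    (he : e ∈ m ^ 2) : σ • e - e ∈ m ^ (i + 1) := by
  have hm : ∀ a ∈ m, σ • a ∈ m := fun a ha => by
    have := m.add_mem (Ideal.pow_le_self (by omega) (h a)) ha
    rwa [sub_add_cancel] at this
  rw [pow_two] at he
  induction he using Submodule.mul_induction_on' with
  | mem_mul_mem a ha b hb =>
    rw [smul_mul', show σ • a * σ • b - a * b = σ • a * (σ • b - b) + b * (σ • a - a) by ring,
      pow_succ']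
    exact Ideal.add_mem _ (Ideal.mul_mem_mul (hm a ha) (h b)) (Ideal.mul_mem_mul hb (h a))
  | add x _ y _ hx hy =>
    rw [smul_add, show σ • x + σ • y - (x + y) = (σ • x - x) + (σ • y - y) by ring]
    exact Ideal.add_mem _ hx hy

theorem mem_pow_succ_of_mul_mem [IsDedekindDomain B] {m : Ideal B} [hm : m.IsMaximal] {i : ℕ}
    {a b : B} (h : a * b ∈ m ^ (i + 1)) (ha : a ∉ m) : b ∈ m ^ (i + 1) := by
  have hp : (m ^ (i + 1)).IsPrimary := Ideal.isPrimary_of_isMaximal_radical (by
    rwa [Ideal.radical_pow m (Nat.succ_ne_zero i), hm.isPrime.radical])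
  rcases (Ideal.isPrimary_iff.mp hp).2 (show b * a ∈ m ^ (i + 1) by rwa [mul_comm]) with hb | ha'
  · exact hb
  · rw [Ideal.radical_pow m (Nat.succ_ne_zero i), hm.isPrime.radical] at ha'
    exact absurd ha' ha

/-- The key step: an element of the `i`-th inertia group moving a uniformiser by `m^(i+1)` is in
the next one. -/
theorem moves_succ [IsDedekindDomain B] [SMulCommClass G A B] {m : Ideal B} [hm : m.IsMaximal]
    (p : Ideal A) [p.IsMaximal] [m.LiesOver p] [Algebra.IsSeparable (A ⧸ p) (B ⧸ m)]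
    {π : B} (hπ : π ∈ m) (hπ' : π ∉ m ^ 2) {i : ℕ} (hi : 1 ≤ i) {σ : G} (h : Moves G m i σ)
    (hσπ : σ • π - π ∈ m ^ (i + 1)) : Moves G m (i + 1) σ := by
  intro x
  obtain ⟨f, hf, hfm⟩ := (Polynomial.lifts_and_natDegree_eq_and_monic
    (f := Ideal.Quotient.mk p) (show minpoly (A ⧸ p) (Ideal.Quotient.mk m x) ∈
      Polynomial.lifts (Ideal.Quotient.mk p) from
      Polynomial.mem_lifts _ |>.mpr (Polynomial.map_surjective _ Ideal.Quotient.mk_surjective _))
    (minpoly.monic (Algebra.IsSeparable.isIntegral _ _)))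
  have hmap : ∀ g : A[X], Ideal.Quotient.mk m (aeval x g) =
      aeval (Ideal.Quotient.mk m x) (g.map (Ideal.Quotient.mk p)) := fun g => by
    rw [← Ideal.Quotient.algebraMap_eq, ← Ideal.Quotient.algebraMap_eq p, aeval_map_algebraMap]
    exact ((Polynomial.aeval_algebraMap_apply (B ⧸ m) x g)).symm
  have hfx : aeval x f ∈ m := by
    rw [← Ideal.Quotient.eq_zero_iff_mem, hmap, hf, minpoly.aeval]
  have hf' : aeval x (derivative f) ∉ m := fun hmem => by
    rw [← Ideal.Quotient.eq_zero_iff_mem, hmap, ← derivative_map, hf] at hmem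
    exact (Algebra.IsSeparable.isSeparable (A ⧸ p) (Ideal.Quotient.mk m x)).aeval_derivative_ne_zero
      (minpoly.aeval _ _) hmem
  -- `σ` moves `f(x)` by `m^(i+1)`
  obtain ⟨d, e, he, hde⟩ := Ideal.exists_mul_add_mem_pow_succ
    (IsMaximal.ne_bot_of_mem hπ hπ') (i := 1) π (aeval x f) (by simpa using hπ) hπ'
    (show aeval x f ∈ m ^ 1 by simpa using hfx)
  have h1 : σ • aeval x f - aeval x f ∈ m ^ (i + 1) := by
    rw [← hde, smul_add, smul_mul', show σ • π * σ • d + σ • e - (π * d + e) =
      σ • π * (σ • d - d) + d * (σ • π - π) + (σ • e - e) by ring]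
    refine Ideal.add_mem _ (Ideal.add_mem _ ?_ (Ideal.mul_mem_left _ _ hσπ)) (moves_sq_mem h hi he)
    rw [pow_succ']
    refine Ideal.mul_mem_mul ?_ (h d)
    have := m.add_mem (Ideal.pow_le_self (by omega) (h π)) hπ
    rwa [sub_add_cancel] at this
  have h2 : σ • aeval x f = aeval (σ • x) f := by
    let φ : B →ₐ[A] B := MulSemiringAction.toAlgHom A B σ
    exact (Polynomial.aeval_algHom_apply φ x f).symm
  obtain ⟨k, hk⟩ := Polynomial.binomExpansion (f.map (algebraMap A B)) x (σ • x - x)
  rw [add_sub_cancel, derivative_map, ← aeval_def_eval, ← aeval_def_eval, ← aeval_def_eval] at hk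
  refine mem_pow_succ_of_mul_mem (a := aeval x (derivative f)) ?_ hf'
  rw [show aeval x (derivative f) * (σ • x - x) =
      (aeval (σ • x) f - aeval x f) - k * (σ • x - x) ^ 2 by rw [hk]; ring, ← h2]
  refine Ideal.sub_mem _ h1 (Ideal.mul_mem_left _ _ ?_)
  have := Ideal.pow_mem_pow (h x) 2
  rw [← pow_mul] at this
  exact Ideal.pow_le_pow_right (by omega) this
where
  IsMaximal.ne_bot_of_mem {π : B} {m : Ideal B} (hπ : π ∈ m) (hπ' : π ∉ m ^ 2) : m ≠ ⊥ :=
    fun h => hπ' (by rw [h] at hπ; rw [(Ideal.mem_bot.mp hπ)]; exact Ideal.zero_mem _)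
  aeval_def_eval {x : B} {g : A[X]} : aeval x g = (g.map (algebraMap A B)).eval x := by
    rw [eval_map, aeval_def]

end Groth.Agent.H9Ram
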