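import Mathlib
import Groth.Agent.H9Ram.WildInertia

/-!
The tame character of the inertia group, and the structure of inertia modulo wild inertia.
-/

universe u v w

open scoped Pointwise

namespace Groth.Agent.H9Ram

variable {A : Type u} {B : Type v} {G : Type w} [CommRing A] [CommRing B] [Algebra A B] [Group G]
  [MulSemiringAction G B] [IsDedekindDomain B] [SMulCommClass G A B]
variable {m : Ideal B} [hm : m.IsMaximal] (p : Ideal A) [p.IsMaximal] [m.LiesOver p]
  [Algebra.IsSeparable (A ⧸ p) (B ⧸ m)]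
variable {π : B}

omit [Algebra A B] [SMulCommClass G A B] in
theorem ne_bot_of_mem (hπ : π ∈ m) (hπ' : π ∉ m ^ 2) : m ≠ ⊥ := fun h => hπ' (by
  rw [h] at hπ; rw [Ideal.mem_bot.mp hπ]; exact Ideal.zero_mem _)

include p in
/-- An element of finite order prime to the residue characteristic in the wild inertia is trivial. -/
theorem eq_self_of_pow_eq_one (hπ : π ∈ m) (hπ' : π ∉ m ^ 2) {σ : G} (h : Moves G m 2 σ) {q : ℕ}
    (hq : σ ^ q = 1) (hqm : (q : B) ∉ m) (x : B) : σ • x = x := by
  have key : ∀ i, 2 ≤ i → Moves G m i σ := fun i hi => by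
    induction i, hi using Nat.le_induction with
    | base => exact h
    | succ i hi ih =>
      refine moves_succ p hπ hπ' (by omega) ih (mem_pow_succ_of_mul_mem ?_ hqm)
      set y := σ • π - π with hy
      have hy2 : σ • y - y ∈ m ^ (i + 1) :=
        moves_sq_mem ih (by omega) (Ideal.pow_le_pow_right hi (ih π))
      have hn : ∀ n : ℕ, σ ^ n • π - π - (n : B) * y ∈ m ^ (i + 1) := fun n => by
        induction n with
        | zero => simp
        | succ n ihn =>
          have h1 : σ • (σ ^ n • π - π - (n : B) * y) ∈ m ^ (i + 1) := by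
            have h2 := ih (σ ^ n • π - π - (n : B) * y)
            have h3 : σ • (σ ^ n • π - π - (n : B) * y) - (σ ^ n • π - π - (n : B) * y) ∈
                m ^ (i + 1) := moves_sq_mem ih (by omega) (Ideal.pow_le_pow_right (by omega) ihn)
            simpa using Ideal.add_mem _ h3 ihn
          rw [smul_sub, smul_sub, smul_mul', ← mul_smul, ← pow_succ',
            show σ • (n : B) = (n : B) from map_natCast (MulSemiringAction.toRingHom G B σ) n] at h1
          rw [show σ ^ (n + 1) • π - π - ((n + 1 : ℕ) : B) * y =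
            (σ ^ (n + 1) • π - σ • π - (n : B) * σ • y) + (n : B) * (σ • y - y) by
              push_cast; rw [hy]; ring]
          exact Ideal.add_mem _ h1 (Ideal.mul_mem_left _ _ hy2)
      have := hn q
      rw [hq, one_smul, sub_self, zero_sub] at this
      simpa using this
  rw [← sub_eq_zero, ← Ideal.mem_bot, ← Ideal.iInf_pow_eq_bot_of_isDomain m hm.ne_top,
    Submodule.mem_iInf]
  exact fun i => Ideal.pow_le_pow_right (le_max_left i 2) (key _ (le_max_right _ _) x)

include p in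
/-- The wild inertia group (elements moving everything by `m²`) is a `p`-group. -/
theorem prime_eq_of_dvd_card [Finite G] [FaithfulSMul G B] (hπ : π ∈ m) (hπ' : π ∉ m ^ 2)
    (P : Subgroup G) (hP : ∀ σ ∈ P, Moves G m 2 σ) {q : ℕ} [Fact q.Prime] (h : q ∣ Nat.card P) :
    (q : B) ∈ m := by
  by_contra hqm
  obtain ⟨σ, hσ⟩ := exists_prime_orderOf_dvd_card' q h
  have h1 : (σ : G) ^ q = 1 := by rw [← SubgroupClass.coe_pow, ← hσ, pow_orderOf_eq_one]; rfl
  have h2 : (σ : G) = 1 := eq_of_smul_eq_smul (α := B) fun x => by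
    rw [one_smul]; exact eq_self_of_pow_eq_one p hπ hπ' (hP σ σ.2) h1 hqm x
  rw [show σ = 1 from Subtype.ext h2, orderOf_one] at hσ
  exact (Fact.out : q.Prime).one_lt.ne hσ

variable (G) in
omit [SMulCommClass G A B] in
theorem exists_unique_char (hπ : π ∈ m) (hπ' : π ∉ m ^ 2) (σ : m.inertia G) :
    ∃ c : B ⧸ m, ∀ d : B, Ideal.Quotient.mk m d = c ↔ (σ : G) • π - π * d ∈ m ^ 2 := by
  have hσπ : (σ : G) • π ∈ m := by
    have := m.add_mem (σ.2 π) hπ
    rwa [sub_add_cancel] at this
  obtain ⟨d₀, e, he, hde⟩ := Ideal.exists_mul_add_mem_pow_succ (ne_bot_of_mem hπ hπ') (i := 1) π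
    ((σ : G) • π) (by simpa using hπ) hπ' (by simpa using hσπ)
  refine ⟨Ideal.Quotient.mk m d₀, fun d => ⟨fun hd => ?_, fun hd => ?_⟩⟩
  · rw [← hde, show π * d₀ + e - π * d = π * (d₀ - d) + e by ring]
    refine Ideal.add_mem _ ?_ he
    rw [pow_two]
    refine Ideal.mul_mem_mul hπ ?_
    rw [← Ideal.Quotient.eq]; exact hd.symm
  · rw [Ideal.Quotient.eq]
    have h1 : π * (d - d₀) ∈ m ^ 2 := by
      rw [show π * (d - d₀) = e - ((σ : G) • π - π * d) by rw [← hde]; ring]
      exact Ideal.sub_mem _ he hd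
    by_contra hne
    exact hπ' (mem_pow_succ_of_mul_mem (i := 1) (by rwa [mul_comm] at h1) hne)

end Groth.Agent.H9Ram

namespace Groth.Agent.H9Ram

variable {A : Type u} {B : Type v} {G : Type w} [CommRing A] [CommRing B] [Algebra A B] [Group G]
  [MulSemiringAction G B] [IsDedekindDomain B] [SMulCommClass G A B]
variable {m : Ideal B} [hm : m.IsMaximal] (p : Ideal A) [p.IsMaximal] [m.LiesOver p]
  [Algebra.IsSeparable (A ⧸ p) (B ⧸ m)]
variable {π : B}

attribute [local instance] Ideal.Quotient.field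

include p in
/-- The tame character: its kernel is the wild inertia. -/
theorem exists_tameCharacter (hπ : π ∈ m) (hπ' : π ∉ m ^ 2) :
    ∃ χ : m.inertia G →* (B ⧸ m)ˣ, ∀ σ : m.inertia G, χ σ = 1 ↔ Moves G m 2 (σ : G) := by
  choose c hc using exists_unique_char (G := G) hπ hπ'
  have h1 : c 1 = 1 := by
    rw [← map_one (Ideal.Quotient.mk m)]
    exact ((hc 1 1).mpr (by simp)).symm
  have hmul : ∀ σ τ, c (σ * τ) = c σ * c τ := fun σ τ => by
    obtain ⟨a, ha⟩ := Ideal.Quotient.mk_surjective (c σ)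
    obtain ⟨b, hb⟩ := Ideal.Quotient.mk_surjective (c τ)
    have ha' := (hc σ a).mp ha
    have hb' := (hc τ b).mp hb
    rw [← ha, ← hb, ← map_mul]
    refine ((hc _ _).mpr ?_).symm
    set e := (τ : G) • π - π * b with he
    have hs : ((σ : G)) • e - e ∈ m ^ (1 + 1) :=
      moves_sq_mem (i := 1) (fun x => by simpa using σ.2 x) le_rfl hb'
    have hs' : (σ : G) • e ∈ m ^ 2 := by simpa using Ideal.add_mem _ hs hb'
    rw [Subgroup.coe_mul, mul_smul, show (τ : G) • π = π * b + e by rw [he]; ring, smul_add,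
      smul_mul', show (σ : G) • π * (σ : G) • b + (σ : G) • e - π * (a * b) =
        ((σ : G) • π - π * a) * (σ : G) • b + π * a * ((σ : G) • b - b) + (σ : G) • e by ring]
    refine Ideal.add_mem _ (Ideal.add_mem _ (Ideal.mul_mem_right _ _ ha') ?_) hs'
    rw [pow_two]
    exact Ideal.mul_mem_mul (m.mul_mem_right _ hπ) (σ.2 b)
  let χ₀ : m.inertia G →* (B ⧸ m) := { toFun := c, map_one' := h1, map_mul' := hmul }
  refine ⟨χ₀.toHomUnits, fun σ => ⟨fun h => ?_, fun h => ?_⟩⟩
  · have h2 : Ideal.Quotient.mk m 1 = c σ := by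
      rw [map_one]; exact (congrArg Units.val h).symm
    refine moves_succ p hπ hπ' (i := 1) le_rfl (fun x => by simpa using σ.2 x) ?_
    simpa using (hc σ 1).mp h2
  · refine Units.ext ?_
    show c σ = 1
    rw [← map_one (Ideal.Quotient.mk m)]
    exact ((hc σ 1).mpr (by simpa using h π)).symm

include p in
/-- Structure of inertia modulo wild inertia. -/
theorem inertia_wild_tame [IsDomain A] [Finite G] [IsGaloisGroup G A B] [FaithfulSMul G B]
    [Module.Finite A B] [Module.Flat A B] (hm0 : m ≠ ⊥) (P : Subgroup G)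
    (hP : ∀ σ, σ ∈ P ↔ Moves G m 2 σ) :
    P ≤ m.inertia G ∧
    (∀ q : ℕ, q.Prime → CharP (A ⧸ p) q → IsPGroup q P) ∧
    (CharZero (A ⧸ p) → P = ⊥) ∧
    ∀ [(P.subgroupOf (m.inertia G)).Normal],
      IsCyclic (m.inertia G ⧸ P.subgroupOf (m.inertia G)) ∧
      (∀ q : ℕ, q.Prime → CharP (A ⧸ p) q →
        Nat.card (m.inertia G ⧸ P.subgroupOf (m.inertia G)) =
          m.ramificationIdx A / q ^ (m.ramificationIdx A).factorization q) ∧
      (CharZero (A ⧸ p) →
        Nat.card (m.inertia G ⧸ P.subgroupOf (m.inertia G)) = m.ramificationIdx A) ∧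
      Nonempty (m.inertia G ⧸ P.subgroupOf (m.inertia G) ≃*
        ↥(rootsOfUnity (m.ramificationIdx A) (B ⧸ m))) := by
  obtain ⟨π, hπ, hπ'⟩ := SetLike.exists_of_lt
    (show m ^ 2 < m from Ideal.pow_right_strictAnti m hm0 hm.ne_top one_lt_two |>.trans_eq (pow_one m))
  have hPI : P ≤ m.inertia G := fun σ hσ x => Ideal.pow_le_self two_ne_zero ((hP σ).mp hσ x)
  have hinj : Function.Injective (algebraMap (A ⧸ p) (B ⧸ m)) := RingHom.injective _
  have hpg : ∀ q : ℕ, q.Prime → CharP (A ⧸ p) q → ∃ k, Nat.card P = q ^ k := fun q hq hch => by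
    have : CharP (B ⧸ m) q := charP_of_injective_algebraMap hinj q
    refine ⟨_, Nat.eq_prime_pow_of_unique_prime_dvd Nat.card_pos.ne' fun {r} hr hr' => ?_⟩
    have : Fact r.Prime := ⟨hr⟩
    have h := prime_eq_of_dvd_card p hπ hπ' P (fun σ hσ => (hP σ).mp hσ) hr'
    rw [← Ideal.Quotient.eq_zero_iff_mem, map_natCast, CharP.cast_eq_zero_iff (B ⧸ m) q] at h
    exact ((hr.eq_one_or_self_of_dvd q h).resolve_left hq.one_lt.ne').symm
  have hzero : CharZero (A ⧸ p) → Nat.card P = 1 := fun hch => by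
    have : CharZero (B ⧸ m) := charZero_of_injective_algebraMap hinj
    by_contra hne
    obtain ⟨r, hr, hr'⟩ := Nat.exists_prime_and_dvd hne
    have : Fact r.Prime := ⟨hr⟩
    have h := prime_eq_of_dvd_card p hπ hπ' P (fun σ hσ => (hP σ).mp hσ) hr'
    rw [← Ideal.Quotient.eq_zero_iff_mem, map_natCast, Nat.cast_eq_zero] at h
    exact hr.ne_zero h
  refine ⟨hPI, fun q hq hch => ?_, fun hch => Subgroup.card_eq_one.mp (hzero hch), ?_⟩
  · have := Fact.mk hq
    obtain ⟨k, hk⟩ := hpg q hq hch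
    exact IsPGroup.of_card hk
  intro hN
  obtain ⟨χ, hχ⟩ := exists_tameCharacter (G := G) p hπ hπ'
  have hker : χ.ker = P.subgroupOf (m.inertia G) :=
    Subgroup.ext fun σ => (hχ σ).trans (hP _).symm
  let E : m.inertia G ⧸ P.subgroupOf (m.inertia G) ≃* χ.range :=
    (QuotientGroup.quotientMulEquivOfEq hker.symm).trans (QuotientGroup.quotientKerEquivRange χ)
  have : Finite χ.range := Finite.of_equiv _ E.toEquiv
  set h := Nat.card (m.inertia G ⧸ P.subgroupOf (m.inertia G)) with hh
  have hE : Nat.card χ.range = h := (Nat.card_congr E.toEquiv).symm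
  have he : m.ramificationIdx A = h * Nat.card P := by
    rw [← card_inertia_eq (G := G) p m, Subgroup.card_eq_card_quotient_mul_card_subgroup
      (P.subgroupOf (m.inertia G)), Nat.card_congr (Subgroup.subgroupOfEquivOfLe hPI).toEquiv]
  have hprime : ∀ q : ℕ, q.Prime → CharP (A ⧸ p) q →
      (∀ x : (B ⧸ m)ˣ, x ^ Nat.card P = 1 → x = 1) ∧ ¬ q ∣ h := fun q hq hch => by
    have : CharP (B ⧸ m) q := charP_of_injective_algebraMap hinj q
    have := Fact.mk hq
    have : ExpChar (B ⧸ m) q := ExpChar.prime hq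
    have hinj' : ∀ (k : ℕ) (x : (B ⧸ m)ˣ), x ^ q ^ k = 1 → x = 1 := fun k x hx => by
      have h2 := congrArg Units.val hx
      rw [Units.val_pow_eq_pow_val, Units.val_one] at h2
      exact Units.ext ((ExpChar.pow_prime_pow_mul_eq_one_iff q k 1 _).mp (by rwa [mul_one]) |>
        (by simpa using ·))
    obtain ⟨k, hk⟩ := hpg q hq hch
    refine ⟨fun x hx => hinj' k x (hk ▸ hx), fun hdvd => ?_⟩
    obtain ⟨x, hx⟩ := exists_prime_orderOf_dvd_card' (G := χ.range) q (hE ▸ hdvd)
    have h3 : (x : (B ⧸ m)ˣ) = 1 := hinj' 1 _ (by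
      rw [pow_one, ← SubgroupClass.coe_pow, ← hx, pow_orderOf_eq_one]; rfl)
    rw [show x = 1 from Subtype.ext h3, orderOf_one] at hx
    exact hq.one_lt.ne hx
  have hpow : ∀ x : (B ⧸ m)ˣ, x ^ Nat.card P = 1 → x = 1 := by
    rcases CharP.exists' (A ⧸ p) with hch | ⟨q, hq, hch⟩
    · intro x hx; rwa [hzero hch, pow_one] at hx
    · exact (hprime q hq.out hch).1
  refine ⟨isCyclic_of_surjective E.symm E.symm.surjective, fun q hq hch => ?_, fun hch => ?_, ?_⟩
  · obtain ⟨k, hk⟩ := hpg q hq hch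
    have hnd := (hprime q hq hch).2
    have h0 : h ≠ 0 := Nat.card_pos.ne'
    rw [he, hk, Nat.factorization_mul h0 (pow_ne_zero _ hq.ne_zero), Finsupp.add_apply,
      Nat.factorization_eq_zero_of_not_dvd hnd, hq.factorization_pow, Finsupp.single_eq_same,
      zero_add, Nat.mul_div_cancel _ (pow_pos hq.pos _)]
  · rw [he, hzero hch, mul_one]
  · have h1 : χ.range = rootsOfUnity (m.ramificationIdx A) (B ⧸ m) := by
      have : NeZero h := ⟨Nat.card_pos.ne'⟩
      have h4 : χ.range = rootsOfUnity h (B ⧸ m) := by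
        refine Subgroup.eq_of_le_of_card_ge (fun x hx => ?_) ?_
        · rw [mem_rootsOfUnity, ← hE]
          exact (congrArg Subtype.val (pow_card_eq_one' (x := (⟨x, hx⟩ : χ.range))) :)
        · rw [hE]; exact card_rootsOfUnity _ _
      rw [h4]
      ext x
      rw [mem_rootsOfUnity, mem_rootsOfUnity, he, pow_mul]
      exact ⟨fun hx => by rw [hx, one_pow], fun hx => hpow _ hx⟩
    exact ⟨E.trans (MulEquiv.subgroupCongr h1)⟩

end Groth.Agent.H9Ram
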