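import Groth.Agent.H9Ram.TameBC
import Groth.Agent.H9Ram.RootExt
import Mathlib.FieldTheory.IsSepClosed

/-!
Tamely ramified extensions become unramified over a root of a uniformizer.
-/

namespace Groth.Agent.H9Ram.TameRoot

universe u

open IsLocalRing Polynomial

variable {A K : Type u} [CommRing A] [IsDomain A] [IsDiscreteValuationRing A] [Field K] [Algebra A K]
  [IsFractionRing A K]

section Index

variable {L M : Type u} [Field L] [Field M] [Algebra K L] [Algebra K M] [Algebra L M] [IsScalarTower K L M]
  [FiniteDimensional K M] [Algebra.IsSeparable K M]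

/-- The ramification index after adjoining a root of order a multiple of the tame index. -/
theorem index_eq {π : A} (hπ : Irreducible π) {n m : ℕ} (hn0 : n ≠ 0) (hm0 : m ≠ 0) (hnA : IsUnit (n : A))
    {y : M} (hy : y ^ (n * m) = algebraMap K M (algebraMap A K π))
    (hgen : IntermediateField.adjoin L ({y} : Set M) = ⊤)
    (W : ValuationSubring M) (hW : EtRam.Dominates A ((algebraMap K M).comp (algebraMap A K)) W)
    (htame : TowerExt.TameAt _ (W.comap (algebraMap L M)) (TowerExt.restrict W hW))
    (hidx : letI : Algebra A (W.comap (algebraMap L M)) :=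
        (RingHom.codRestrict ((algebraMap K L).comp (algebraMap A K)) _ (TowerExt.restrict W hW).1).toAlgebra
      Ideal.ramificationIdx' (maximalIdeal A) (maximalIdeal (W.comap (algebraMap L M))) = n) :
    letI : Algebra A W := (RingHom.codRestrict ((algebraMap K M).comp (algebraMap A K)) W hW.1).toAlgebra
    ∀ [IsLocalHom (algebraMap A W)],
      Ideal.ramificationIdx' (maximalIdeal A) (maximalIdeal W) = n * m ∧
        Algebra.IsSeparable (ResidueField A) (ResidueField W) := by
  have : FiniteDimensional K L := FiniteDimensional.left K L M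
  have : FiniteDimensional L M := FiniteDimensional.right K L M
  have : Algebra.IsSeparable K L := Algebra.isSeparable_tower_bot_of_isSeparable K L M
  have : Algebra.IsSeparable L M := Algebra.isSeparable_tower_top_of_isSeparable K L M
  have hV := TowerExt.restrict (L := L) W hW
  let V := W.comap (algebraMap L M)
  let : Algebra A V := (RingHom.codRestrict ((algebraMap K L).comp (algebraMap A K)) V hV.1).toAlgebra
  let : Algebra A W := (RingHom.codRestrict ((algebraMap K M).comp (algebraMap A K)) W hW.1).toAlgebra
  intro _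
  have : IsLocalHom (algebraMap A V) := Dom.isLocalHom hV
  have : IsDiscreteValuationRing V := ValSub.isDVR hV
  have : IsDiscreteValuationRing W := ValSub.isDVR hW
  obtain ⟨hsV, -⟩ := @htame ‹_›
  obtain ⟨t, ht⟩ := IsDiscreteValuationRing.exists_irreducible V
  have hinjA : Function.Injective ((algebraMap K L).comp (algebraMap A K)) :=
    (algebraMap K L).injective.comp (IsFractionRing.injective A K)
  have hiV : Function.Injective (algebraMap A V) := ValSub.codRestrict_injective hinjA hV
  obtain ⟨uV, huV, -⟩ := TameBC.exists_eq_unit_mul_pow hiV hπ ht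
  rw [hidx] at huV
  have ht0 : algebraMap L M (t : L) ≠ 0 := by
    rw [_root_.map_ne_zero]; exact fun h0 => ht.ne_zero (Subtype.ext h0)
  let x : M := y ^ m / algebraMap L M (t : L)
  have hx : x ^ n = algebraMap L M ((uV : V) : L) := by
    rw [div_pow, ← pow_mul, mul_comm m n, hy, div_eq_iff (pow_ne_zero _ ht0),
      IsScalarTower.algebraMap_apply K L M, ← map_pow, ← map_mul]
    exact congrArg _ (congrArg Subtype.val huV)
  let L2 := IntermediateField.adjoin L ({x} : Set M)
  have : IsScalarTower K L2 M := IsScalarTower.of_algebraMap_eq fun c =>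
    (IsScalarTower.algebraMap_apply K L M c).trans <| (IsScalarTower.algebraMap_apply L L2 M _).trans
      (congrArg (algebraMap L2 M) (IsScalarTower.algebraMap_apply K L L2 c).symm)
  have : FiniteDimensional K L2 := FiniteDimensional.left K L2 M
  have : Algebra.IsSeparable K L2 := Algebra.isSeparable_tower_bot_of_isSeparable K L2 M
  let x2 : L2 := ⟨x, IntermediateField.subset_adjoin _ _ rfl⟩
  let V2 := W.comap (algebraMap L2 M)
  have hVV2 : EtRam.Dominates V ((algebraMap L L2).comp (algebraMap V L)) V2 :=
    Dom.self (algebraMap L L2) V2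
  have hV2 : EtRam.Dominates A ((algebraMap K L2).comp (algebraMap A K)) V2 := TowerExt.restrict W hW
  have : IsDiscreteValuationRing V2 := ValSub.isDVR hV2
  have : FiniteDimensional L L2 := FiniteDimensional.left L L2 M
  let : Algebra A V2 := (RingHom.codRestrict ((algebraMap K L2).comp (algebraMap A K)) V2 hV2.1).toAlgebra
  let : Algebra V V2 := (RingHom.codRestrict ((algebraMap L L2).comp (algebraMap V L)) V2 hVV2.1).toAlgebra
  have : IsLocalHom (algebraMap V V2) := Dom.isLocalHom hVV2
  have : IsLocalHom (algebraMap A V2) := Dom.isLocalHom hV2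
  have : IsScalarTower A V V2 := IsScalarTower.of_algebraMap_eq fun a =>
    Subtype.ext (IsScalarTower.algebraMap_apply K L L2 (algebraMap A K a))
  have h2 : TowerExt.UnrAt _ V2 hVV2 := by
    refine UnramGen.unrAt_roots (algebraMap L L2) hVV2 (by simpa using hnA.map (algebraMap A V)) hn0 uV 1
      x2 1 (Subtype.ext hx) (by simp) fun z => ?_
    have hz : z ∈ IntermediateField.adjoin L ({x2} : Set L2) := by
      have : IntermediateField.adjoin L ({x2} : Set L2) = ⊤ := by
        refine IntermediateField.lift_injective L2 ?_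
        rw [IntermediateField.lift_adjoin_simple, IntermediateField.lift_top]
      exact this ▸ IntermediateField.mem_top
    induction hz using IntermediateField.adjoin_induction with
    | mem z hz => exact Subfield.subset_closure (Or.inl (by simp [Set.mem_singleton_iff.mp hz]))
    | algebraMap c => exact Subfield.subset_closure (Or.inr ⟨c, rfl⟩)
    | add z w _ _ hz hw => exact add_mem hz hw
    | inv z _ hz => exact inv_mem hz
    | mul z w _ _ hz hw => exact mul_mem hz hw
  obtain ⟨hw2, hs2⟩ := @h2 ‹_›
  have hiVV2 : Function.Injective (algebraMap V V2) :=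
    ValSub.codRestrict_injective (g := (algebraMap L L2).comp (algebraMap V L))
      ((algebraMap L L2).injective.comp (IsFractionRing.injective V L)) hVV2
  have heV2 : Ideal.ramificationIdx' (maximalIdeal A) (maximalIdeal V2) = n := by
    rw [ValSub.ramificationIdx_mul hiV hiVV2, (ValSub.map_maximalIdeal_eq_iff hiVV2).mp hw2, mul_one]
    exact hidx
  have hxV : x2 ^ n ∈ V2 ∧ x2 ∈ V2 := by
    have h : x2 ^ n ∈ V2 := by
      rw [show x2 ^ n = ((algebraMap V V2 uV : V2) : L2) from Subtype.ext hx]; exact SetLike.coe_mem _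
    exact ⟨h, UnramGen.mem_of_pow_mem V2 hn0 h⟩
  have hxu : IsUnit (⟨x2, hxV.2⟩ : V2) := by
    refine (isUnit_pow_iff hn0).mp ?_
    rw [show (⟨x2, hxV.2⟩ : V2) ^ n = algebraMap V V2 uV from Subtype.ext (Subtype.ext hx)]
    exact uV.isUnit.map _
  have ht2 : Irreducible (algebraMap V V2 t) := by
    rw [IsDiscreteValuationRing.irreducible_iff_uniformizer, ← hw2, ht.maximalIdeal_eq, Ideal.map_span,
      Set.image_singleton]
  have hp : Irreducible (⟨x2, hxV.2⟩ * algebraMap V V2 t) :=
    (irreducible_isUnit_mul hxu).mpr ht2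
  have hgen2 : IntermediateField.adjoin L2 ({y} : Set M) = ⊤ := by
    refine eq_top_iff.mpr ?_
    intro z hzt
    clear hzt
    have hz : z ∈ IntermediateField.adjoin L ({y} : Set M) := hgen ▸ IntermediateField.mem_top
    induction hz using IntermediateField.adjoin_induction with
    | mem z hz => exact IntermediateField.subset_adjoin _ _ hz
    | algebraMap c =>
      rw [IsScalarTower.algebraMap_apply L L2 M]; exact IntermediateField.algebraMap_mem _ _
    | add z w _ _ hz hw => exact add_mem hz hw
    | inv z _ hz => exact inv_mem hz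
    | mul z w _ _ hz hw => exact mul_mem hz hw
  have : Algebra.IsSeparable L2 M := Algebra.isSeparable_tower_top_of_isSeparable L L2 M
  have : FiniteDimensional L2 M := FiniteDimensional.right L L2 M
  have hWV2 : EtRam.Dominates V2 ((algebraMap L2 M).comp (algebraMap V2 L2)) W :=
    Dom.self (algebraMap L2 M) W
  let : Algebra V2 W := (RingHom.codRestrict ((algebraMap L2 M).comp (algebraMap V2 L2)) W hWV2.1).toAlgebra
  have : IsLocalHom (algebraMap V2 W) := Dom.isLocalHom hWV2
  have hroot := TameBC.root_uniformizer (A := V2) (K := L2) hp hm0 (y := y) (by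
    show y ^ m = x * algebraMap L M (t : L)
    rw [div_mul_cancel₀ _ ht0]) hgen2 W hWV2
  obtain ⟨heW, hsW⟩ := hroot
  have : IsScalarTower A V2 W := IsScalarTower.of_algebraMap_eq fun a =>
    Subtype.ext (IsScalarTower.algebraMap_apply K L2 M (algebraMap A K a))
  have hi2 : Function.Injective (algebraMap A V2) :=
    ValSub.codRestrict_injective (g := (algebraMap K L2).comp (algebraMap A K))
      ((algebraMap K L2).injective.comp (IsFractionRing.injective A K)) hV2
  have hiW : Function.Injective (algebraMap V2 W) :=
    ValSub.codRestrict_injective (g := (algebraMap L2 M).comp (algebraMap V2 L2))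
      ((algebraMap L2 M).injective.comp (IsFractionRing.injective V2 L2)) hWV2
  refine ⟨by rw [ValSub.ramificationIdx_mul hi2 hiW, heV2, heW], ?_⟩
  exact (ValSub.isSeparable_residue_iff (R := A) (S := V2) (T := W)).mpr
    ⟨(ValSub.isSeparable_residue_iff (R := A) (S := V) (T := V2)).mpr ⟨hsV, hs2⟩, hsW⟩

end Index

section RootRing

variable {π : A} {e : ℕ} {M : Type u} [Field M] [Algebra K M] [FiniteDimensional K M] [Algebra.IsSeparable K M]

local notation "A'" => AdjoinRoot (X ^ e - C π : A[X])

omit [IsDiscreteValuationRing A] [IsDomain A] [IsFractionRing A K] [FiniteDimensional K M] [Algebra.IsSeparable K M] in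
theorem root_map_pow (j : A' →+* M)
    (hj : j.comp (AdjoinRoot.of (X ^ e - C π)) = (algebraMap K M).comp (algebraMap A K)) :
    j (AdjoinRoot.root _) ^ e = algebraMap K M (algebraMap A K π) := by
  rw [← map_pow, RootExt.root_pow]
  exact RingHom.congr_fun hj π

omit [FiniteDimensional K M] [Algebra.IsSeparable K M] in
/-- Places over the base are places over the ring with a root. -/
theorem dominates_and_injective (hπ : Irreducible π) (he : e ≠ 0) [IsLocalRing A'] (j : A' →+* M)
    (hj : j.comp (AdjoinRoot.of (X ^ e - C π)) = (algebraMap K M).comp (algebraMap A K))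
    {W : ValuationSubring M} (hW : EtRam.Dominates A ((algebraMap K M).comp (algebraMap A K)) W) :
    EtRam.Dominates A' j W ∧ Function.Injective j := by
  obtain ⟨_, hm⟩ := RootExt.isLocalRing_and_maximalIdeal (n := e) hπ he
  have hr := root_map_pow j hj
  have hrW : j (AdjoinRoot.root _) ∈ W := UnramGen.mem_of_pow_mem W he (hr ▸ hW.1 π)
  have hS : ∀ s : A', j s ∈ W := by
    intro s
    induction s using AdjoinRoot.induction_on with
    | ih p =>
      induction p using Polynomial.induction_on' with
      | add p q hp hq => rw [map_add, map_add]; exact add_mem hp hq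
      | monomial k a =>
        rw [← C_mul_X_pow_eq_monomial, map_mul, map_pow, AdjoinRoot.mk_X, AdjoinRoot.mk_C, map_mul, map_pow]
        exact mul_mem ((RingHom.congr_fun hj a).symm ▸ hW.1 a) (pow_mem hrW k)
  have hπm : π ∈ maximalIdeal A := hπ.maximalIdeal_eq ▸ Ideal.mem_span_singleton_self π
  have hlt : W.valuation (j (AdjoinRoot.root _)) < 1 := by
    rw [← pow_lt_one_iff he, ← map_pow, hr]; exact hW.2 π hπm
  refine ⟨⟨hS, fun a ha => ?_⟩, ?_⟩
  · rw [hm, Ideal.mem_span_singleton] at ha
    obtain ⟨b, rfl⟩ := ha
    calc W.valuation (j (AdjoinRoot.root _ * b))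
        = W.valuation (j (AdjoinRoot.root _)) * W.valuation (j b) := by rw [map_mul, map_mul]
      _ ≤ W.valuation (j (AdjoinRoot.root _)) * 1 :=
          mul_le_mul' le_rfl ((W.valuation_le_one_iff _).mpr (hS b))
      _ < 1 := by rwa [mul_one]
  · obtain ⟨_, _, hm'⟩ := RootExt.isDVR (n := e) hπ he
    rw [injective_iff_map_eq_zero]
    intro a ha
    by_contra h0
    have hroot : Irreducible (AdjoinRoot.root (X ^ e - C π : A[X])) :=
      (IsDiscreteValuationRing.irreducible_iff_uniformizer _).mpr hm'
    obtain ⟨k, v, rfl⟩ := IsDiscreteValuationRing.eq_unit_mul_pow_irreducible h0 hroot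
    rw [map_mul, map_pow, mul_eq_zero] at ha
    refine ha.elim (v.isUnit.map j).ne_zero (pow_ne_zero _ fun hz => ?_)
    rw [hz, zero_pow he, eq_comm, _root_.map_eq_zero] at hr
    exact hπ.ne_zero (IsFractionRing.injective A K (hr.trans (map_zero _).symm))

omit [Algebra A K] [IsFractionRing A K] [Algebra K M] [FiniteDimensional K M] [Algebra.IsSeparable K M] in
/-- The ring with a root is totally ramified of index the order of the root. -/
theorem base_index (hπ : Irreducible π) (he : e ≠ 0) [IsDomain A'] [IsDiscreteValuationRing A'] :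
    ∃ _ : IsLocalHom (algebraMap A A'), Ideal.ramificationIdx' (maximalIdeal A) (maximalIdeal A') = e ∧
      Algebra.IsSeparable (ResidueField A) (ResidueField A') := by
  obtain ⟨_, hm⟩ := RootExt.isLocalRing_and_maximalIdeal (n := e) hπ he
  have hr : Irreducible (AdjoinRoot.root (X ^ e - C π : A[X])) :=
    (IsDiscreteValuationRing.irreducible_iff_uniformizer _).mpr hm
  have hmap : (maximalIdeal A).map (algebraMap A A') = maximalIdeal A' ^ e := by
    rw [hm]; exact RootExt.map_maximalIdeal hπ
  have hle : (maximalIdeal A).map (algebraMap A A') ≤ maximalIdeal A' := by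
    rw [hmap]; exact Ideal.pow_le_self he
  have hloc : IsLocalHom (algebraMap A A') :=
    ((local_hom_TFAE (algebraMap A A')).out 0 2).mpr hle
  refine ⟨hloc, Ideal.ramificationIdx'_spec hmap.le ?_, ⟨fun z => ?_⟩⟩
  · rw [hmap, hm, Ideal.span_singleton_pow, Ideal.span_singleton_pow,
      Ideal.span_singleton_le_span_singleton, pow_dvd_pow_iff hr.ne_zero hr.not_isUnit]
    omega
  · obtain ⟨s, rfl⟩ := residue_surjective z
    obtain ⟨a, ha⟩ := RootExt.exists_sub_mem s
    rw [show residue A' s = algebraMap (ResidueField A) (ResidueField A') (residue A a) from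
      sub_eq_zero.mp (by
        show residue A' s - residue A' (algebraMap A A' a) = 0
        rw [← map_sub, residue_eq_zero_iff, hm]; exact ha)]
    exact isSeparable_algebraMap _

/-- Index and residue fields at a place, read over the ring with a root. -/
theorem index_mul (hπ : Irreducible π) (he : e ≠ 0) [IsDomain A'] [IsDiscreteValuationRing A'] (j : A' →+* M)
    (hj : j.comp (AdjoinRoot.of (X ^ e - C π)) = (algebraMap K M).comp (algebraMap A K))
    (W : ValuationSubring M) (hW : EtRam.Dominates A ((algebraMap K M).comp (algebraMap A K)) W) :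
    letI : Algebra A W := (RingHom.codRestrict ((algebraMap K M).comp (algebraMap A K)) W hW.1).toAlgebra
    letI : Algebra A' W :=
      (RingHom.codRestrict j W (dominates_and_injective hπ he j hj hW).1.1).toAlgebra
    ∀ [IsLocalHom (algebraMap A W)] [IsLocalHom (algebraMap A' W)],
      Ideal.ramificationIdx' (maximalIdeal A) (maximalIdeal W) =
          e * Ideal.ramificationIdx' (maximalIdeal A') (maximalIdeal W) ∧
        (Algebra.IsSeparable (ResidueField A) (ResidueField W) ↔
          Algebra.IsSeparable (ResidueField A') (ResidueField W)) := by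
  obtain ⟨hD, hinj⟩ := dominates_and_injective hπ he j hj hW
  let : Algebra A W := (RingHom.codRestrict ((algebraMap K M).comp (algebraMap A K)) W hW.1).toAlgebra
  let : Algebra A' W := (RingHom.codRestrict j W hD.1).toAlgebra
  intro _ _
  have : IsScalarTower A A' W := IsScalarTower.of_algebraMap_eq fun a =>
    Subtype.ext (RingHom.congr_fun hj a).symm
  have := ValSub.isDVR hW
  obtain ⟨_, hidx, hsep⟩ := base_index (e := e) hπ he
  refine ⟨?_, ?_⟩
  · rw [ValSub.ramificationIdx_mul (R := A) (S := A') (T := W) (AdjoinRoot.of.injective_of_degree_ne_zero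
      (by rw [degree_X_pow_sub_C (Nat.pos_of_ne_zero he)]; exact_mod_cast he))
      (ValSub.codRestrict_injective hinj hD), hidx]
  · rw [ValSub.isSeparable_residue_iff (R := A) (S := A') (T := W)]
    exact ⟨fun h => h.2, fun h => ⟨hsep, h⟩⟩

/-- An extension unramified over the ring with a root is tamely ramified. -/
theorem tame_of_unram (hπ : Irreducible π) (hek : (e : ResidueField A) ≠ 0) [IsLocalRing A'] (j : A' →+* M)
    (hj : j.comp (AdjoinRoot.of (X ^ e - C π)) = (algebraMap K M).comp (algebraMap A K))
    (h : EtRam.IsUnramifiedExt A' j) :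
    EtRam.IsTamelyRamified A ((algebraMap K M).comp (algebraMap A K)) := by
  have he : e ≠ 0 := by rintro rfl; simp at hek
  obtain ⟨_, _, -⟩ := RootExt.isDVR (n := e) hπ he
  intro W hW
  obtain ⟨hD, hinj⟩ := dominates_and_injective hπ he j hj hW
  show TowerExt.TameAt _ W hW
  unfold TowerExt.TameAt
  let : Algebra A W := (RingHom.codRestrict ((algebraMap K M).comp (algebraMap A K)) W hW.1).toAlgebra
  let : Algebra A' W := (RingHom.codRestrict j W hD.1).toAlgebra
  intro _
  have : IsLocalHom (algebraMap A' W) := Dom.isLocalHom hD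
  have := ValSub.isDVR hW
  obtain ⟨hw, hs⟩ := h W hD
  have h1 := (ValSub.map_maximalIdeal_eq_iff (R := A') (S := W) (ValSub.codRestrict_injective hinj hD)).mp hw
  obtain ⟨hidx, hsep⟩ := index_mul hπ he j hj W hW
  refine ⟨hsep.mpr hs, fun p _ hc => ?_⟩
  rw [hidx, h1, mul_one]
  exact TameBC.charP_not_dvd hek p hc

end RootRing

/-- A tamely ramified extension becomes unramified over a root of a uniformizer, of any order
prime to the residue characteristic that is a multiple of a fixed one. -/
theorem exists_index {L : Type u} [Field L] [Algebra K L] [FiniteDimensional K L] [Algebra.IsSeparable K L]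
    {π : A} (hπ : Irreducible π)
    (h : EtRam.IsTamelyRamified A ((algebraMap K L).comp (algebraMap A K))) :
    ∃ e₀ : ℕ, 0 < e₀ ∧ (e₀ : ResidueField A) ≠ 0 ∧
      ∀ d : ℕ, 0 < d → (d : ResidueField A) ≠ 0 →
        ∃ (L' : Type u) (_ : Field L') (_ : Algebra K L')
          (_ : Algebra (AdjoinRoot (X ^ (d * e₀) - C π : A[X])) L') (_ : L →ₐ[K] L'),
          FiniteDimensional K L' ∧ Algebra.IsSeparable K L' ∧
          (algebraMap (AdjoinRoot (X ^ (d * e₀) - C π : A[X])) L').comp (AdjoinRoot.of (X ^ (d * e₀) - C π)) =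
            (algebraMap K L').comp (algebraMap A K) ∧
          ∀ [IsLocalRing (AdjoinRoot (X ^ (d * e₀) - C π : A[X]))],
            EtRam.IsUnramifiedExt (AdjoinRoot (X ^ (d * e₀) - C π : A[X]))
              (algebraMap (AdjoinRoot (X ^ (d * e₀) - C π : A[X])) L') := by
  classical
  let s := (Finset.Icc 1 (Module.finrank K L)).filter fun i : ℕ => (i : ResidueField A) ≠ 0
  refine ⟨∏ i ∈ s, i, Finset.prod_pos fun i hi => (Finset.mem_Icc.mp (Finset.mem_filter.mp hi).1).1,
    ?_, fun d hd hdk => ?_⟩
  · rw [Nat.cast_prod]; exact Finset.prod_ne_zero_iff.mpr fun i hi => (Finset.mem_filter.mp hi).2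
  have he : d * ∏ i ∈ s, i ≠ 0 := mul_ne_zero hd.ne'
    (Finset.prod_pos fun i hi => (Finset.mem_Icc.mp (Finset.mem_filter.mp hi).1).1).ne'
  have hek : ((d * ∏ i ∈ s, i : ℕ) : ResidueField A) ≠ 0 := by
    rw [Nat.cast_mul, Nat.cast_prod]
    exact mul_ne_zero hdk (Finset.prod_ne_zero_iff.mpr fun i hi => (Finset.mem_filter.mp hi).2)
  let e := d * ∏ i ∈ s, i
  have heA : IsUnit (e : A) := by rw [← residue_ne_zero_iff_isUnit, map_natCast]; exact hek
  let Ω := SeparableClosure K
  let σ : L →ₐ[K] Ω := IsSepClosed.lift
  let : Algebra L Ω := σ.toRingHom.toAlgebra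
  have : IsScalarTower K L Ω := IsScalarTower.of_algebraMap_eq fun c => (σ.commutes c).symm
  have : NeZero (e : Ω) := ⟨by
    rw [← map_natCast (algebraMap K Ω), ← map_natCast (algebraMap A K)]
    exact (_root_.map_ne_zero _).mpr (heA.map (algebraMap A K)).ne_zero⟩
  obtain ⟨y, hy⟩ := IsSepClosed.exists_pow_nat_eq (algebraMap K Ω (algebraMap A K π)) e
  let L' := IntermediateField.adjoin L ({y} : Set Ω)
  have : Algebra.IsSeparable L Ω := Algebra.isSeparable_tower_top_of_isSeparable K L Ω
  have : FiniteDimensional L L' :=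
    IntermediateField.adjoin.finiteDimensional (Algebra.IsSeparable.isSeparable L y).isIntegral
  have : FiniteDimensional K L' := FiniteDimensional.trans K L L'
  have : IsScalarTower K L' Ω := IsScalarTower.of_algebraMap_eq fun c =>
    (IsScalarTower.algebraMap_apply K L Ω c).trans <| (IsScalarTower.algebraMap_apply L L' Ω _).trans
      (congrArg (algebraMap L' Ω) (IsScalarTower.algebraMap_apply K L L' c).symm)
  have : Algebra.IsSeparable K L' := Algebra.isSeparable_tower_bot_of_isSeparable K L' Ω
  let y' : L' := ⟨y, IntermediateField.subset_adjoin _ _ rfl⟩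
  have hy' : y' ^ e = algebraMap K L' (algebraMap A K π) :=
    Subtype.ext (hy.trans ((IsScalarTower.algebraMap_apply K L' Ω _)))
  let j : AdjoinRoot (X ^ e - C π : A[X]) →+* L' :=
    AdjoinRoot.lift ((algebraMap K L').comp (algebraMap A K)) y' (by
      rw [eval₂_sub, eval₂_X_pow, eval₂_C, hy', RingHom.comp_apply, sub_self])
  have hj : j.comp (AdjoinRoot.of (X ^ e - C π)) = (algebraMap K L').comp (algebraMap A K) :=
    RingHom.ext fun a => by simp [j]
  let : Algebra (AdjoinRoot (X ^ e - C π : A[X])) L' := j.toAlgebra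
  refine ⟨L', inferInstance, inferInstance, ‹_›, IsScalarTower.toAlgHom K L L', inferInstance, inferInstance,
    hj, ?_⟩
  intro _
  obtain ⟨_, _, -⟩ := RootExt.isDVR (n := e) hπ he
  intro W hD
  have hW : EtRam.Dominates A ((algebraMap K L').comp (algebraMap A K)) W := by
    obtain ⟨_, -⟩ := base_index (e := e) hπ he
    have h2 := Dom.trans (algebraMap A (AdjoinRoot (X ^ e - C π : A[X]))) hD
    rwa [AdjoinRoot.algebraMap_eq, RingHom.algebraMap_toAlgebra, hj] at h2
  obtain ⟨-, hinj⟩ := dominates_and_injective hπ he j hj hW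
  show TowerExt.UnrAt _ W hD
  unfold TowerExt.UnrAt
  let : Algebra A W := (RingHom.codRestrict ((algebraMap K L').comp (algebraMap A K)) W hW.1).toAlgebra
  let : Algebra (AdjoinRoot (X ^ e - C π : A[X])) W := (RingHom.codRestrict j W hD.1).toAlgebra
  intro _
  have : IsLocalHom (algebraMap A W) := Dom.isLocalHom hW
  have := ValSub.isDVR hW
  have hV := TowerExt.restrict (L := L) W hW
  let V := W.comap (algebraMap L L')
  let : Algebra A V := (RingHom.codRestrict ((algebraMap K L).comp (algebraMap A K)) V hV.1).toAlgebra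
  have : IsLocalHom (algebraMap A V) := Dom.isLocalHom hV
  have := ValSub.isDVR hV
  let : Algebra A L := ((algebraMap K L).comp (algebraMap A K)).toAlgebra
  have : IsScalarTower A K L := IsScalarTower.of_algebraMap_eq fun _ => rfl
  have : IsScalarTower A V L := IsScalarTower.of_algebraMap_eq fun _ => rfl
  have hiV : Function.Injective (algebraMap A V) :=
    ValSub.codRestrict_injective (g := (algebraMap K L).comp (algebraMap A K))
      ((algebraMap K L).injective.comp (IsFractionRing.injective A K)) hV
  obtain ⟨hfin, hef⟩ := S7132.result A V K L hiV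
  obtain ⟨t, ht⟩ := IsDiscreteValuationRing.exists_irreducible V
  obtain ⟨-, -, hn0⟩ := TameBC.exists_eq_unit_mul_pow hiV hπ ht
  set n := Ideal.ramificationIdx' (maximalIdeal A) (maximalIdeal V) with hn
  obtain ⟨-, hpV⟩ := h V hV
  have hnk : (n : ResidueField A) ≠ 0 := by
    intro h0
    rcases CharP.char_is_prime_or_zero (ResidueField A) (ringChar (ResidueField A)) with hp | hp
    · exact hpV _ hp inferInstance ((CharP.cast_eq_zero_iff _ _ _).mp h0)
    · exact hn0 (by simpa [hp] using (CharP.cast_eq_zero_iff _ (ringChar (ResidueField A)) n).mp h0)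
  have hns : n ∈ s := Finset.mem_filter.mpr ⟨Finset.mem_Icc.mpr ⟨Nat.pos_of_ne_zero hn0,
    le_trans (Nat.le_mul_of_pos_right n (Module.finrank_pos (R := ResidueField A) (M := ResidueField V))) hef⟩,
    hnk⟩
  obtain ⟨m, hm⟩ : n ∣ e := (Finset.dvd_prod_of_mem _ hns).mul_left d
  have hm0 : m ≠ 0 := by rintro rfl; exact he (by rw [show d * ∏ i ∈ s, i = e from rfl, hm, mul_zero])
  have hgen : IntermediateField.adjoin L ({y'} : Set L') = ⊤ := by
    refine IntermediateField.lift_injective L' ?_
    rw [IntermediateField.lift_adjoin_simple, IntermediateField.lift_top]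
  have hnA : IsUnit (n : A) := by rw [← residue_ne_zero_iff_isUnit, map_natCast]; exact hnk
  have hT : TowerExt.TameAt _ V hV := by
    unfold TowerExt.TameAt
    intro _
    exact h V hV
  have hkey := index_eq (L := L) hπ hn0 hm0 hnA (y := y') (hm ▸ hy') hgen W hW hT rfl
  obtain ⟨heW, hsW⟩ := hkey
  obtain ⟨hidx, hsep⟩ := index_mul hπ he j hj W hW
  refine ⟨(ValSub.map_maximalIdeal_eq_iff (ValSub.codRestrict_injective hinj hD)).mpr ?_, hsep.mp hsW⟩
  refine mul_left_cancel₀ he (hidx.symm.trans ?_)
  rw [heW, mul_one, ← hm]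

end Groth.Agent.H9Ram.TameRoot
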