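import Groth.Agent.H9Ram.TameBC
import Groth.Agent.H9Ram.LocalExt
import Mathlib.AlgebraicGeometry.Morphisms.Etale
import Mathlib.AlgebraicGeometry.Morphisms.Finite
import Mathlib.AlgebraicGeometry.ResidueField
import Mathlib.RingTheory.RingHom.Finite

/-!
Residue field extensions of a finite étale cover at a place extending to the base.
-/

namespace Groth.Agent.H9Ram.TameScheme

universe u

open AlgebraicGeometry CategoryTheory CategoryTheory.Limits IsLocalRing

/-- A finite étale cover is tamely ramified at a place that extends to a point of the base. -/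
theorem tame_of_lift {X Y : Scheme.{u}} (f : Y ⟶ X) [IsFinite f] [Etale f] (y : Y)
    (A : ValuationSubring (X.residueField (f.base y))) [IsDiscreteValuationRing A]
    (g : Spec (CommRingCat.of A) ⟶ X)
    (hg : Spec.map (CommRingCat.ofHom A.subtype) ≫ g = X.fromSpecResidueField (f.base y)) :
    EtRam.IsTamelyRamified A ((f.residueFieldMap y).hom.comp A.subtype) := by
  let κx := X.residueField (f.base y)
  let κy := Y.residueField y
  let g₀ : κx →+* κy := (f.residueFieldMap y).hom
  let P := pullback f g
  have : IsAffineHom (pullback.snd f g) := MorphismProperty.pullback_snd f g inferInstance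
  have : IsAffine P := isAffine_of_isAffineHom (pullback.snd f g)
  let p' : Spec Γ(P, ⊤) ⟶ Spec (CommRingCat.of A) := P.isoSpec.inv ≫ pullback.snd f g
  have hfin : IsFinite p' := by
    have : IsFinite (pullback.snd f g) := MorphismProperty.pullback_snd f g inferInstance
    exact MorphismProperty.comp_mem _ _ _ inferInstance this
  have het : Etale p' := by
    have : Etale (pullback.snd f g) := MorphismProperty.pullback_snd f g inferInstance
    exact MorphismProperty.comp_mem _ _ _ inferInstance this
  let φT : CommRingCat.of A ⟶ Γ(P, ⊤) := Spec.preimage p'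
  have hφT : Spec.map φT = p' := Spec.map_preimage p'
  rw [← hφT, IsFinite.SpecMap_iff] at hfin
  rw [← hφT, HasRingHomProperty.Spec_iff (P := @Etale)] at het
  let : Algebra A Γ(P, ⊤) := φT.hom.toAlgebra
  have : Algebra.Etale A Γ(P, ⊤) := het
  have : Module.Finite A Γ(P, ⊤) := hfin
  have hcomm : Y.fromSpecResidueField y ≫ f = Spec.map (CommRingCat.ofHom (g₀.comp A.subtype)) ≫ g := by
    rw [← Scheme.Hom.SpecMap_residueFieldMap_fromSpecResidueField, ← hg,
      CommRingCat.ofHom_comp, Spec.map_comp, Category.assoc]
    rfl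
  let h : Spec κy ⟶ Spec Γ(P, ⊤) :=
    pullback.lift (Y.fromSpecResidueField y) (Spec.map (CommRingCat.ofHom (g₀.comp A.subtype))) hcomm ≫
      P.isoSpec.hom
  let ψ : Γ(P, ⊤) ⟶ κy := Spec.preimage h
  have hψ : Spec.map ψ = h := Spec.map_preimage h
  have hψA : φT ≫ ψ = CommRingCat.ofHom (g₀.comp A.subtype) := by
    apply Spec.map_injective
    rw [Spec.map_comp, hψ, hφT]
    simp only [h, p', Category.assoc, Iso.hom_inv_id_assoc]
    exact pullback.lift_snd _ _ _
  have hψA' : ∀ a : A, ψ.hom (algebraMap A Γ(P, ⊤) a) = g₀ (a : κx) := fun a =>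
    RingHom.congr_fun (congrArg CommRingCat.Hom.hom hψA) a
  let q : Spec Γ(P, ⊤) ⟶ Y := P.isoSpec.inv ≫ pullback.fst f g
  have hq : Spec.map ψ ≫ q = Y.fromSpecResidueField y := by
    rw [hψ]
    simp only [h, q, Category.assoc, Iso.hom_inv_id_assoc]
    exact pullback.lift_fst _ _ _
  -- the residue field upstairs is generated by the sections
  let E : Subfield κy := Subfield.closure (Set.range ψ.hom ∪ Set.range g₀)
  have hE : ∀ x : κy, x ∈ E := by
    let ψE : Γ(P, ⊤) ⟶ CommRingCat.of E := CommRingCat.ofHom
      (ψ.hom.codRestrict E.toSubring fun t => Subfield.subset_closure (Or.inl ⟨t, rfl⟩))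
    let j : CommRingCat.of E ⟶ κy := CommRingCat.ofHom E.subtype
    let r : Spec (CommRingCat.of E) ⟶ Y := Spec.map ψE ≫ q
    have hr : Spec.map j ≫ r = Y.fromSpecResidueField y := by
      rw [← Category.assoc, ← Spec.map_comp]; exact hq
    have hpt : r (closedPoint E) = y := by
      have h1 := congrArg (fun m => m.base (closedPoint κy)) hr
      simp only [Scheme.Hom.comp_apply] at h1
      rw [show (Spec.map j).base (closedPoint κy) = closedPoint E from Subsingleton.elim _ _] at h1
      exact h1.trans (Scheme.fromSpecResidueField_apply y _)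
    let φ : κy ⟶ CommRingCat.of E :=
      (Y.residueFieldCongr hpt.symm).hom ≫ Scheme.descResidueField (Scheme.stalkClosedPointTo r)
    have hφ : Spec.map φ ≫ Y.fromSpecResidueField y = r := by
      rw [Spec.map_comp, Category.assoc, Scheme.residueFieldCongr_fromSpecResidueField,
        Scheme.descResidueField_stalkClosedPointTo_fromSpecResidueField]
    have hid : φ ≫ j = 𝟙 κy := by
      apply Spec.map_injective
      rw [← cancel_mono (Y.fromSpecResidueField y), Spec.map_comp, Category.assoc, hφ, hr, Spec.map_id,
        Category.id_comp]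
    intro x
    have h1 := RingHom.congr_fun (congrArg CommRingCat.Hom.hom hid) x
    have h2 : ((φ.hom x : E) : κy) = x := h1
    exact h2 ▸ (φ.hom x : E).2
  let : Algebra κx κy := g₀.toAlgebra
  have hint : ∀ t, IsIntegral κx (ψ.hom t) := fun t => by
    obtain ⟨p, hp, hpt⟩ := (Algebra.IsIntegral.isIntegral (R := A) t)
    refine ⟨p.map A.subtype, hp.map _, ?_⟩
    rw [Polynomial.eval₂_map, show (algebraMap κx κy).comp A.subtype = ψ.hom.comp (algebraMap A Γ(P, ⊤)) from
      RingHom.ext fun a => (hψA' a).symm, ← Polynomial.hom_eval₂, hpt, map_zero]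
  have : FiniteDimensional κx κy := by
    obtain ⟨S, hS⟩ := Module.Finite.fg_top (R := A) (M := Γ(P, ⊤))
    let F := IntermediateField.adjoin κx (ψ.hom '' (S : Set Γ(P, ⊤)))
    have hfinite : (ψ.hom '' (S : Set Γ(P, ⊤))).Finite := S.finite_toSet.image _
    have := hfinite.to_subtype
    have : FiniteDimensional κx F :=
      IntermediateField.finiteDimensional_adjoin fun z ⟨t, _, ht⟩ => ht ▸ hint t
    have hF : F = ⊤ := by
      refine eq_top_iff.mpr ?_
      intro x _
      refine (Subfield.closure_le (t := F.toSubfield)).mpr ?_ (hE x)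
      rintro _ (⟨t, rfl⟩ | ⟨c, rfl⟩)
      · have ht : t ∈ Submodule.span A (S : Set Γ(P, ⊤)) := hS ▸ Submodule.mem_top
        induction ht using Submodule.span_induction with
        | mem z hz => exact IntermediateField.subset_adjoin _ _ ⟨z, hz, rfl⟩
        | zero => rw [map_zero]; exact zero_mem _
        | add z w _ _ hz hw => rw [map_add]; exact add_mem hz hw
        | smul c z _ hz =>
          rw [Algebra.smul_def, map_mul, hψA']
          exact mul_mem (F.algebraMap_mem _) hz
      · exact F.algebraMap_mem c
    rw [hF] at this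
    exact Module.Finite.equiv IntermediateField.topEquiv.toLinearEquiv
  intro W hW
  have hW' : EtRam.Dominates A ((algebraMap κx κy).comp (algebraMap A κx)) W := hW
  have := LocalExt.isDVR (K := κx) (L := κy) hW'
  have hmem : ∀ t, ψ.hom t ∈ W := fun t => by
    let : Algebra A W := (RingHom.codRestrict (g₀.comp A.subtype) W hW.1).toAlgebra
    obtain ⟨p, hp, hpt⟩ := (Algebra.IsIntegral.isIntegral (R := A) t)
    have hi : IsIntegral W (ψ.hom t) := ⟨p.map (algebraMap A W), hp.map _, by
      rw [Polynomial.eval₂_map, show (algebraMap W κy).comp (algebraMap A W) = ψ.hom.comp (algebraMap A Γ(P, ⊤)) from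
        RingHom.ext fun a => (hψA' a).symm, ← Polynomial.hom_eval₂, hpt, map_zero]⟩
    obtain ⟨w, hw⟩ := IsIntegrallyClosed.isIntegral_iff.mp hi
    exact hw ▸ w.2
  have hu : TowerExt.UnrAt _ W hW' := UnramGen.unrAt_of_gen (B := A) (L := κx) (algebraMap κx κy) hW'
    Γ(P, ⊤) (RingHom.codRestrict ψ.hom W.toSubring hmem) (fun a => hψA' a) (fun x => hE x)
  have ht : TowerExt.TameAt _ W hW' := by
    unfold TowerExt.TameAt
    intro _
    exact TameBC.tameAt_of_unrAt (g := (algebraMap κx κy).comp (algebraMap A κx)) (h := hW')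
      ((algebraMap κx κy).injective.comp (IsFractionRing.injective A κx)) (@hu)
  exact @ht

end Groth.Agent.H9Ram.TameScheme
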