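import Groth.Agent.H9Ram.Dominates
import Groth.Agent.H02CA.CurveValSubring
import Groth.Agent.H12AlgSp.ValExtension
import Mathlib.RingTheory.DedekindDomain.IntegralClosure
import Mathlib.RingTheory.DedekindDomain.AdicValuation
import Mathlib.RingTheory.DedekindDomain.Dvr
import Mathlib.RingTheory.EssentialFiniteness
import Mathlib.RingTheory.Valuation.Discrete.Basic
import Mathlib.NumberTheory.RamificationInertia.Ramification

/-!
Valuation subrings dominating a discrete valuation ring in a finite separable extension.
-/

namespace Groth.Agent.H9Ram.ValSub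

universe u

open IsLocalRing IsDedekindDomain

section Finite

variable {A K L : Type u} [CommRing A] [IsDomain A] [IsDiscreteValuationRing A] [Field K]
  [Algebra A K] [IsFractionRing A K] [Field L] [Algebra K L] [FiniteDimensional K L]
  [Algebra.IsSeparable K L]

/-- A dominating valuation subring is a discrete valuation ring, essentially of finite type. -/
theorem main {V : ValuationSubring L}
    (h : EtRam.Dominates A ((algebraMap K L).comp (algebraMap A K)) V) :
    IsDiscreteValuationRing V ∧
      (RingHom.codRestrict ((algebraMap K L).comp (algebraMap A K)) V h.1).EssFiniteType := by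
  let : Algebra A L := ((algebraMap K L).comp (algebraMap A K)).toAlgebra
  have : IsScalarTower A K L := IsScalarTower.of_algebraMap_eq fun _ => rfl
  let B := integralClosure A L
  have : IsDedekindDomain B := IsIntegralClosure.isDedekindDomain A K L B
  have : IsFractionRing B L := integralClosure.isFractionRing_of_finite_extension K L
  have : Module.Finite A B := IsIntegralClosure.finite A K L B
  have hB : (algebraMap B L).range ≤ V.toSubring := by
    rintro _ ⟨b, rfl⟩
    let : Algebra A V := (RingHom.codRestrict ((algebraMap K L).comp (algebraMap A K)) V h.1).toAlgebra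
    have : IsScalarTower A V L := IsScalarTower.of_algebraMap_eq fun _ => rfl
    obtain ⟨y, hy⟩ := IsIntegrallyClosed.isIntegral_iff.mp (b.2.tower_top (A := V))
    show (b : L) ∈ V.toSubring
    rw [← hy]
    exact y.2
  have hne : V ≠ ⊤ := by
    rintro rfl
    obtain ⟨π, hπ⟩ := IsDiscreteValuationRing.exists_irreducible A
    have h1 := h.2 π ((mem_maximalIdeal π).mpr hπ.not_isUnit)
    have hne : algebraMap K L (algebraMap A K π) ≠ 0 := by
      rw [map_ne_zero]
      exact IsFractionRing.to_map_ne_zero_of_mem_nonZeroDivisors
        (mem_nonZeroDivisors_of_ne_zero hπ.ne_zero)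
    have h2 : ((algebraMap K L).comp (algebraMap A K)) π ∈ (⊤ : ValuationSubring L).nonunits :=
      (ValuationSubring.mem_nonunits_iff (A := (⊤ : ValuationSubring L))).mpr h1
    rw [ValuationSubring.mem_nonunits_iff_or] at h2
    exact h2.elim hne fun h3 => h3 trivial
  obtain ⟨v, rfl⟩ := (Groth.Agent.H02CA.valuationSubring_ne_top_containing_iff V).mp ⟨hB, hne⟩
  refine ⟨inferInstance, ?_⟩
  let V := (v.valuation L).valuationSubring
  let : Algebra B V := ((algebraMap B L).codRestrict V.toSubring fun b => hB ⟨b, rfl⟩).toAlgebra
  let : Algebra A V := (RingHom.codRestrict ((algebraMap K L).comp (algebraMap A K)) V h.1).toAlgebra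
  have : IsScalarTower A B V := IsScalarTower.of_algebraMap_eq fun _ => rfl
  have hmem : ∀ b : B, IsUnit (algebraMap B V b) ↔ b ∉ v.asIdeal := fun b => by
    rw [← v.valuation_lt_one_iff_mem (K := L), ← not_iff_not, not_not]
    show ¬ IsUnit _ ↔ (v.valuation L) _ < 1
    rw [← mem_nonunits_iff, ← mem_maximalIdeal, ← ValuationSubring.coe_mem_nonunits_iff,
      ValuationSubring.mem_nonunits_iff, ← (v.valuation L).isEquiv_valuation_valuationSubring.lt_one_iff_lt_one]
    rfl
  have : IsLocalization v.asIdeal.primeCompl V := {
    map_units := fun b => (hmem b).mpr b.2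
    surj := fun y => by
      obtain ⟨n, d, hnd⟩ := v.exists_primeCompl_mul_eq_of_integer (y : L)
        ((Valuation.mem_valuationSubring_iff _ _).mp y.2)
      exact ⟨⟨n, d⟩, Subtype.ext hnd⟩
    exists_of_eq := fun {x y} hxy =>
      ⟨1, congrArg _ (IsFractionRing.injective B L (congrArg (fun z : V => (z : L)) hxy :))⟩ }
  have : Algebra.EssFiniteType B V := Algebra.EssFiniteType.of_isLocalization V v.asIdeal.primeCompl
  exact Algebra.EssFiniteType.comp A B V

theorem isDVR {V : ValuationSubring L}
    (h : EtRam.Dominates A ((algebraMap K L).comp (algebraMap A K)) V) :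
    IsDiscreteValuationRing V := (main h).1

end Finite

section DVR

variable {R S T : Type*} [CommRing R] [IsDomain R] [IsDiscreteValuationRing R] [CommRing S] [IsDomain S]
  [IsDiscreteValuationRing S] [Algebra R S] [IsLocalHom (algebraMap R S)]

/-- Weakly unramified means ramification index one. -/
theorem map_maximalIdeal_eq_iff (hinj : Function.Injective (algebraMap R S)) :
    (maximalIdeal R).map (algebraMap R S) = maximalIdeal S ↔
      Ideal.ramificationIdx' (maximalIdeal R) (maximalIdeal S) = 1 := by
  obtain ⟨ϖ, hϖ⟩ := IsDiscreteValuationRing.exists_irreducible S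
  have hne : (maximalIdeal R).map (algebraMap R S) ≠ ⊥ := fun h0 => by
    rw [Ideal.map_eq_bot_iff_of_injective hinj] at h0
    exact IsDiscreteValuationRing.not_a_field R h0
  obtain ⟨n, hn⟩ := IsDiscreteValuationRing.ideal_eq_span_pow_irreducible hne hϖ
  have hidx : Ideal.ramificationIdx' (maximalIdeal R) (maximalIdeal S) = n := by
    refine Ideal.ramificationIdx'_spec ?_ ?_
    · rw [hn, hϖ.maximalIdeal_eq, Ideal.span_singleton_pow]
    · rw [hn, hϖ.maximalIdeal_eq, Ideal.span_singleton_pow, Ideal.span_singleton_le_span_singleton,
        pow_dvd_pow_iff hϖ.ne_zero hϖ.not_isUnit]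
      omega
  rw [hidx, hn, hϖ.maximalIdeal_eq]
  refine ⟨fun h => ?_, fun h => by rw [h, pow_one]⟩
  rw [Ideal.span_singleton_eq_span_singleton] at h
  have h' : Associated (ϖ ^ n) (ϖ ^ 1) := by rwa [pow_one]
  exact le_antisymm ((pow_dvd_pow_iff hϖ.ne_zero hϖ.not_isUnit).mp h'.dvd)
    ((pow_dvd_pow_iff hϖ.ne_zero hϖ.not_isUnit).mp h'.symm.dvd)

variable [CommRing T] [IsDomain T] [IsDiscreteValuationRing T] [Algebra S T] [IsLocalHom (algebraMap S T)]
  [Algebra R T] [IsScalarTower R S T]

/-- Ramification indices multiply. -/
theorem ramificationIdx_mul (h₁ : Function.Injective (algebraMap R S))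
    (h₂ : Function.Injective (algebraMap S T)) :
    Ideal.ramificationIdx' (maximalIdeal R) (maximalIdeal T) =
      Ideal.ramificationIdx' (maximalIdeal R) (maximalIdeal S) *
        Ideal.ramificationIdx' (maximalIdeal S) (maximalIdeal T) := by
  have : FaithfulSMul R S := (faithfulSMul_iff_algebraMap_injective R S).mpr h₁
  have : FaithfulSMul S T := (faithfulSMul_iff_algebraMap_injective S T).mpr h₂
  have : (maximalIdeal S).LiesOver (maximalIdeal R) := ⟨(maximalIdeal_comap (algebraMap R S)).symm⟩
  have : (maximalIdeal T).LiesOver (maximalIdeal S) := ⟨(maximalIdeal_comap (algebraMap S T)).symm⟩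
  exact Ideal.ramificationIdx'_algebra_tower' _ _ _

open Algebra in
/-- Separable residue extensions in a tower. -/
theorem isSeparable_residue_iff [IsLocalHom (algebraMap R T)] :
    Algebra.IsSeparable (ResidueField R) (ResidueField T) ↔
      Algebra.IsSeparable (ResidueField R) (ResidueField S) ∧
        Algebra.IsSeparable (ResidueField S) (ResidueField T) := by
  have : IsScalarTower (ResidueField R) (ResidueField S) (ResidueField T) :=
    IsScalarTower.of_algebraMap_eq fun x => by
      obtain ⟨r, rfl⟩ := residue_surjective x
      show residue T (algebraMap R T r) = residue T (algebraMap S T (algebraMap R S r))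
      rw [← IsScalarTower.algebraMap_apply]
  exact ⟨fun h => ⟨Algebra.isSeparable_tower_bot_of_isSeparable (ResidueField R) (ResidueField S)
      (ResidueField T),
    Algebra.isSeparable_tower_top_of_isSeparable (ResidueField R) (ResidueField S) (ResidueField T)⟩,
    fun ⟨h₁, h₂⟩ => Algebra.IsSeparable.trans (ResidueField R) (ResidueField S) (ResidueField T)⟩

end DVR

section Field

variable {K L : Type u} [Field K] [Field L]

theorem inclOfComap_injective (f : K →+* L) (W : ValuationSubring L) :
    Function.Injective (EtRam.inclOfComap W f) := fun _ _ h =>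
  Subtype.ext (f.injective (congrArg Subtype.val h))

/-- The structure map of a dominating valuation subring is injective when the map to the field is. -/
theorem codRestrict_injective {A : Type u} [CommRing A] [IsLocalRing A] {g : A →+* L}
    (hg : Function.Injective g) {V : ValuationSubring L} (h : EtRam.Dominates A g V) :
    Function.Injective (RingHom.codRestrict g V h.1) := fun _ _ e => hg (congrArg Subtype.val e)

/-- A valuation subring extends to a larger field. -/
theorem exists_comap_eq (f : K →+* L) (V : ValuationSubring K) :
    ∃ W : ValuationSubring L, V = W.comap f :=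
  (H12AlgSp.exists_comap_eq f V).imp fun _ h => by
    ext x
    exact (h x).symm

end Field

end Groth.Agent.H9Ram.ValSub
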