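import Groth.Agent.H9Ram.LocalExt
import Groth.Agent.H9Ram.ValSub
import Groth.Agent.H9Ram.TameBC
import Groth.Agent.H12AlgSp.ValExtension
import Groth.Agent.S7132
import Mathlib.RingTheory.Nakayama
import Mathlib.RingTheory.DedekindDomain.AdicValuation

/-!
Totally ramified extensions of a discrete valuation ring and their composita.
-/

namespace Groth.Agent.H9Ram.TotRam

universe u

open IsLocalRing IsDedekindDomain
open scoped TensorProduct

variable {A K K₁ : Type u} [CommRing A] [IsDomain A] [IsDiscreteValuationRing A] [Field K] [Algebra A K]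
  [IsFractionRing A K] [Field K₁] [Algebra K K₁] [FiniteDimensional K K₁] [Algebra.IsSeparable K K₁]

/-- The unique place of a totally ramified extension is finite over the base. -/
theorem finite (ht : EtRam.IsTotallyRamified A ((algebraMap K K₁).comp (algebraMap A K)))
    (V : ValuationSubring K₁) (hV : EtRam.Dominates A ((algebraMap K K₁).comp (algebraMap A K)) V) :
    letI : Algebra A V := (RingHom.codRestrict ((algebraMap K K₁).comp (algebraMap A K)) V hV.1).toAlgebra
    Module.Finite A V := by
  let : Algebra A V := (RingHom.codRestrict ((algebraMap K K₁).comp (algebraMap A K)) V hV.1).toAlgebra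
  let : Algebra A K₁ := ((algebraMap K K₁).comp (algebraMap A K)).toAlgebra
  have : IsScalarTower A K K₁ := IsScalarTower.of_algebraMap_eq fun _ => rfl
  have : IsScalarTower A V K₁ := IsScalarTower.of_algebraMap_eq fun _ => rfl
  let S := integralClosure A K₁
  have : IsDedekindDomain S := IsIntegralClosure.isDedekindDomain A K K₁ S
  have : IsFractionRing S K₁ := integralClosure.isFractionRing_of_finite_extension K K₁
  have : Algebra.IsIntegral A S := IsIntegralClosure.isIntegral_algebra A K₁
  have hinjS : Function.Injective (algebraMap A S) := fun a b e =>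
    IsFractionRing.injective A K ((algebraMap K K₁).injective (congrArg Subtype.val e))
  obtain ⟨π, hπ⟩ := IsDiscreteValuationRing.exists_irreducible A
  have key : IsIntegralClosure V A K₁ := by
    refine ⟨Subtype.val_injective, fun {x} => ⟨fun hx => ?_, ?_⟩⟩
    · obtain ⟨y, hy⟩ := IsIntegrallyClosed.isIntegral_iff.mp (hx.tower_top (A := V))
      exact ⟨y, hy⟩
    · rintro ⟨y, rfl⟩
      have hmem : ∀ v : HeightOneSpectrum S, v.valuation K₁ (y : K₁) ≤ 1 := by
        intro v
        have hD : EtRam.Dominates A ((algebraMap K K₁).comp (algebraMap A K)) (v.valuation K₁).valuationSubring := by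
          refine ⟨fun a => ?_, fun a ha => ?_⟩
          · exact v.valuation_le_one (algebraMap A S a)
          · have hmax : (v.asIdeal.comap (algebraMap A S)).IsMaximal :=
              Ideal.isMaximal_comap_of_isIntegral_of_isMaximal _
            have hav : algebraMap A S a ∈ v.asIdeal := by
              rw [← eq_maximalIdeal hmax] at ha; exact ha
            rw [← (v.valuation K₁).isEquiv_valuation_valuationSubring.lt_one_iff_lt_one]
            exact (v.valuation_lt_one_iff_mem (algebraMap A S a)).mpr hav
        exact (Valuation.mem_valuationSubring_iff _ _).mp (ht.2.1 V _ hV hD ▸ y.2)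
      obtain ⟨s, hs⟩ := HeightOneSpectrum.mem_integers_of_valuation_le_one K₁ (y : K₁) hmem
      exact (show (algebraMap V K₁ y) = (s : K₁) from hs.symm) ▸ s.2
  exact IsIntegralClosure.finite A K K₁ V

/-- The ramification index of a totally ramified extension is the degree. -/
theorem finrank_le (ht : EtRam.IsTotallyRamified A ((algebraMap K K₁).comp (algebraMap A K)))
    (V : ValuationSubring K₁) (hV : EtRam.Dominates A ((algebraMap K K₁).comp (algebraMap A K)) V) :
    letI : Algebra A V := (RingHom.codRestrict ((algebraMap K K₁).comp (algebraMap A K)) V hV.1).toAlgebra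
    Module.finrank K K₁ ≤ Ideal.ramificationIdx' (maximalIdeal A) (maximalIdeal V) := by
  let : Algebra A V := (RingHom.codRestrict ((algebraMap K K₁).comp (algebraMap A K)) V hV.1).toAlgebra
  let : Algebra A K₁ := ((algebraMap K K₁).comp (algebraMap A K)).toAlgebra
  have : IsScalarTower A K K₁ := IsScalarTower.of_algebraMap_eq fun _ => rfl
  have : IsScalarTower A V K₁ := IsScalarTower.of_algebraMap_eq fun _ => rfl
  have : IsLocalHom (algebraMap A V) := Dom.isLocalHom hV
  have : Module.Finite A V := finite ht V hV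
  have := ValSub.isDVR hV
  obtain ⟨π, hπ⟩ := IsDiscreteValuationRing.exists_irreducible A
  obtain ⟨t, htt⟩ := IsDiscreteValuationRing.exists_irreducible V
  have hiV : Function.Injective (algebraMap A V) := fun a b e =>
    IsFractionRing.injective A K ((algebraMap K K₁).injective (congrArg Subtype.val e))
  obtain ⟨u, hu, -⟩ := TameBC.exists_eq_unit_mul_pow hiV hπ htt
  set e := Ideal.ramificationIdx' (maximalIdeal A) (maximalIdeal V)
  let N : Submodule A V := Submodule.span A (Set.range fun i : Fin e => t ^ (i : ℕ))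
  have hstep : ∀ j ≤ e, ∀ x : V, ∃ n ∈ N, ∃ y : V, x = n + t ^ j * y := by
    intro j
    induction j with
    | zero => exact fun _ x => ⟨0, zero_mem _, x, by simp⟩
    | succ j ih =>
      intro hj x
      obtain ⟨n, hn, y, rfl⟩ := ih (by omega) x
      obtain ⟨a, ha⟩ := ht.2.2 V hV (residue V y)
      have ha' : y - algebraMap A V a ∈ maximalIdeal V := by
        rw [← residue_eq_zero_iff, map_sub, sub_eq_zero]; exact ha.symm
      rw [htt.maximalIdeal_eq, Ideal.mem_span_singleton] at ha'
      obtain ⟨z, hz⟩ := ha'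
      refine ⟨n + a • t ^ j, add_mem hn (Submodule.smul_mem _ _
        (Submodule.subset_span ⟨⟨j, by omega⟩, rfl⟩)), z, ?_⟩
      rw [Algebra.smul_def, pow_succ, mul_assoc, ← hz]
      ring
  have htop : N = ⊤ := by
    refine top_le_iff.mp (Submodule.le_of_le_smul_of_le_jacobson_bot Module.Finite.fg_top
      (maximalIdeal_le_jacobson _) ?_)
    intro x _
    obtain ⟨n, hn, y, rfl⟩ := hstep e le_rfl x
    refine Submodule.mem_sup.mpr ⟨n, hn, _, ?_, rfl⟩
    have : t ^ e * y = π • ((u⁻¹ : Vˣ) * y) := by
      rw [Algebra.smul_def, hu, mul_mul_mul_comm, Units.mul_inv, one_mul]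
    rw [this]
    exact Submodule.smul_mem_smul (hπ.maximalIdeal_eq ▸ Ideal.mem_span_singleton_self π) Submodule.mem_top
  have hspan : Submodule.span K (Set.range fun i : Fin e => ((t : K₁) ^ (i : ℕ))) = ⊤ := by
    refine eq_top_iff.mpr ?_
    intro x _
    have hV' : ∀ v : V, (v : K₁) ∈ Submodule.span K (Set.range fun i : Fin e => ((t : K₁) ^ (i : ℕ))) := by
      intro v
      have hv : v ∈ N := htop ▸ Submodule.mem_top
      induction hv using Submodule.span_induction with
      | mem z hz => obtain ⟨i, rfl⟩ := hz; exact Submodule.subset_span ⟨i, rfl⟩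
      | zero => exact zero_mem _
      | add z w _ _ hz hw => exact add_mem hz hw
      | smul a z _ hz =>
        rw [show ((a • z : V) : K₁) = algebraMap A K a • (z : K₁) by
          rw [Algebra.smul_def, Algebra.smul_def]; rfl]
        exact Submodule.smul_mem _ _ hz
    obtain ⟨m, hm⟩ := IsIntegral.exists_multiple_integral_of_isLocalization (nonZeroDivisors A) x
      (IsIntegral.of_finite K x)
    obtain ⟨y, hy⟩ := IsIntegrallyClosed.isIntegral_iff.mp (hm.tower_top (A := V))
    have hm0 : algebraMap A K m ≠ 0 := IsFractionRing.to_map_ne_zero_of_mem_nonZeroDivisors m.2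
    have hxy : x = (algebraMap A K m)⁻¹ • (y : K₁) := by
      rw [show (y : K₁) = m • x from hy, Submonoid.smul_def, ← algebraMap_smul K (m : A) x, inv_smul_smul₀ hm0]
    exact hxy ▸ Submodule.smul_mem _ _ (hV' y)
  have h2 := finrank_range_le_card (R := K) fun i : Fin e => ((t : K₁) ^ (i : ℕ))
  rw [Set.finrank, hspan, finrank_top, Fintype.card_fin] at h2
  exact h2

variable {B L : Type u} [CommRing B] [IsDomain B] [IsDiscreteValuationRing B] [Algebra A B]
  [IsLocalHom (algebraMap A B)] [Field L] [Algebra B L] [IsFractionRing B L] [Algebra K L] [Algebra A L]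
  [IsScalarTower A K L] [IsScalarTower A B L]
  {M : Type u} [Field M] [Algebra K M] [Algebra L M] [Algebra K₁ M] [IsScalarTower K L M]
  [IsScalarTower K K₁ M]

/-- At a place of a compositum, over a weakly unramified extension upstairs, the totally ramified
extension stays totally ramified of the same degree. -/
theorem compositum (hinj : Function.Injective (algebraMap A B)) (hw : EtRam.IsWeaklyUnramified A B)
    (ht : EtRam.IsTotallyRamified A ((algebraMap K K₁).comp (algebraMap A K)))
    (hgen : Algebra.adjoin L (Set.range (algebraMap K₁ M)) = ⊤) (W : ValuationSubring M)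
    (hW : EtRam.Dominates B ((algebraMap L M).comp (algebraMap B L)) W) :
    (maximalIdeal (W.comap (algebraMap K₁ M))).map (EtRam.inclOfComap W (algebraMap K₁ M)) = maximalIdeal W ∧
      Module.finrank K K₁ ≤ Module.finrank L M := by
  have hfinM : FiniteDimensional L M := by
    let ψ : L ⊗[K] K₁ →ₐ[L] M :=
      Algebra.TensorProduct.lift (Algebra.ofId L M) (IsScalarTower.toAlgHom K K₁ M) fun _ _ => Commute.all _ _
    refine Module.Finite.of_surjective ψ.toLinearMap fun x => ?_
    have hle : Algebra.adjoin L (Set.range (algebraMap K₁ M)) ≤ ψ.range :=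
      Algebra.adjoin_le fun _ ⟨c, hc⟩ => ⟨1 ⊗ₜ c, by simp [ψ, hc]⟩
    exact hle (hgen ▸ Algebra.mem_top)
  have := LocalExt.isDVR (A := B) (K := L) hW
  let f := algebraMap K₁ M
  let V := W.comap f
  have hcomp : ∀ a : A, f (algebraMap K K₁ (algebraMap A K a)) = algebraMap L M (algebraMap B L (algebraMap A B a)) :=
    fun a => by
      rw [← IsScalarTower.algebraMap_apply K K₁ M, ← IsScalarTower.algebraMap_apply A B L,
        IsScalarTower.algebraMap_apply A K L, ← IsScalarTower.algebraMap_apply K L M]
  have hV : EtRam.Dominates A ((algebraMap K K₁).comp (algebraMap A K)) V := by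
    refine Dom.comap _ ?_
    rw [show (algebraMap K₁ M).comp ((algebraMap K K₁).comp (algebraMap A K)) =
      ((algebraMap L M).comp (algebraMap B L)).comp (algebraMap A B) from RingHom.ext hcomp]
    exact Dom.trans (algebraMap A B) hW
  have := ValSub.isDVR hV
  let : Algebra A V := (RingHom.codRestrict ((algebraMap K K₁).comp (algebraMap A K)) V hV.1).toAlgebra
  have : IsLocalHom (algebraMap A V) := Dom.isLocalHom hV
  let jB : B →+* W := RingHom.codRestrict ((algebraMap L M).comp (algebraMap B L)) W hW.1
  let : Algebra B W := jB.toAlgebra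
  have : IsLocalHom (algebraMap B W) := Dom.isLocalHom hW
  let : Algebra V W := (EtRam.inclOfComap W f).toAlgebra
  have : IsLocalHom (algebraMap V W) := EtRam.isLocalHom_inclOfComap W f
  let : Algebra A W := (jB.comp (algebraMap A B)).toAlgebra
  have : IsScalarTower A B W := IsScalarTower.of_algebraMap_eq fun _ => rfl
  have : IsScalarTower A V W := IsScalarTower.of_algebraMap_eq fun a => Subtype.ext (hcomp a).symm
  have hiV : Function.Injective (algebraMap A V) := fun a b e =>
    IsFractionRing.injective A K ((algebraMap K K₁).injective (congrArg Subtype.val e))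
  let iV : V →ₐ[A] W := IsScalarTower.toAlgHom A V W
  let iB : B →ₐ[A] W := IsScalarTower.toAlgHom A B W
  let φ : V ⊗[A] B →ₐ[A] W := Algebra.TensorProduct.lift iV iB fun _ _ => Commute.all _ _
  have hφV : ∀ x : V, φ (x ⊗ₜ 1) = EtRam.inclOfComap W f x := fun x => by simp [φ, iV, iB]; rfl
  have hφB : ∀ x : B, φ (1 ⊗ₜ x) = jB x := fun x => by simp [φ, iV, iB]; rfl
  -- the residue field downstairs is that of the base
  have hbij : Function.Bijective (algebraMap (ResidueField A) (ResidueField V)) :=
    ⟨(algebraMap (ResidueField A) (ResidueField V)).injective, fun z => by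
      obtain ⟨a, ha⟩ := ht.2.2 V hV z
      exact ⟨residue A a, ha⟩⟩
  let r : V →ₐ[A] ResidueField A :=
    ((AlgEquiv.ofBijective (Algebra.ofId (ResidueField A) (ResidueField V)) hbij).symm.restrictScalars A).toAlgHom.comp
      (IsScalarTower.toAlgHom A V (ResidueField V))
  let q : V ⊗[A] B →ₐ[A] ResidueField B :=
    Algebra.TensorProduct.lift ((IsScalarTower.toAlgHom A (ResidueField A) (ResidueField B)).comp r)
      (IsScalarTower.toAlgHom A B (ResidueField B)) fun _ _ => Commute.all _ _
  obtain ⟨t, htt⟩ := IsDiscreteValuationRing.exists_irreducible V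
  have htW : EtRam.inclOfComap W f t ∈ maximalIdeal W :=
    map_nonunit _ t ((mem_maximalIdeal t).mpr htt.not_isUnit)
  have hdec : ∀ x : V ⊗[A] B, ∃ b : B, x - 1 ⊗ₜ b ∈ Ideal.span {t ⊗ₜ[A] (1 : B)} := by
    intro x
    induction x with
    | zero => exact ⟨0, by simp⟩
    | add x y hx hy =>
      obtain ⟨b, hb⟩ := hx
      obtain ⟨c, hc⟩ := hy
      refine ⟨b + c, ?_⟩
      rw [TensorProduct.tmul_add, add_sub_add_comm]
      exact add_mem hb hc
    | tmul v b =>
      obtain ⟨a, ha⟩ := ht.2.2 V hV (residue V v)
      have ha' : v - algebraMap A V a ∈ maximalIdeal V := by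
        rw [← residue_eq_zero_iff, map_sub, sub_eq_zero]; exact ha.symm
      rw [htt.maximalIdeal_eq, Ideal.mem_span_singleton] at ha'
      obtain ⟨z, hz⟩ := ha'
      refine ⟨algebraMap A B a * b, Ideal.mem_span_singleton.mpr ⟨z ⊗ₜ b, ?_⟩⟩
      rw [Algebra.TensorProduct.tmul_mul_tmul, one_mul, ← hz, TensorProduct.sub_tmul,
        ← Algebra.smul_def a b, ← TensorProduct.smul_tmul, Algebra.smul_def, mul_one]
  have hqt : q (t ⊗ₜ 1) = 0 := by
    simp [q, r, (residue_eq_zero_iff t).mpr ((mem_maximalIdeal t).mpr htt.not_isUnit)]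
  have hker : RingHom.ker q.toRingHom ≤ Ideal.span {t ⊗ₜ[A] (1 : B)} := by
    intro x hx
    obtain ⟨b, hb⟩ := hdec x
    obtain ⟨z, hz⟩ := Ideal.mem_span_singleton.mp hb
    have hb0 : b ∈ maximalIdeal B := by
      rw [← residue_eq_zero_iff]
      have h1 := congrArg q hz
      rw [map_sub, map_mul, hqt, zero_mul, show q x = 0 from hx, zero_sub, neg_eq_zero] at h1
      simpa [q] using h1
    rw [← sub_add_cancel x ((1 : V) ⊗ₜ b)]
    refine add_mem hb ?_
    rw [← hw] at hb0
    show b ∈ (Ideal.span {t ⊗ₜ[A] (1 : B)}).comap (Algebra.TensorProduct.includeRight : B →ₐ[A] V ⊗[A] B)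
    refine Ideal.map_le_iff_le_comap.mpr ?_ hb0
    intro a ha
    have ha' : algebraMap A V a ∈ maximalIdeal V := map_nonunit _ a ha
    rw [htt.maximalIdeal_eq, Ideal.mem_span_singleton] at ha'
    obtain ⟨c, hc⟩ := ha'
    refine Ideal.mem_span_singleton.mpr ⟨c ⊗ₜ 1, ?_⟩
    show (1 : V) ⊗ₜ[A] algebraMap A B a = _
    rw [← Algebra.TensorProduct.tmul_one_eq_one_tmul, hc, Algebra.TensorProduct.tmul_mul_tmul, mul_one]
  have hgenT : ∀ x : M, x ∈ Subfield.closure (Set.range fun a => ((φ.toRingHom a : W) : M)) := by
    intro x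
    have hx : x ∈ Algebra.adjoin L (Set.range (algebraMap K₁ M)) := hgen ▸ Algebra.mem_top
    induction hx using Algebra.adjoin_induction with
    | mem x hx =>
      obtain ⟨c, rfl⟩ := hx
      obtain ⟨a, b, -, rfl⟩ := IsFractionRing.div_surjective V c
      rw [map_div₀]
      exact div_mem (Subfield.subset_closure ⟨a ⊗ₜ 1, congrArg Subtype.val (hφV a)⟩)
        (Subfield.subset_closure ⟨b ⊗ₜ 1, congrArg Subtype.val (hφV b)⟩)
    | algebraMap c =>
      obtain ⟨a, b, -, rfl⟩ := IsFractionRing.div_surjective B c
      rw [map_div₀]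
      exact div_mem (Subfield.subset_closure ⟨1 ⊗ₜ a, congrArg Subtype.val (hφB a)⟩)
        (Subfield.subset_closure ⟨1 ⊗ₜ b, congrArg Subtype.val (hφB b)⟩)
    | add x y _ _ hx hy => exact add_mem hx hy
    | mul x y _ _ hx hy => exact mul_mem hx hy
  have hq : Function.Surjective q.toRingHom := fun z => by
    obtain ⟨b, rfl⟩ := residue_surjective z
    exact ⟨1 ⊗ₜ b, by simp [q]⟩
  have hτW : φ.toRingHom (t ⊗ₜ 1) = EtRam.inclOfComap W f t := hφV t
  obtain ⟨hm, -⟩ := LocalExt.generated φ.toRingHom q.toRingHom (τ := t ⊗ₜ 1) (hτW ▸ htW)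
    (fun h0 => htt.ne_zero (ValSub.inclOfComap_injective _ W ((hτW.symm.trans h0).trans (map_zero _).symm)))
    hgenT hq hker
  have hwW : (maximalIdeal V).map (EtRam.inclOfComap W f) = maximalIdeal W := by
    rw [htt.maximalIdeal_eq, Ideal.map_span, Set.image_singleton, hm, hτW]
  refine ⟨hwW, ?_⟩
  have hiW : Function.Injective (algebraMap V W) := ValSub.inclOfComap_injective f W
  have hiBW : Function.Injective (algebraMap B W) :=
    ValSub.codRestrict_injective (g := (algebraMap L M).comp (algebraMap B L))
      ((algebraMap L M).injective.comp (IsFractionRing.injective B L)) hW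
  have h1 := ValSub.ramificationIdx_mul (R := A) (S := V) (T := W) hiV hiW
  have h2 := ValSub.ramificationIdx_mul (R := A) (S := B) (T := W) hinj hiBW
  rw [(ValSub.map_maximalIdeal_eq_iff (R := V) (S := W) hiW).mp hwW, mul_one] at h1
  rw [(ValSub.map_maximalIdeal_eq_iff (R := A) (S := B) hinj).mp hw, one_mul] at h2
  have hd := finrank_le ht V hV
  rw [← h1, h2] at hd
  let : Algebra B M := ((algebraMap L M).comp (algebraMap B L)).toAlgebra
  have : IsScalarTower B L M := IsScalarTower.of_algebraMap_eq fun _ => rfl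
  have : IsScalarTower B W M := IsScalarTower.of_algebraMap_eq fun _ => rfl
  obtain ⟨_, hef⟩ := S7132.result B W L M hiBW
  exact le_trans hd (le_trans (Nat.le_mul_of_pos_right _
    (Module.finrank_pos (R := ResidueField B) (M := ResidueField W))) hef)

end Groth.Agent.H9Ram.TotRam
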